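import Mathlib

set_option autoImplicit false
set_option linter.unusedSectionVars false

/-! T-CIT, M12: `PSL₂(q)` (`q = 9` or `q ≥ 7` prime) and `PSL₃(4)` have no module over `𝔽₂` on which all
nontrivial elements of odd order are fixed point free. -/

namespace H29.CITM12

universe u v

section abs

variable {X : Type v} [Group X] {V : Type u} [CommGroup V] [MulDistribMulAction X V]

/-- the action as endomorphisms of the additive group -/
def rho (V : Type u) [CommGroup V] [MulDistribMulAction X V] (g : X) : AddMonoid.End (Additive V) where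
  toFun v := Additive.ofMul (g • v.toMul)
  map_zero' := by simp
  map_add' a b := by simp

theorem rho_apply (g : X) (v : Additive V) : rho V g v = Additive.ofMul (g • v.toMul) := rfl

theorem rho_one : rho V (1 : X) = 1 := by
  ext v; simp [rho_apply]

theorem rho_mul (g h : X) : rho V (g * h) = rho V g * rho V h := by
  ext v; simp [rho_apply, mul_smul]

theorem add_self (h2 : ∀ v : V, v * v = 1) (r : AddMonoid.End (Additive V)) : r + r = 0 := by
  ext v
  exact h2 (r v).toMul

theorem add_eq_zero_iff (h2 : ∀ v : V, v * v = 1) {r s : AddMonoid.End (Additive V)} :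
    r + s = 0 ↔ r = s := by
  constructor
  · intro h
    have : r + s + s = s := by rw [h, zero_add]
    rwa [add_assoc, add_self h2, add_zero] at this
  · rintro rfl; exact add_self h2 r

/-- `g + 1` is invertible if `g` is fixed point free -/
theorem isUnit_add_one [Finite V] (h2 : ∀ v : V, v * v = 1) {g : X}
    (hfix : ∀ v : V, g • v = v → v = 1) : IsUnit (rho V g + 1) := by
  have hinj : Function.Injective (rho V g + 1 : AddMonoid.End (Additive V)) := by
    rw [injective_iff_map_eq_zero]
    intro v hv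
    have h1 : rho V g v + v = 0 := hv
    have h3 : v + v = 0 := h2 v.toMul
    have h4 : rho V g v = v := by
      have : rho V g v + v + v = v := by rw [h1, zero_add]
      rwa [add_assoc, h3, add_zero] at this
    exact hfix v.toMul h4
  have hfin : Finite (Additive V) := ‹Finite V›
  have hbij : Function.Bijective (rho V g + 1 : AddMonoid.End (Additive V)) :=
    Finite.injective_iff_bijective.mp hinj
  let e : Additive V ≃+ Additive V := AddEquiv.ofBijective (rho V g + 1) hbij
  refine ⟨⟨rho V g + 1, (e.symm : Additive V →+ Additive V), ?_, ?_⟩, rfl⟩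
  · ext v; exact e.apply_symm_apply v
  · ext v; exact e.symm_apply_apply v

/-- an element of order three -/
theorem cube_rel (h2 : ∀ v : V, v * v = 1) {g : X} (hg : g * g * g = 1)
    (hfix : ∀ v : V, g • v = v → v = 1) : rho V (g * g) = 1 + rho V g := by
  rw [← add_eq_zero_iff h2]
  ext v
  have h1 : g • (g • g • v.toMul * (v.toMul * g • v.toMul)) =
      g • g • v.toMul * (v.toMul * g • v.toMul) := by
    have h3 : g • g • g • v.toMul = v.toMul := by rw [← mul_smul, ← mul_smul, hg, one_smul]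
    rw [smul_mul', smul_mul', h3]
    rw [mul_comm (g • v.toMul), mul_comm (g • g • v.toMul) (v.toMul * _), mul_assoc,
      mul_comm (g • g • v.toMul)]
  have := hfix _ h1
  rw [rho_mul]
  exact this

theorem nonfix_of [Nontrivial V] {g h : X}
    (hfix : ∀ x : X, x ≠ 1 → Odd (orderOf x) → ∀ v : V, x • v = v → v = 1)
    (hne : g ≠ h) (ho : Odd (orderOf (h⁻¹ * g))) : rho V g ≠ rho V h := by
  intro he
  obtain ⟨v, hv⟩ := exists_ne (1 : V)
  apply hv
  refine hfix (h⁻¹ * g) (fun h1 => hne (inv_mul_eq_one.mp h1).symm) ho v ?_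
  have h1 : rho V g (Additive.ofMul v) = rho V h (Additive.ofMul v) := by rw [he]
  have h2 : g • v = h • v := h1
  rw [mul_smul, h2, inv_smul_smul]

theorem odd_of_cube {g : X} (hg : g * g * g = 1) : Odd (orderOf g) := by
  have h1 : orderOf g ∣ 3 := by
    apply orderOf_dvd_of_pow_eq_one
    rw [pow_succ, pow_two, hg]
  exact Odd.of_dvd_nat (by decide) h1

/-- two commuting elements of order three generating a group of order nine -/
theorem three_three [Nontrivial V] (h2 : ∀ v : V, v * v = 1)
    (hfix : ∀ x : X, x ≠ 1 → Odd (orderOf x) → ∀ v : V, x • v = v → v = 1) {a b : X}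
    (hab : a * b = b * a) (ha : a * a * a = 1) (hb : b * b * b = 1) (ha1 : a ≠ 1) (hb1 : b ≠ 1)
    (hab1 : a * b ≠ 1) (hne : a ≠ b) : False := by
  have hab3 : (a * b) * (a * b) * (a * b) = 1 := by
    have h : Commute a b := hab
    have h1 := h.mul_pow 3
    rw [show (a * b) ^ 3 = a * b * (a * b) * (a * b) by rw [pow_succ, pow_two]] at h1
    rw [h1, pow_succ, pow_two, ha, pow_succ, pow_two, hb, one_mul]
  have e1 := cube_rel h2 ha (hfix a ha1 (odd_of_cube ha))
  have e2 := cube_rel h2 hb (hfix b hb1 (odd_of_cube hb))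
  have e3 := cube_rel h2 hab3 (hfix (a * b) hab1 (odd_of_cube hab3))
  have e4 : rho V (a * b * (a * b)) = rho V (a * a) * rho V (b * b) := by
    rw [← rho_mul]
    congr 1
    rw [mul_assoc, ← mul_assoc b a b, ← hab]; group
  rw [e4, e1, e2, rho_mul] at e3
  have e5 : rho V a = rho V b := by
    rw [← add_eq_zero_iff h2]
    have : (1 + rho V a) * (1 + rho V b) + (1 + rho V a * rho V b) = rho V a + rho V b +
        ((1 + 1) + (rho V a * rho V b + rho V a * rho V b)) := by
      noncomm_ring
    rw [e3, add_self h2, add_self h2, add_self h2, add_zero, add_zero] at this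
    exact this.symm
  refine nonfix_of hfix hne ?_ e5
  apply odd_of_cube
  have h : Commute b⁻¹ a := (show Commute a b from hab).symm.inv_left
  have h1 := h.mul_pow 3
  rw [show (b⁻¹ * a) ^ 3 = b⁻¹ * a * (b⁻¹ * a) * (b⁻¹ * a) by rw [pow_succ, pow_two]] at h1
  rw [h1, inv_pow, pow_succ, pow_two, hb, pow_succ, pow_two, ha, inv_one, one_mul]

end abs

section ring

variable {R : Type*} [Ring R] [Nontrivial R] {F : Type*} [Field F]

/-- the algebraic part of M12, prime case -/
theorem ring_contra (h2 : ∀ r : R, r + r = 0) (U : F → R) (H : Fˣ → R) (w : R)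
    (hU0 : U 0 = 1) (hUadd : ∀ a b, U (a + b) = U a * U b) (hH1 : H 1 = 1)
    (hHU : ∀ (c : Fˣ) (b : F), H c * U b = U ((c : F) * c * b) * H c)
    (hHw : ∀ c : Fˣ, H c * (H c * w) = H (c * c) * w)
    (hHmul : ∀ c d : Fˣ, H (c * d) = H c * H d)
    (hwH : ∀ c : Fˣ, w * H c⁻¹ = H c * w)
    (hw : ∀ b : Fˣ, w * U b = H b⁻¹ + U (-(b⁻¹ : Fˣ)) * w)
    (hunit : ∀ b : F, b ≠ 0 → IsUnit (U b + 1))
    (n2 : (2 : F) ≠ 0) (n3 : (3 : F) ≠ 0) (n5 : (5 : F) ≠ 0) : False := by
  have hadd : ∀ r s : R, r + s = 0 ↔ r = s := by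
    intro r s
    constructor
    · intro h
      have : r + s + s = s := by rw [h, zero_add]
      rwa [add_assoc, h2, add_zero] at this
    · rintro rfl; exact h2 r
  have hUcomm : ∀ a b, U a * U b = U b * U a := by
    intro a b; rw [← hUadd, ← hUadd, add_comm]
  set two : Fˣ := Units.mk0 2 n2 with htwo
  have hsum_unit : ∀ a b : F, a ≠ b → IsUnit (U a + U b) := by
    intro a b hab
    have h1 : U a + U b = U b * (U (a - b) + 1) := by
      rw [mul_add, ← hUadd, mul_one]; congr 2; ring
    rw [h1]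
    have h3 : IsUnit (U b) := ⟨⟨U b, U (-b), by rw [← hUadd]; simp [hU0], by
      rw [← hUadd]; simp [hU0]⟩, rfl⟩
    exact h3.mul (hunit _ (sub_ne_zero.mpr hab))
  -- (ii)
  have hii : (U (-2) + U (-(two⁻¹ : Fˣ))) * w = H two⁻¹ + (U 1 + U (-1)) := by
    have h1 := hw 1
    have h3 := hw two
    have h4 : w * U (two : Fˣ) = w * U (1 : Fˣ) * U (1 : Fˣ) := by
      rw [mul_assoc, ← hUadd]
      congr 2
      rw [htwo]; simp only [Units.val_mk0, Units.val_one]; norm_num
    rw [h4, h1, add_mul, mul_assoc, h1] at h3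
    simp only [inv_one, hH1, Units.val_one] at h3
    have h5 : U 1 + (U (-1) + U (-2) * w) = H two⁻¹ + U (-(two⁻¹ : Fˣ)) * w := by
      rw [← h3, mul_add, mul_one, ← mul_assoc, ← hUadd, one_mul]
      norm_num
    have h6 := (hadd _ _).mpr h5
    rw [add_mul]
    rw [← hadd]
    rw [← h6]
    abel
  set four : Fˣ := two * two with hfour
  have v2 : ((two : Fˣ) : F) = 2 := rfl
  have v4 : ((four : Fˣ) : F) = 4 := by rw [hfour, Units.val_mul, v2]; norm_num
  have vi : ((two⁻¹ : Fˣ) : F) = 1 / 2 := by rw [Units.val_inv_eq_inv_val, v2, one_div]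
  rw [vi] at hii
  have hHinv : ∀ c : Fˣ, H c * H c⁻¹ = 1 := by intro c; rw [← hHmul, mul_inv_cancel, hH1]
  -- step A
  have hA : (U (-8) + U (-2)) * (H four * w) = H two⁻¹ + (U 4 + U (-4)) := by
    have h1 : H two * ((U (-2) + U (-(1 / 2))) * w) * H two⁻¹ =
        H two * (H two⁻¹ + (U 1 + U (-1))) * H two⁻¹ := by rw [hii]
    have h3 : H two * ((U (-2) + U (-(1 / 2))) * w) * H two⁻¹ =
        (U (-8) + U (-2)) * (H four * w) := by
      have e1 : H two * U (-2) = U (-8) * H two := by rw [hHU, v2]; norm_num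
      have e2 : H two * U (-(1 / 2)) = U (-2) * H two := by
        rw [hHU, v2]; congr 2; field_simp <;> norm_num
      calc H two * ((U (-2) + U (-(1 / 2))) * w) * H two⁻¹
          = (H two * U (-2) + H two * U (-(1 / 2))) * (w * H two⁻¹) := by noncomm_ring
        _ = (U (-8) + U (-2)) * (H two * (H two * w)) := by rw [e1, e2, hwH]; noncomm_ring
        _ = _ := by rw [hHw]
    have h4 : H two * (H two⁻¹ + (U 1 + U (-1))) * H two⁻¹ = H two⁻¹ + (U 4 + U (-4)) := by
      have e1 : H two * U 1 = U 4 * H two := by rw [hHU, v2]; norm_num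
      have e2 : H two * U (-1) = U (-4) * H two := by rw [hHU, v2]; norm_num
      calc H two * (H two⁻¹ + (U 1 + U (-1))) * H two⁻¹
          = (H two * H two⁻¹) * H two⁻¹ + (H two * U 1 + H two * U (-1)) * H two⁻¹ := by
            simp only [mul_add, add_mul]
        _ = H two⁻¹ + (U 4 + U (-4)) * (H two * H two⁻¹) := by
            rw [hHinv, one_mul, e1, e2, ← add_mul, mul_assoc, hHinv]
        _ = _ := by rw [hHinv, mul_one]
    rw [← h3, h1, h4]
  -- step B
  have hB : (U (-32) + U (-8)) * (H four * w) = H two + (U 16 + U (-16)) * H four := by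
    have e1 : H four * U (-2) = U (-32) * H four := by rw [hHU, v4]; norm_num
    have e2 : H four * U (-(1 / 2)) = U (-8) * H four := by
      rw [hHU, v4]; congr 2; field_simp <;> norm_num
    have e3 : H four * U 1 = U 16 * H four := by rw [hHU, v4]; norm_num
    have e4 : H four * U (-1) = U (-16) * H four := by rw [hHU, v4]; norm_num
    have e5 : H four * H two⁻¹ = H two := by rw [← hHmul, hfour, mul_inv_cancel_right]
    calc (U (-32) + U (-8)) * (H four * w)
        = (U (-32) * H four + U (-8) * H four) * w := by noncomm_ring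
      _ = H four * ((U (-2) + U (-(1 / 2))) * w) := by rw [← e1, ← e2]; noncomm_ring
      _ = H four * H two⁻¹ + (H four * U 1 + H four * U (-1)) := by rw [hii]; noncomm_ring
      _ = _ := by rw [e3, e4, e5]; noncomm_ring
  set S1 := U (-8) + U (-2) with hS1
  set S2 := U (-32) + U (-8) with hS2
  have hcu : ∀ a b, Commute (U a) (U b) := hUcomm
  have hcc : ∀ a b c, Commute (U a + U b) (U c) := fun a b c => (hcu _ _).add_left (hcu _ _)
  have hSS : S2 * S1 = S1 * S2 := ((hcc _ _ _).add_right (hcc _ _ _))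
  -- step C
  have hC : S2 * (U 4 + U (-4)) * H 1 + S2 * H two⁻¹ + S1 * H two +
      S1 * (U 16 + U (-16)) * H four = 0 := by
    have h1 : S2 * (H two⁻¹ + (U 4 + U (-4))) = S1 * (H two + (U 16 + U (-16)) * H four) := by
      rw [← hA, ← hB, ← mul_assoc, hSS, mul_assoc]
    have h3 := (hadd _ _).mpr h1
    rw [← h3, hH1, mul_one]
    simp only [mul_add, add_mul, mul_assoc]
    abel
  -- elimination
  let Φ : Fˣ → R → R := fun c x => U 1 * x * U (-1) + U (1 - (c : F) * c) * x
  have hΦadd : ∀ c x y, Φ c (x + y) = Φ c x + Φ c y := by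
    intro c x y
    simp only [Φ, mul_add, add_mul]
    abel
  have hΦ0 : ∀ c, Φ c 0 = 0 := by intro c; simp [Φ]
  have hΦt : ∀ (c d : Fˣ) (e : R), (∀ b, Commute e (U b)) →
      Φ c (e * H d) = (e * (U (1 - (d : F) * d) + U (1 - (c : F) * c))) * H d := by
    intro c d e he
    have e1 : H d * U (-1) = U (-((d : F) * d)) * H d := by rw [hHU]; congr 2; ring
    have e2 : U 1 * U (-((d : F) * d)) = U (1 - (d : F) * d) := by rw [← hUadd]; congr 1; ring
    calc U 1 * (e * H d) * U (-1) + U (1 - (c : F) * c) * (e * H d)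
        = (U 1 * e) * (H d * U (-1)) + (U (1 - (c : F) * c) * e) * H d := by
          simp only [mul_assoc]
      _ = (e * U 1) * (U (-((d : F) * d)) * H d) + (e * U (1 - (c : F) * c)) * H d := by
          rw [e1, (he 1).eq, (he _).eq]
      _ = _ := by rw [← e2]; simp only [mul_assoc, mul_add, add_mul]
  have hΦk : ∀ (c : Fˣ) (e : R), (∀ b, Commute e (U b)) → Φ c (e * H c) = 0 := by
    intro c e he
    rw [hΦt c c e he, h2, mul_zero, zero_mul]
  have hCe : ∀ (e : R) (a b : F), (∀ b, Commute e (U b)) → ∀ x, Commute (e * (U a + U b)) (U x) :=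
    fun e a b he x => (he x).mul_left (hcc a b x)
  have c1 : ∀ b, Commute S1 (U b) := fun b => hcc _ _ b
  have c2 : ∀ b, Commute S2 (U b) := fun b => hcc _ _ b
  have k1 := congrArg (Φ two⁻¹) hC
  rw [hΦadd, hΦadd, hΦadd, hΦ0, hΦk _ _ c2, hΦt _ _ _ (hCe _ _ _ c2), hΦt _ _ _ c1,
    hΦt _ _ _ (hCe _ _ _ c1), add_zero] at k1
  have k2 := congrArg (Φ two) k1
  rw [hΦadd, hΦadd, hΦ0, hΦk _ _ (hCe _ _ _ c1), hΦt _ _ _ (hCe _ _ _ (hCe _ _ _ c2)),
    hΦt _ _ _ (hCe _ _ _ (hCe _ _ _ c1)), add_zero] at k2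
  have k3 := congrArg (Φ four) k2
  rw [hΦadd, hΦ0, hΦk _ _ (hCe _ _ _ (hCe _ _ _ (hCe _ _ _ c1))),
    hΦt _ _ _ (hCe _ _ _ (hCe _ _ _ (hCe _ _ _ c2))), add_zero, hH1, mul_one] at k3
  simp only [Units.val_one, mul_one, sub_self, v2, v4, vi] at k3
  have u24 : (-32 : F) ≠ -8 := by
    intro h
    have : (2 : F) * 2 * 2 * 3 = 0 := by linear_combination -h
    simp [n2, n3] at this
  have u8 : (4 : F) ≠ -4 := by
    intro h
    have : (2 : F) * 2 * 2 = 0 := by linear_combination h
    simp [n2] at this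
  have v34 : (0 : F) ≠ 1 - 1 / 2 * (1 / 2) := by
    intro h
    have : (3 : F) = 0 := by field_simp at h; linear_combination -h
    exact n3 this
  have v3 : (0 : F) ≠ 1 - 2 * 2 := by
    intro h
    have : (3 : F) = 0 := by linear_combination h
    exact n3 this
  have v15 : (0 : F) ≠ 1 - 4 * 4 := by
    intro h
    have : (3 : F) * 5 = 0 := by linear_combination h
    simp [n3, n5] at this
  have hun : IsUnit (S2 * (U 4 + U (-4)) * (U 0 + U (1 - 1 / 2 * (1 / 2))) *
      (U 0 + U (1 - 2 * 2)) * (U 0 + U (1 - 4 * 4))) :=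
    ((((hsum_unit _ _ u24).mul (hsum_unit _ _ u8)).mul (hsum_unit _ _ v34)).mul
      (hsum_unit _ _ v3)).mul (hsum_unit _ _ v15)
  rw [k3] at hun
  exact not_isUnit_zero hun

end ring

/-! ### matrices -/

section mat

open Matrix

variable {F : Type} [Field F]

/-- unipotent -/
def uM (b : F) : SpecialLinearGroup (Fin 2) F := ⟨!![1, b; 0, 1], by simp⟩

/-- diagonal -/
def hM (c : Fˣ) : SpecialLinearGroup (Fin 2) F :=
  ⟨!![(c : F), 0; 0, ((c⁻¹ : Fˣ) : F)], by simp⟩

/-- Weyl element -/
def wM : SpecialLinearGroup (Fin 2) F := ⟨!![0, 1; -1, 0], by simp⟩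

set_option backward.isDefEq.respectTransparency false in
theorem uM_add (a b : F) : uM (a + b) = uM a * uM b := by
  ext i j
  fin_cases i <;> fin_cases j <;> simp [uM, add_comm]

set_option backward.isDefEq.respectTransparency false in
theorem uM_zero : (uM 0 : SpecialLinearGroup (Fin 2) F) = 1 := by
  ext i j
  fin_cases i <;> fin_cases j <;> simp [uM]

set_option backward.isDefEq.respectTransparency false in
theorem hM_mul (c d : Fˣ) : hM (c * d) = hM c * hM d := by
  ext i j
  fin_cases i <;> fin_cases j <;> simp [hM, mul_comm]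

set_option backward.isDefEq.respectTransparency false in
theorem hM_one : (hM 1 : SpecialLinearGroup (Fin 2) F) = 1 := by
  ext i j
  fin_cases i <;> fin_cases j <;> simp [hM]

set_option backward.isDefEq.respectTransparency false in
theorem hM_uM (c : Fˣ) (b : F) : hM c * uM b = uM ((c : F) * c * b) * hM c := by
  have hc : (c : F) ≠ 0 := c.ne_zero
  ext i j
  fin_cases i <;> fin_cases j <;> simp [hM, uM]
  field_simp

set_option backward.isDefEq.respectTransparency false in
theorem wM_hM (c : Fˣ) : wM * hM c⁻¹ = hM c * wM := by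
  ext i j
  fin_cases i <;> fin_cases j <;> simp [hM, wM]

set_option backward.isDefEq.respectTransparency false in
theorem zM_sq (b : Fˣ) : (uM (-(b : F)) * (hM b * wM)) * (uM (-(b : F)) * (hM b * wM)) =
    hM b * (wM * uM (b : F)) := by
  have hc : (b : F) ≠ 0 := b.ne_zero
  ext i j
  fin_cases i <;> fin_cases j <;> simp [hM, wM, uM]

set_option backward.isDefEq.respectTransparency false in
theorem zM_cube (b : Fˣ) : (uM (-(b : F)) * (hM b * wM)) * (uM (-(b : F)) * (hM b * wM)) *
    (uM (-(b : F)) * (hM b * wM)) = -1 := by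
  rw [zM_sq]
  ext i j
  fin_cases i <;> fin_cases j <;> simp [hM, wM, uM]

set_option backward.isDefEq.respectTransparency false in
theorem zM_entry (b : Fˣ) : ((uM (-(b : F)) * (hM b * wM) : SpecialLinearGroup (Fin 2) F) :
    Matrix (Fin 2) (Fin 2) F) 0 1 = b := by
  simp [hM, wM, uM]

/-- the projection -/
abbrev pr : SpecialLinearGroup (Fin 2) F →* ProjectiveSpecialLinearGroup (Fin 2) F :=
  QuotientGroup.mk' _

theorem pr_eq_one {A : SpecialLinearGroup (Fin 2) F} (h : pr A = 1) :
    (A : Matrix (Fin 2) (Fin 2) F) 0 1 = 0 := by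
  have h1 : A ∈ Subgroup.center (SpecialLinearGroup (Fin 2) F) := (QuotientGroup.eq_one_iff A).mp h
  obtain ⟨r, -, hr⟩ := Matrix.SpecialLinearGroup.mem_center_iff.mp h1
  rw [← hr]; simp

theorem pr_neg_one : pr (-1 : SpecialLinearGroup (Fin 2) F) = 1 := by
  apply (QuotientGroup.eq_one_iff _).mpr
  rw [Subgroup.mem_center_iff]
  intro g
  simp

end mat

/-! ### the final statements -/

section final

open Matrix

variable {F : Type} [Field F]

theorem uM_pow (b : F) (n : ℕ) : uM b ^ n = uM (n * b) := by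
  induction n with
  | zero => rw [pow_zero, Nat.cast_zero, zero_mul, uM_zero]
  | succ n ih => rw [pow_succ, ih, ← uM_add]; congr 1; push_cast; ring

theorem pr_uM_ne {b : F} (hb : b ≠ 0) : pr (uM b) ≠ 1 := by
  intro h
  have := pr_eq_one h
  exact hb this

theorem odd_uM {p : ℕ} (hp : Odd p) (hpF : (p : F) = 0) (b : F) : Odd (orderOf (pr (uM b))) := by
  apply Odd.of_dvd_nat hp
  apply orderOf_dvd_of_pow_eq_one
  rw [← map_pow, uM_pow, hpF, zero_mul, uM_zero, map_one]

theorem ne_zero_of_coprime {k p : ℕ} (h : k.Coprime p) (hpF : (p : F) = 0) : (k : F) ≠ 0 := by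
  intro hk
  have h1 := (Nat.isCoprime_iff_coprime.mpr h)
  obtain ⟨a, b, hab⟩ := h1
  have h2 : ((a * k + b * p : ℤ) : F) = 1 := by rw [hab]; simp
  push_cast at h2
  rw [hk, hpF, mul_zero, mul_zero, add_zero] at h2
  exact zero_ne_one h2

theorem psl2_char {V : Type u} [CommGroup V] [Finite V] [Nontrivial V] (h2 : ∀ v : V, v * v = 1)
    [MulDistribMulAction (Matrix.ProjectiveSpecialLinearGroup (Fin 2) F) V]
    (hfix : ∀ x : Matrix.ProjectiveSpecialLinearGroup (Fin 2) F, x ≠ 1 → Odd (orderOf x) →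
      ∀ v : V, x • v = v → v = 1) {p : ℕ} (hp : Odd p) (hpF : (p : F) = 0)
    (c2 : Nat.Coprime 2 p) (c3 : Nat.Coprime 3 p) (c5 : Nat.Coprime 5 p) : False := by
  have n2 : (2 : F) ≠ 0 := by exact_mod_cast ne_zero_of_coprime (F := F) c2 hpF
  have n3 : (3 : F) ≠ 0 := by exact_mod_cast ne_zero_of_coprime (F := F) c3 hpF
  have n5 : (5 : F) ≠ 0 := by exact_mod_cast ne_zero_of_coprime (F := F) c5 hpF
  have hR : Nontrivial (AddMonoid.End (Additive V)) := by
    obtain ⟨v, hv⟩ := exists_ne (1 : V)
    refine ⟨1, 0, fun h => hv ?_⟩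
    have h1 : (1 : AddMonoid.End (Additive V)) (Additive.ofMul v) = 0 := by rw [h]; rfl
    exact h1
  refine ring_contra (R := AddMonoid.End (Additive V)) (F := F) (add_self h2)
    (fun b => rho V (pr (uM b))) (fun c => rho V (pr (hM c)))
    (rho V (pr (wM : SpecialLinearGroup (Fin 2) F)))
    ?_ ?_ ?_ ?_ ?_ ?_ ?_ ?_ ?_ n2 n3 n5
  · simp only [uM_zero, map_one, rho_one]
  · intro a b; simp only [uM_add, map_mul, rho_mul]
  · simp only [hM_one, map_one, rho_one]
  · intro c b
    rw [← rho_mul, ← rho_mul, ← map_mul, ← map_mul, hM_uM]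
  · intro c
    rw [← rho_mul, ← rho_mul, ← rho_mul, ← map_mul, ← map_mul, ← map_mul, hM_mul, mul_assoc]
  · intro c d; rw [← rho_mul, ← map_mul, hM_mul]
  · intro c; rw [← rho_mul, ← rho_mul, ← map_mul, ← map_mul, wM_hM]
  · intro b
    have hb : (b : F) ≠ 0 := b.ne_zero
    set z : SpecialLinearGroup (Fin 2) F := uM (-(b : F)) * (hM b * wM) with hz
    have hz3 : pr z * pr z * pr z = 1 := by
      rw [← map_mul, ← map_mul, hz, zM_cube, pr_neg_one]
    have hz1 : pr z ≠ 1 := by
      intro h
      have h1 := pr_eq_one h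
      rw [hz, zM_entry] at h1
      exact hb h1
    have h1 := cube_rel h2 hz3 (hfix _ hz1 (odd_of_cube hz3))
    rw [← map_mul, hz, zM_sq] at h1
    simp only [map_mul, rho_mul] at h1
    have h3 : rho V (pr (hM b⁻¹)) * (rho V (pr (hM b)) *
          (rho V (pr (wM : SpecialLinearGroup (Fin 2) F)) * rho V (pr (uM (b : F))))) =
        rho V (pr (hM b⁻¹)) * (1 + rho V (pr (uM (-(b : F)))) * (rho V (pr (hM b)) *
          rho V (pr (wM : SpecialLinearGroup (Fin 2) F)))) := by
      rw [h1]
    have h4 : rho V (pr (hM b⁻¹)) * rho V (pr (hM b)) = 1 := by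
      rw [← rho_mul, ← map_mul, ← hM_mul, inv_mul_cancel, hM_one, map_one, rho_one]
    have h5 : rho V (pr (hM b⁻¹)) * rho V (pr (uM (-(b : F)))) =
        rho V (pr (uM (-((b⁻¹ : Fˣ) : F)))) * rho V (pr (hM b⁻¹)) := by
      rw [← rho_mul, ← rho_mul, ← map_mul, ← map_mul, hM_uM]
      congr 5
      rw [Units.val_inv_eq_inv_val]; field_simp
    rw [← mul_assoc, h4, one_mul, mul_add, mul_one, ← mul_assoc, h5, mul_assoc,
      ← mul_assoc (rho V (pr (hM b⁻¹))), h4, one_mul] at h3
    exact h3
  · intro b hb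
    exact isUnit_add_one h2 (hfix _ (pr_uM_ne hb) (odd_uM hp hpF b))

theorem psl2_no_module' [Fintype F] (h5 : 5 < Fintype.card F)
    (hF : Fintype.card F = 9 ∨ (Fintype.card F).Prime)
    {V : Type u} [CommGroup V] [Finite V] [Nontrivial V] (h2 : ∀ v : V, v * v = 1)
    [MulDistribMulAction (Matrix.ProjectiveSpecialLinearGroup (Fin 2) F) V]
    (hfix : ∀ x : Matrix.ProjectiveSpecialLinearGroup (Fin 2) F, x ≠ 1 → Odd (orderOf x) →
      ∀ v : V, x • v = v → v = 1) : False := by
  have hc : (Fintype.card F : F) = 0 := FiniteField.cast_card_eq_zero F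
  rcases hF with hF | hF
  · have h9 : (9 : F) = 0 := by rw [hF] at hc; exact_mod_cast hc
    have h3 : (3 : F) = 0 := by
      have : (3 : F) * 3 = 0 := by rw [← h9]; norm_num
      exact (mul_eq_zero.mp this).elim id id
    have hcube : ∀ b : F, pr (uM b) * pr (uM b) * pr (uM b) = 1 := by
      intro b
      rw [← map_mul, ← map_mul, ← uM_add, ← uM_add]
      have : b + b + b = 0 := by linear_combination b * h3
      rw [this, uM_zero, map_one]
    obtain ⟨i, hi0, hi1, hi2⟩ : ∃ i : F, i ≠ 0 ∧ i ≠ 1 ∧ i ≠ -1 := by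
      classical
      by_contra hcon
      push Not at hcon
      have h1 : (Finset.univ : Finset F) ⊆ {0, 1, -1} := by
        intro x _
        simp only [Finset.mem_insert, Finset.mem_singleton]
        by_cases h0 : x = 0
        · exact Or.inl h0
        · by_cases h1 : x = 1
          · exact Or.inr (Or.inl h1)
          · exact Or.inr (Or.inr (hcon x h0 h1))
      have h4 := Finset.card_le_card h1
      have h6 : ({0, 1, -1} : Finset F).card ≤ 3 := Finset.card_le_three
      rw [Finset.card_univ, hF] at h4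
      omega
    refine three_three h2 hfix (a := pr (uM 1)) (b := pr (uM i)) ?_ (hcube 1) (hcube i)
      (pr_uM_ne one_ne_zero) (pr_uM_ne hi0) ?_ ?_
    · rw [← map_mul, ← map_mul, ← uM_add, ← uM_add, add_comm]
    · rw [← map_mul, ← uM_add]
      apply pr_uM_ne
      intro h
      exact hi2 (by linear_combination h)
    · intro h
      have h1 : pr (uM (1 + i + i)) = 1 := by
        rw [uM_add, uM_add, map_mul, map_mul, h]; exact hcube i
      refine pr_uM_ne ?_ h1
      intro h4
      exact hi1 (by linear_combination -h4 + i * h3)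
  · refine psl2_char h2 hfix (hF.odd_of_ne_two (by omega)) hc ?_ ?_ ?_
    · exact (Nat.coprime_primes Nat.prime_two hF).mpr (by omega)
    · exact (Nat.coprime_primes Nat.prime_three hF).mpr (by omega)
    · exact (Nat.coprime_primes Nat.prime_five hF).mpr (by omega)

/-! ### `PSL₃(4)` -/

/-- the projection -/
abbrev pr3 : SpecialLinearGroup (Fin 3) F →* ProjectiveSpecialLinearGroup (Fin 3) F :=
  QuotientGroup.mk' _

theorem pr3_eq_one {A : SpecialLinearGroup (Fin 3) F} (h : pr3 A = 1) :
    (A : Matrix (Fin 3) (Fin 3) F) 0 1 = 0 ∧ (A : Matrix (Fin 3) (Fin 3) F) 0 2 = 0 ∧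
      (A : Matrix (Fin 3) (Fin 3) F) 0 0 = (A : Matrix (Fin 3) (Fin 3) F) 1 1 := by
  have h1 : A ∈ Subgroup.center (SpecialLinearGroup (Fin 3) F) := (QuotientGroup.eq_one_iff A).mp h
  obtain ⟨r, -, hr⟩ := Matrix.SpecialLinearGroup.mem_center_iff.mp h1
  rw [← hr]; simp

set_option backward.isDefEq.respectTransparency false in
theorem psl34_no_module [Fintype F] (h4 : Fintype.card F = 4)
    {V : Type u} [CommGroup V] [Finite V] [Nontrivial V] (h2 : ∀ v : V, v * v = 1)
    [MulDistribMulAction (Matrix.ProjectiveSpecialLinearGroup (Fin 3) F) V]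
    (hfix : ∀ x : Matrix.ProjectiveSpecialLinearGroup (Fin 3) F, x ≠ 1 → Odd (orderOf x) →
      ∀ v : V, x • v = v → v = 1) : False := by
  obtain ⟨w, hw0, hw1⟩ : ∃ w : F, w ≠ 0 ∧ w ≠ 1 := by
    classical
    by_contra hcon
    push Not at hcon
    have h1 : (Finset.univ : Finset F) ⊆ {0, 1} := by
      intro x _
      simp only [Finset.mem_insert, Finset.mem_singleton]
      by_cases h0 : x = 0
      · exact Or.inl h0
      · exact Or.inr (hcon x h0)
    have h5 := Finset.card_le_card h1
    have h6 : ({0, 1} : Finset F).card ≤ 2 := Finset.card_le_two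
    rw [Finset.card_univ, h4] at h5
    omega
  have hw3 : w * w * w = 1 := by
    have := FiniteField.pow_card_sub_one_eq_one w hw0
    rw [h4] at this
    rw [← this]; ring
  let a : SpecialLinearGroup (Fin 3) F := ⟨!![1, 0, 0; 0, w, 0; 0, 0, w * w], by
    rw [Matrix.det_fin_three]; simp; rw [← hw3]; ring⟩
  let b : SpecialLinearGroup (Fin 3) F := ⟨!![0, 1, 0; 0, 0, 1; 1, 0, 0], by
    rw [Matrix.det_fin_three]; simp⟩
  let c : SpecialLinearGroup (Fin 3) F := ⟨!![w, 0, 0; 0, w, 0; 0, 0, w], by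
    rw [Matrix.det_fin_three]; simp; rw [← hw3]⟩
  have hc : pr3 c = 1 := by
    apply (QuotientGroup.eq_one_iff _).mpr
    rw [Matrix.SpecialLinearGroup.mem_center_iff]
    refine ⟨w, by rw [Fintype.card_fin, pow_succ, pow_two, hw3], ?_⟩
    ext i j
    fin_cases i <;> fin_cases j <;> simp [c]
  have ha3 : a * a * a = 1 := by
    ext i j
    fin_cases i <;> fin_cases j <;> simp [a, hw3]
    rw [show w * w * (w * w) * (w * w) = (w * w * w) * (w * w * w) by ring, hw3, one_mul]
  have hb3 : b * b * b = 1 := by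
    ext i j
    fin_cases i <;> fin_cases j <;> simp [b]
  have hab : b * a = c * (a * b) := by
    ext i j
    fin_cases i <;> fin_cases j <;> simp [a, b, c, ← mul_assoc, hw3]
  have hab' : pr3 a * pr3 b = pr3 b * pr3 a := by
    rw [← map_mul, ← map_mul, hab, map_mul pr3 c, hc, one_mul]
  refine three_three h2 hfix hab' ?_ ?_ ?_ ?_ ?_ ?_
  · rw [← map_mul, ← map_mul, ha3, map_one]
  · rw [← map_mul, ← map_mul, hb3, map_one]
  · intro h
    have h1 := (pr3_eq_one h).2.2
    simp [a] at h1
    exact hw1 h1.symm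
  · intro h
    have h1 := (pr3_eq_one h).1
    simp [b] at h1
  · intro h
    rw [← map_mul] at h
    have h1 := (pr3_eq_one h).1
    simp [a, b] at h1
  · intro h
    have h1 : pr3 (a * b * b) = 1 := by
      rw [map_mul, map_mul, h, ← map_mul, ← map_mul, hb3, map_one]
    have h3 := (pr3_eq_one h1).2.1
    simp [a, b] at h3


end final

end H29.CITM12
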