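import Mathlib
import Cfsg.Agent.Lib.H76.MaxClass
import Cfsg.Agent.Lib.H14.MaxClass
import Cfsg.Agent.Lib.H60.MaxClassTwo
import Cfsg.Agent.Lib.H58.UniqInv

set_option autoImplicit false
set_option linter.all false

/-! 2-groups with an involution acting on an index 2 subgroup with cyclic fixed points of order 4. -/

namespace H29.C4A

open Subgroup
open scoped commutatorElement

theorem main {P : Type*} [Group P] [Finite P] (hP : IsPGroup 2 P) (S : Subgroup P) (hS : S.index = 2)
    (t c : P) (ht : t * t = 1) (htS : t ∉ S) (hcS : c ∈ S) (hct : c * t = t * c) (hc4 : orderOf c = 4)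
    (hcen : ∀ x ∈ S, x * t = t * x → x ∈ zpowers c) :
    ∃ y g : P, commutator P = zpowers y ∧ t * y * t = y⁻¹ ∧ g ∈ S ∧ t * g * t = g * y ∧
      (zpowers y).index = 8 := by
  classical
  haveI : Fact (Nat.Prime 2) := ⟨Nat.prime_two⟩
  haveI hSn : S.Normal := Subgroup.normal_of_index_eq_two hS
  have ht1 : t ≠ 1 := fun h => htS (h ▸ one_mem S)
  have hti : t⁻¹ = t := inv_eq_of_mul_eq_one_left ht
  have hsq : ∀ x : P, x * x ∈ S := fun x => Subgroup.mul_self_mem_of_index_two hS x
  set C := centralizer ({t} : Set P) with hC
  have htC : t ∈ C := by rw [hC, mem_centralizer_singleton_iff]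
  have hinf : S ⊓ C = zpowers c := by
    apply le_antisymm
    · rintro x ⟨hx1, hx2⟩
      exact hcen x hx1 (by
        have := mem_centralizer_singleton_iff.1 hx2
        exact this)
    · rw [zpowers_le]
      exact ⟨hcS, by
        show c ∈ C
        rw [hC, mem_centralizer_singleton_iff]; exact hct⟩
  have hrel : S.relIndex C = 2 := by
    have h1 : S.relIndex C ∣ 2 := by rw [← hS]; exact Subgroup.relIndex_dvd_index_of_normal S C
    rcases (Nat.dvd_prime Nat.prime_two).1 h1 with h | h
    · exact absurd ((Subgroup.relIndex_eq_one.1 h) htC) htS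
    · exact h
  have hcardC : Nat.card C = 8 := by
    have h1 : Nat.card (S ⊓ C : Subgroup P) * (S ⊓ C).relIndex C = Nat.card C := by
      rw [← Subgroup.relIndex_bot_left, Subgroup.relIndex_mul_relIndex _ _ _ bot_le inf_le_right,
        Subgroup.relIndex_bot_left]
    rw [Subgroup.inf_relIndex_right, hrel, hinf, Nat.card_zpowers, hc4] at h1
    omega
  have hidx := H60.MaxClassTwo.index_centralizer_le t
  have hCm := C.card_mul_index
  have hPm := (commutator P).card_mul_index
  have hge8 : 8 ≤ Nat.card P := by
    have := Subgroup.card_le_card_group C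
    omega
  have hle : (commutator P).index ≤ 8 := by
    by_contra hlt
    push Not at hlt
    have hpos : 0 < Nat.card (commutator P) := Nat.card_pos
    have h3 : Nat.card P < Nat.card P := by
      calc Nat.card P = 8 * C.index := by rw [← hCm, hcardC]
        _ ≤ 8 * Nat.card (commutator P) := Nat.mul_le_mul_left _ hidx
        _ < (commutator P).index * Nat.card (commutator P) := Nat.mul_lt_mul_of_pos_right hlt hpos
        _ = Nat.card P := by rw [mul_comm]; exact hPm
    exact lt_irrefl _ h3
  obtain ⟨m, hm⟩ := hP.exists_card_eq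
  obtain ⟨k, _, hk⟩ := (Nat.dvd_prime_pow Nat.prime_two).mp (hm ▸ (commutator P).index_dvd_card)
  have hm3 : 3 ≤ m := by
    by_contra h
    push Not at h
    rw [hm] at hge8
    interval_cases m <;> omega
  have h8 : (commutator P).index = 8 := by
    rcases Nat.lt_or_ge k 2 with hk2 | hk2
    · exfalso
      have hcyc : IsCyclic (P ⧸ commutator P) := by
        have hcard : Nat.card (P ⧸ commutator P) = 2 ^ k := hk
        interval_cases k
        · have : Subsingleton (P ⧸ commutator P) := (Nat.card_eq_one_iff_unique.mp (by simpa using hcard)).1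
          infer_instance
        · exact isCyclic_of_prime_card (p := 2) (by simpa using hcard)
      have hbot := H14.MaxClass.commutator_eq_bot_of_isCyclic_quotient hP hcyc
      rw [hbot, index_bot] at hk
      rw [hk] at hge8
      interval_cases k <;> omega
    · rcases Nat.eq_or_lt_of_le hk2 with h | h
      · exfalso
        obtain ⟨n, rfl⟩ : ∃ n, m = n + 3 := ⟨m - 3, by omega⟩
        have hk4 : (commutator P).index = 4 := by rw [hk, ← h]; norm_num
        obtain ⟨a, l, ha, hai⟩ := H76.MaxClass.exists_cyclic_index_two n P hm hk4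
        by_cases hta : t ∈ zpowers a
        · have h1 : orderOf a = 2 ^ ((l + 1) + 1) := by rw [ha]
          rcases H76.MaxClass.sq_eq_one_of_mem_zpowers h1 hta (by rw [pow_two]; exact ht) with h2 | h2
          · exact ht1 h2
          · apply htS
            rw [h2, pow_succ, pow_mul, pow_two]
            exact hsq _
        · have h1 := H76.MaxClass.card_centralizer_le_two (zpowers a)
            (fun x hx y hy => by
              obtain ⟨i, rfl⟩ := hx; obtain ⟨j, rfl⟩ := hy
              show a ^ i * a ^ j = a ^ j * a ^ i
              rw [← zpow_add, ← zpow_add, add_comm]) hai hk4 t hta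
          have h2 : Nat.card ((zpowers a) ⊓ C : Subgroup P) * ((zpowers a) ⊓ C).relIndex C = Nat.card C := by
            rw [← Subgroup.relIndex_bot_left, Subgroup.relIndex_mul_relIndex _ _ _ bot_le inf_le_right,
              Subgroup.relIndex_bot_left]
          haveI : (zpowers a).Normal := Subgroup.normal_of_index_eq_two hai
          have h3 : (zpowers a).relIndex C ≤ 2 := by
            apply Nat.le_of_dvd (by norm_num)
            rw [← hai]; exact Subgroup.relIndex_dvd_index_of_normal _ C
          rw [Subgroup.inf_relIndex_right, hcardC] at h2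
          have h4 : Nat.card ((zpowers a) ⊓ C : Subgroup P) * (zpowers a).relIndex C ≤ 2 * 2 :=
            Nat.mul_le_mul h1 h3
          omega
      · have hk3 : k = 3 := by
          by_contra hne
          have h4 : 4 ≤ k := by omega
          have : 2 ^ 4 ≤ 2 ^ k := Nat.pow_le_pow_right (by norm_num) h4
          rw [hk] at hle
          omega
        rw [hk, hk3]; norm_num
  -- every element of P' is a commutator with t
  have hcard : C.index = Nat.card (commutator P) := by
    have : 8 * C.index = 8 * Nat.card (commutator P) := by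
      rw [← hcardC, hCm, hcardC, ← hPm, h8, mul_comm]
    omega
  have hsurj : ∀ w ∈ commutator P, ∃ g : P, ⁅g, t⁆ = w := by
    let f : P → commutator P := fun g => ⟨⁅g, t⁆, commutator_mem_commutator (mem_top g) (mem_top t)⟩
    have hf : ∀ a b : P, f a = f b → a⁻¹ * b ∈ C := by
      intro a b hab
      have h1 : ⁅a, t⁆ = ⁅b, t⁆ := congrArg Subtype.val hab
      rw [commutatorElement_def, commutatorElement_def] at h1
      have h2 : a * t * a⁻¹ = b * t * b⁻¹ := mul_right_cancel h1
      rw [hC, mem_centralizer_singleton_iff]
      calc a⁻¹ * b * t = a⁻¹ * (b * t * b⁻¹) * b := by group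
        _ = a⁻¹ * (a * t * a⁻¹) * b := by rw [h2]
        _ = t * (a⁻¹ * b) := by group
    let g : (P ⧸ C) → commutator P := fun q => f q.out
    have hg : Function.Injective g := by
      intro p q hpq
      have := hf _ _ hpq
      rw [← QuotientGroup.eq, QuotientGroup.out_eq', QuotientGroup.out_eq'] at this
      exact this
    have hbij : Function.Bijective g := by
      haveI : Fintype (P ⧸ C) := Fintype.ofFinite _
      haveI : Fintype (commutator P) := Fintype.ofFinite _
      rw [Fintype.bijective_iff_injective_and_card]
      refine ⟨hg, ?_⟩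
      rw [← Nat.card_eq_fintype_card, ← Nat.card_eq_fintype_card]
      exact hcard
    intro w hw
    obtain ⟨q, hq⟩ := hbij.2 ⟨w, hw⟩
    exact ⟨q.out, congrArg Subtype.val hq⟩
  have hinv : ∀ w ∈ commutator P, t * w * t = w⁻¹ := by
    intro w hw
    obtain ⟨g, rfl⟩ := hsurj w hw
    rw [commutatorElement_def, hti]
    have : (g * t * g⁻¹ * t)⁻¹ = t * (g * t * g⁻¹) := by
      simp only [mul_inv_rev, inv_inv, hti, mul_assoc]
    rw [this]
    calc t * (g * t * g⁻¹ * t) * t = t * (g * t * g⁻¹) * (t * t) := by simp only [mul_assoc]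
      _ = _ := by rw [ht, mul_one]
  have hcomm : ∀ x ∈ commutator P, ∀ w ∈ commutator P, x * w = w * x := by
    intro x hx w hw
    have h1 := hinv (x * w) (mul_mem hx hw)
    have h2 : t * (x * w) * t = (t * x * t) * (t * w * t) := by
      calc t * (x * w) * t = t * x * 1 * w * t := by simp only [mul_one, mul_assoc]
        _ = t * x * (t * t) * w * t := by rw [ht]
        _ = _ := by simp only [mul_assoc]
    rw [h2, hinv x hx, hinv w hw, mul_inv_rev] at h1
    have := congrArg (·⁻¹) h1
    simp only [mul_inv_rev, inv_inv] at this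
    exact this.symm
  have hle : commutator P ≤ S := by
    haveI : IsCyclic (P ⧸ S) := isCyclic_of_prime_card (p := 2) hS
    rw [← Subgroup.Normal.quotient_commutative_iff_commutator_le]
    exact ⟨⟨fun a b => (IsCyclic.commGroup (α := P ⧸ S)).mul_comm a b⟩⟩
  have hcyc : IsCyclic (commutator P) := by
    by_cases hbot : commutator P = ⊥
    · rw [hbot]; infer_instance
    · have hpg : IsPGroup 2 (commutator P) := hP.to_subgroup _
      have key : ∀ x ∈ commutator P, orderOf x = 2 → x = c ^ 2 := by
        intro x hx hxo
        have hx2 : x * x = 1 := by rw [← pow_two, ← hxo, pow_orderOf_eq_one]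
        have h1 := hinv x hx
        have h2 : x⁻¹ = x := inv_eq_of_mul_eq_one_left hx2
        rw [h2] at h1
        have h3 : x * t = t * x := by
          have := congrArg (· * t) h1
          simp only [mul_assoc, ht, mul_one] at this
          exact this.symm
        have h4 := hcen x (hle hx) h3
        have h5 : orderOf c = 2 ^ (1 + 1) := by rw [hc4]; norm_num
        rcases H76.MaxClass.sq_eq_one_of_mem_zpowers h5 h4 (by rw [pow_two]; exact hx2) with h6 | h6
        · rw [h6, orderOf_one] at hxo; omega
        · simpa using h6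
      have hu : ∃! x : commutator P, orderOf x = 2 := by
        obtain ⟨x, hx⟩ : ∃ x : commutator P, orderOf x = 2 := by
          haveI : Nontrivial (commutator P) := by
            rw [Subgroup.nontrivial_iff_ne_bot]; exact hbot
          have hd : 2 ∣ Nat.card (commutator P) := by
            obtain ⟨n, hn⟩ := hpg.exists_card_eq
            rcases n with _ | n
            · rw [pow_zero] at hn
              exact absurd (Subgroup.card_eq_one.1 hn) hbot
            · rw [hn]; exact dvd_pow_self 2 (by omega)
          exact exists_prime_orderOf_dvd_card' 2 hd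
        refine ⟨x, hx, ?_⟩
        intro w hw
        have h1 := key x x.2 (by rw [Subgroup.orderOf_coe]; exact hx)
        have h2 := key w w.2 (by rw [Subgroup.orderOf_coe]; exact hw)
        exact Subtype.ext (h2.trans h1.symm)
      have h := H58.UniqInv.cyclic_of_comm hpg hu ⊤ ⟨⟨fun a b => Subtype.ext (Subtype.ext (hcomm _ a.1.2 _ b.1.2))⟩⟩
      exact (MulEquiv.isCyclic Subgroup.topEquiv).mp h
  obtain ⟨⟨y, hy⟩, hgen⟩ := hcyc.exists_generator
  have hYy : commutator P = zpowers y := by
    apply le_antisymm
    · intro x hx
      obtain ⟨i, hi⟩ := hgen ⟨x, hx⟩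
      exact ⟨i, congrArg Subtype.val hi⟩
    · rw [zpowers_le]; exact hy
  obtain ⟨g0, hg0⟩ := hsurj y hy
  obtain ⟨g, hgS, hg⟩ : ∃ g ∈ S, ⁅g, t⁆ = y := by
    by_cases h : g0 ∈ S
    · exact ⟨g0, h, hg0⟩
    · refine ⟨g0 * t, ?_, ?_⟩
      · exact (Subgroup.mul_mem_iff_of_index_two hS).2 (iff_of_false h htS)
      · rw [← hg0, commutatorElement_def, commutatorElement_def]
        group
  refine ⟨y, g⁻¹, hYy, hinv y hy, inv_mem hgS, ?_, by rw [← hYy]; exact h8⟩
  rw [← hg, commutatorElement_def, hti]
  group

end H29.C4A
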