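import Mathlib

set_option autoImplicit false
set_option linter.all false

/-! Algebra for the cyclic-of-order-4 fixed point situation. -/

namespace H29.C4B

open Subgroup

/-- the configuration -/
structure H4 {X : Type*} [Group X] (A P S : Subgroup X) (t c y g : X) : Prop where
  hSA : S ≤ A
  hSP : S ≤ P
  htP : t ∈ P
  htA : t ∉ A
  hS2 : IsPGroup 2 S
  ht : t * t = 1
  hcS : c ∈ S
  hgS : g ∈ S
  hyS : y ∈ S
  hct : t * c * t = c
  hc1 : c * c ≠ 1
  hc2 : (c * c) * (c * c) = 1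
  hcen : ∀ x ∈ S, t * x * t = x → x = 1 ∨ x = c ∨ x = c * c ∨ x = c⁻¹
  hyt : t * y * t = y⁻¹
  hgt : t * g * t = g * y
  hsq : ∀ s ∈ S, s * s ∈ zpowers y
  hnm : ∀ s ∈ S, ∀ x ∈ zpowers y, s * x * s⁻¹ ∈ zpowers y
  hcm : ∀ a ∈ S, ∀ b ∈ S, b⁻¹ * (a⁻¹ * b * a) ∈ zpowers y
  hcard : Nat.card S = 4 * Nat.card (zpowers y)
  tt : ∀ M : Subgroup X, M ≤ S → M.relIndex S = 2 → ∀ u ∈ S, u ∉ M → u * u = 1 →
    ∃ x ∈ A, x⁻¹ * u * x ∈ M
  ttc : ∀ M : Subgroup X, M ≤ S → M.relIndex S = 2 → ∀ u ∈ S, u ∉ M → u * u = 1 →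
    (∀ s ∈ S, s * u = u * s) → ∃ x ∈ A, (∀ s ∈ S, x⁻¹ * s * x ∈ S) ∧ x⁻¹ * u * x ∈ M
  gtt : ∀ M : Subgroup X, M ≤ S → M.relIndex S = 2 → c ∉ M →
    (∀ x ∈ A, x⁻¹ * (c * c) * x ∈ S → x⁻¹ * (c * c) * x ∈ M) → ∃ x ∈ A, x⁻¹ * c * x ∈ M
  phi : ∀ u ∈ P, ∀ w ∈ P, w * w = c * c → w * u = u * w → ∀ x : X, x⁻¹ * u * x = c * c → u = c * c

variable {X : Type*} [Group X] [Finite X] {A P S : Subgroup X} {t c y g : X}

namespace H4

variable (H : H4 A P S t c y g)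
include H

theorem ycomm {a b : X} (ha : a ∈ zpowers y) (hb : b ∈ zpowers y) : a * b = b * a := by
  obtain ⟨i, rfl⟩ := ha; obtain ⟨j, rfl⟩ := hb
  show y ^ i * y ^ j = y ^ j * y ^ i
  rw [← zpow_add, ← zpow_add, add_comm]

theorem hti : t⁻¹ = t := inv_eq_of_mul_eq_one_left H.ht

theorem tmul (a b : X) : t * (a * b) * t = (t * a * t) * (t * b * t) := by
  calc t * (a * b) * t = t * a * 1 * b * t := by simp only [mul_one, mul_assoc]
    _ = t * a * (t * t) * b * t := by rw [H.ht]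
    _ = _ := by simp only [mul_assoc]

theorem tinv (a : X) : t * a⁻¹ * t = (t * a * t)⁻¹ := by
  simp only [mul_inv_rev, H.hti, mul_assoc]

theorem yt {a : X} (ha : a ∈ zpowers y) : t * a * t = a⁻¹ := by
  obtain ⟨i, rfl⟩ := ha
  show t * y ^ i * t = (y ^ i)⁻¹
  have h : t * y ^ i * t⁻¹ = (t * y * t⁻¹) ^ i := conj_zpow.symm
  rw [H.hti, H.hyt] at h
  rw [h, inv_zpow]

theorem gen {i : ℤ} (hi : Odd i) : ∃ j : ℤ, y = (y ^ i) ^ j := by
  obtain ⟨n, hn⟩ := (IsPGroup.iff_orderOf.1 H.hS2) ⟨y, H.hyS⟩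
  rw [Subgroup.orderOf_mk] at hn
  have h2 : IsCoprime i 2 := by
    obtain ⟨k, hk⟩ := hi
    exact ⟨1, -k, by rw [hk]; ring⟩
  obtain ⟨u, v, huv⟩ := h2.pow_right (n := n)
  refine ⟨u, ?_⟩
  calc y = y ^ (u * i + v * 2 ^ n) := by rw [huv, zpow_one]
    _ = (y ^ i) ^ u * (y ^ ((2 : ℤ) ^ n)) ^ v := by
      rw [zpow_add, mul_comm u, zpow_mul, mul_comm v, zpow_mul]
    _ = (y ^ i) ^ u := by
      have : y ^ ((2 : ℤ) ^ n) = 1 := by
        have := pow_orderOf_eq_one y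
        rw [hn] at this
        exact_mod_cast this
      rw [this, one_zpow, mul_one]

theorem hz : c * c ∈ zpowers y := H.hsq c H.hcS

theorem y1 : y ≠ 1 := by
  intro h
  have := H.hz
  rw [h, zpowers_one_eq_bot, mem_bot] at this
  exact H.hc1 this

theorem odd_ne {i : ℤ} (hi : Odd i) : y ^ i ≠ 1 := by
  intro h
  obtain ⟨j, hj⟩ := H.gen hi
  rw [h, one_zpow] at hj
  exact H.y1 hj

theorem uniq {x : X} (hx : x ∈ zpowers y) (hx2 : x * x = 1) : x = 1 ∨ x = c * c := by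
  have h1 := H.yt hx
  have hxS : x ∈ S := (zpowers_le.2 H.hyS) hx
  rw [inv_eq_of_mul_eq_one_left hx2] at h1
  rcases H.hcen x hxS h1 with h | h | h | h
  · exact Or.inl h
  · exact absurd (h ▸ hx2) H.hc1
  · exact Or.inr h
  · exfalso
    apply H.hc1
    have : c⁻¹ * c⁻¹ = 1 := h ▸ hx2
    have h3 := congrArg (·⁻¹) this
    simpa [mul_inv_rev] using h3

theorem cY : c ∉ zpowers y := by
  intro h
  have h1 := H.yt h
  rw [H.hct] at h1
  apply H.hc1
  nth_rewrite 1 [h1]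
  exact inv_mul_cancel c

theorem no_half {a : X} (ha : a ∈ zpowers y) : a⁻¹ ≠ a * y := by
  obtain ⟨i, rfl⟩ := ha
  show (y ^ i)⁻¹ ≠ y ^ i * y
  intro h
  have h1 : y ^ (2 * i + 1) = 1 := by
    have : y ^ (2 * i + 1) = y ^ i * (y ^ i * y) := by
      rw [zpow_add, two_mul, zpow_add, zpow_one, mul_assoc]
    rw [this, ← h, mul_inv_cancel]
  exact H.odd_ne ⟨i, rfl⟩ h1

theorem gY : g ∉ zpowers y := by
  intro h
  have h1 := H.yt h
  rw [H.hgt] at h1
  exact H.no_half h h1.symm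

theorem cgY : c⁻¹ * g ∉ zpowers y := by
  intro h
  have h1 := H.yt h
  rw [H.tmul, H.tinv, H.hct, H.hgt] at h1
  exact H.no_half h (by rw [← h1]; group)

theorem nm' {s x : X} (hs : s ∈ S) (hx : x ∈ zpowers y) : s⁻¹ * x * s ∈ zpowers y := by
  have := H.hnm s⁻¹ (inv_mem hs) x hx
  rwa [inv_inv] at this

theorem z_comm {s : X} (hs : s ∈ S) : s * (c * c) = (c * c) * s := by
  have h1 := H.hnm s hs _ H.hz
  have h2 : (s * (c * c) * s⁻¹) * (s * (c * c) * s⁻¹) = 1 := by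
    calc (s * (c * c) * s⁻¹) * (s * (c * c) * s⁻¹) = s * ((c * c) * (c * c)) * s⁻¹ := by group
      _ = 1 := by rw [H.hc2]; group
  rcases H.uniq h1 h2 with h | h
  · exfalso; apply H.hc1
    have : c * c = s⁻¹ * (s * (c * c) * s⁻¹) * s := by group
    rw [this, h]; group
  · calc s * (c * c) = (s * (c * c) * s⁻¹) * s := by group
      _ = _ := by rw [h]

/-- the maximal subgroups -/
def MM (h : X) (hh : h ∈ S) : Subgroup X where
  carrier := {x | x ∈ zpowers y ∨ h⁻¹ * x ∈ zpowers y}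
  one_mem' := Or.inl (one_mem _)
  mul_mem' := by
    rintro a b (ha | ha) (hb | hb)
    · exact Or.inl (mul_mem ha hb)
    · right
      have : h⁻¹ * (a * b) = (h⁻¹ * a * h) * (h⁻¹ * b) := by group
      rw [this]; exact mul_mem (H.nm' hh ha) hb
    · right
      rw [← mul_assoc]; exact mul_mem ha hb
    · left
      have : a * b = (h * (h⁻¹ * a) * h⁻¹) * (h * h) * (h⁻¹ * b) := by group
      rw [this]
      exact mul_mem (mul_mem (H.hnm h hh _ ha) (H.hsq h hh)) hb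
  inv_mem' := by
    rintro a (ha | ha)
    · exact Or.inl (inv_mem ha)
    · right
      have : h⁻¹ * a⁻¹ = (h⁻¹ * (h⁻¹ * a)⁻¹ * h) * (h * h)⁻¹ := by group
      rw [this]
      exact mul_mem (H.nm' hh (inv_mem ha)) (inv_mem (H.hsq h hh))

theorem mem_MM {h x : X} (hh : h ∈ S) : x ∈ H.MM h hh ↔ x ∈ zpowers y ∨ h⁻¹ * x ∈ zpowers y := Iff.rfl

theorem yS : zpowers y ≤ S := zpowers_le.2 H.hyS

theorem MM_le {h : X} (hh : h ∈ S) : H.MM h hh ≤ S := by
  rintro x (hx | hx)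
  · exact H.yS hx
  · have : x = h * (h⁻¹ * x) := by group
    rw [this]; exact mul_mem hh (H.yS hx)

theorem h_mem {h : X} (hh : h ∈ S) : h ∈ H.MM h hh := Or.inr (by rw [inv_mul_cancel]; exact one_mem _)

theorem MM_idx {h : X} (hh : h ∈ S) (hY : h ∉ zpowers y) : (H.MM h hh).relIndex S = 2 := by
  have hle : zpowers y ≤ H.MM h hh := fun x hx => Or.inl hx
  have h1 : (zpowers y).relIndex (H.MM h hh) = 2 := by
    rw [Subgroup.relIndex_eq_two_iff]
    refine ⟨h, H.h_mem hh, ?_⟩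
    rintro b hb
    by_cases hbY : b ∈ zpowers y
    · refine Or.inr ⟨hbY, fun h2 => hY ?_⟩
      have : h = b⁻¹ * (b * h) := by group
      rw [this]; exact mul_mem (inv_mem hbY) h2
    · refine Or.inl ⟨?_, hbY⟩
      rcases hb with hb | hb
      · exact absurd hb hbY
      · have : b * h = (h * (h⁻¹ * b) * h⁻¹) * (h * h) := by group
        rw [this]; exact mul_mem (H.hnm h hh _ hb) (H.hsq h hh)
  have h2 : Nat.card (zpowers y) * (zpowers y).relIndex (H.MM h hh) = Nat.card (H.MM h hh) := by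
    rw [← Subgroup.relIndex_bot_left, Subgroup.relIndex_mul_relIndex _ _ _ bot_le hle,
      Subgroup.relIndex_bot_left]
  have h3 : Nat.card (H.MM h hh) * (H.MM h hh).relIndex S = Nat.card S := by
    rw [← Subgroup.relIndex_bot_left, Subgroup.relIndex_mul_relIndex _ _ _ bot_le (H.MM_le hh),
      Subgroup.relIndex_bot_left]
  rw [h1] at h2
  rw [H.hcard, ← h2] at h3
  have hpos : 0 < Nat.card (zpowers y) := Nat.card_pos
  have h4 : Nat.card (zpowers y) * (2 * (H.MM h hh).relIndex S) = Nat.card (zpowers y) * 4 := by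
    rw [← mul_assoc, h3, mul_comm]
  have := Nat.eq_of_mul_eq_mul_left hpos h4
  omega

theorem cover {h k : X} (hh : h ∈ S) (hk : k ∈ S) (hY : h ∉ zpowers y) (hkM : k ∉ H.MM h hh) {s : X} (hs : s ∈ S) :
    s ∈ H.MM h hh ∨ k⁻¹ * s ∈ H.MM h hh := by
  by_cases hsM : s ∈ H.MM h hh
  · exact Or.inl hsM
  · right
    have h1 : ((H.MM h hh).subgroupOf S).index = 2 := H.MM_idx hh hY
    have h2 := Subgroup.mul_mem_iff_of_index_two h1 (a := ⟨k⁻¹, inv_mem hk⟩) (b := ⟨s, hs⟩)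
    rw [mem_subgroupOf, mem_subgroupOf, mem_subgroupOf] at h2
    exact h2.2 (iff_of_false (fun h3 => hkM (by simpa using inv_mem h3)) hsM)

end H4

end H29.C4B
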