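import Cfsg.Agent.Lib.H29.C4B

set_option autoImplicit false
set_option linter.all false

namespace H29.C4B

open Subgroup

variable {X : Type*} [Group X] [Finite X] {A P S : Subgroup X} {t c y g : X}

namespace H4

variable (H : H4 A P S t c y g)
include H

theorem oddp {x : X} (hx : x ∈ S) {i : ℤ} (hi : Odd i) (h : x ^ i = 1) : x = 1 := by
  obtain ⟨n, hn⟩ := (IsPGroup.iff_orderOf.1 H.hS2) ⟨x, hx⟩
  rw [Subgroup.orderOf_mk] at hn
  have h2 : IsCoprime i 2 := by
    obtain ⟨k, hk⟩ := hi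
    exact ⟨1, -k, by rw [hk]; ring⟩
  obtain ⟨u, v, huv⟩ := h2.pow_right (n := n)
  calc x = x ^ (u * i + v * 2 ^ n) := by rw [huv, zpow_one]
    _ = (x ^ i) ^ u * (x ^ ((2 : ℤ) ^ n)) ^ v := by
      rw [zpow_add, mul_comm u, zpow_mul, mul_comm v, zpow_mul]
    _ = 1 := by
      have : x ^ ((2 : ℤ) ^ n) = 1 := by
        have := pow_orderOf_eq_one x
        rw [hn] at this
        exact_mod_cast this
      rw [this, h, one_zpow, one_zpow, mul_one]

theorem relA {y1 : X} (hy1 : y1 ∈ zpowers y) (h : g⁻¹ * c * g = c * y1) : c⁻¹ * y * c = y * (y1 * y1) := by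
  have h1 : t * (g⁻¹ * c * g) * t = (g * y)⁻¹ * c * (g * y) := by
    rw [H.tmul, H.tmul, H.tinv, H.hct, H.hgt]
  rw [h, H.tmul, H.hct, H.yt hy1] at h1
  have h2 : (g * y)⁻¹ * c * (g * y) = y⁻¹ * (c * y1) * y := by rw [← h]; group
  rw [h2] at h1
  have h3 : y * c * y1⁻¹ = c * y1 * y := by
    calc y * c * y1⁻¹ = y * (c * y1⁻¹) := by group
      _ = y * (y⁻¹ * (c * y1) * y) := by rw [h1]
      _ = _ := by group
  have h4 : c⁻¹ * y * c = y1 * y * y1 := by
    calc c⁻¹ * y * c = c⁻¹ * (y * c * y1⁻¹) * y1 := by group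
      _ = c⁻¹ * (c * y1 * y) * y1 := by rw [h3]
      _ = _ := by group
  rw [h4, H.ycomm hy1 (mem_zpowers y), mul_assoc]

theorem relB {y1 : X} (h : g⁻¹ * c * g = c * y1) : c⁻¹ * y1 * c = y1⁻¹ := by
  have h1 : (c * y1) * (c * y1) = c * c := by
    rw [← h]
    calc (g⁻¹ * c * g) * (g⁻¹ * c * g) = g⁻¹ * (c * c) * g := by group
      _ = g⁻¹ * ((c * c) * g) := by group
      _ = g⁻¹ * (g * (c * c)) := by rw [H.z_comm H.hgS]
      _ = _ := by group
  calc c⁻¹ * y1 * c = c⁻¹ * c⁻¹ * ((c * y1) * (c * y1)) * y1⁻¹ := by group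
    _ = c⁻¹ * c⁻¹ * (c * c) * y1⁻¹ := by rw [h1]
    _ = _ := by group

theorem relC : (g * g) * (g⁻¹ * y * g) * y = (g * g)⁻¹ := by
  have h1 : t * (g * g) * t = (g * y) * (g * y) := by rw [H.tmul, H.hgt]
  rw [H.yt (H.hsq g H.hgS)] at h1
  rw [h1]; group

theorem k_even {k : ℤ} (hk : Even k) (h : g⁻¹ * c * g = c * y ^ k) : y ^ k * y ^ k = 1 := by
  have hA := H.relA ⟨k, rfl⟩ h
  have hB := H.relB h
  have h1 : c⁻¹ * y ^ k * c = (c⁻¹ * y * c) ^ k := by
    have := conj_zpow (i := k) (a := c⁻¹) (b := y)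
    rw [inv_inv] at this; exact this.symm
  rw [h1, hA] at hB
  have h2 : (y * (y ^ k * y ^ k)) = y ^ (1 + 2 * k) := by
    rw [zpow_add, zpow_one, two_mul, zpow_add]
  rw [h2, ← zpow_mul, ← zpow_neg] at hB
  have h3 : (y ^ k * y ^ k) ^ (1 + k) = 1 := by
    have e1 : y ^ k * y ^ k = y ^ (2 * k) := by rw [two_mul, zpow_add]
    rw [e1, ← zpow_mul]
    have e2 : 2 * k * (1 + k) = (1 + 2 * k) * k + k := by ring
    rw [e2, zpow_add, hB, ← zpow_add, neg_add_cancel, zpow_zero]
  obtain ⟨j, hj⟩ := hk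
  exact H.oddp (mul_mem (H.yS ⟨k, rfl⟩) (H.yS ⟨k, rfl⟩)) (i := 1 + k) ⟨j, by rw [hj]; ring⟩ h3

theorem zY : c * c ∈ zpowers y := H.hz

/-- involutions of `Y ∪ cY` when `c` centralizes `Y`... general form: the square of `c b`. -/
theorem sq_cb {b : X} (hb : b ∈ zpowers y) (hcy : c⁻¹ * b * c * b = 1) : (c * b) * (c * b) = c * c := by
  calc (c * b) * (c * b) = (c * c) * (c⁻¹ * b * c * b) := by group
    _ = _ := by rw [hcy, mul_one]

theorem conj_invol {x u e : X} (he : x⁻¹ * u * x = e) (hu : u * u = 1) : e * e = 1 := by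
  rw [← he]
  calc (x⁻¹ * u * x) * (x⁻¹ * u * x) = x⁻¹ * (u * u) * x := by group
    _ = 1 := by rw [hu]; group

theorem conj_ne {x u e : X} (he : x⁻¹ * u * x = e) (hu : u ≠ 1) : e ≠ 1 := by
  intro h
  apply hu
  have : u = x * (x⁻¹ * u * x) * x⁻¹ := by group
  rw [this, he, h]; group

theorem z_conj {x s : X} (hs : s ∈ S) : s⁻¹ * (c * c) * s = c * c := by
  rw [mul_assoc, ← H.z_comm hs]; group

/-- small case `|Y| = 2`. -/
theorem small (hyy : y * y = 1) {u : X} (hu : u ∈ S) (hu2 : u * u = 1) : u = 1 ∨ u = c * c := by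
  have hyz : y = c * c := (H.uniq (mem_zpowers y) hyy).resolve_left H.y1
  have hY : ∀ b ∈ zpowers y, b = 1 ∨ b = c * c := by
    intro b hb
    apply H.uniq hb
    obtain ⟨i, rfl⟩ := hb
    show y ^ i * y ^ i = 1
    rw [← zpow_add, ← two_mul, zpow_mul]
    have : y ^ (2 : ℤ) = 1 := by rw [zpow_two]; exact hyy
    rw [this, one_zpow]
  have hcb : ∀ b ∈ zpowers y, c⁻¹ * b * c = b := by
    intro b hb
    rcases hY b hb with rfl | rfl
    · group
    · exact H.z_conj (x := 1) H.hcS
  have hbb : ∀ b ∈ zpowers y, b * b = 1 := by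
    intro b hb
    rcases hY b hb with rfl | rfl
    · exact one_mul 1
    · exact H.hc2
  -- involutions of M c
  have hMc : ∀ e ∈ H.MM c H.hcS, e * e = 1 → e ≠ 1 → e = c * c := by
    rintro e (he | he) he2 he1
    · exact (H.uniq he he2).resolve_left he1
    · exfalso
      have h1 : e = c * (c⁻¹ * e) := by group
      have h2 := H.sq_cb he (by rw [hcb _ he]; exact hbb _ he)
      rw [← h1, he2] at h2
      exact H.hc1 h2.symm
  have hgM : g ∉ H.MM c H.hcS := by
    rintro (h | h)
    · exact H.gY h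
    · exact H.cgY h
  by_cases hu1 : u = 1
  · exact Or.inl hu1
  right
  by_contra huz
  have huM : u ∉ H.MM c H.hcS := fun h => huz (hMc u h hu2 hu1)
  obtain ⟨x, hxA, hx⟩ := H.tt _ (H.MM_le H.hcS) (H.MM_idx H.hcS H.cY) u hu huM hu2
  have hxz := hMc _ hx (H.conj_invol rfl hu2) (H.conj_ne rfl hu1)
  obtain ⟨m, hm⟩ : ∃ m, u = g * m := ⟨g⁻¹ * u, by group⟩
  have hmM : m ∈ H.MM c H.hcS := by
    rcases H.cover H.hcS H.hgS H.cY hgM hu with h | h
    · exact absurd h huM
    · rw [hm] at h; simpa using h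
  have hmc : c * m = m * c := by
    rcases hmM with h | h
    · have := hcb m h
      calc c * m = c * (c⁻¹ * m * c) := by rw [this]
        _ = _ := by group
    · have := hcb _ h
      calc c * m = c * (c * (c⁻¹ * m)) := by group
        _ = c * (c * (c⁻¹ * (c⁻¹ * m) * c)) := by rw [this]
        _ = _ := by group
  have htY : ∀ b ∈ zpowers y, t * b * t = b := by
    intro b hb
    rw [H.yt hb]
    exact inv_eq_of_mul_eq_one_left (hbb b hb)
  have htm : t * m * t = m := by
    rcases hmM with h | h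
    · exact htY m h
    · have h1 : m = c * (c⁻¹ * m) := by group
      rw [h1, H.tmul, H.hct, htY _ h]
  -- commutation of c and g
  have hy1 : c⁻¹ * (g⁻¹ * c * g) ∈ zpowers y := H.hcm g H.hgS c H.hcS
  have hzinv : (c * c)⁻¹ = c * c := inv_eq_of_mul_eq_one_left H.hc2
  rcases hY _ hy1 with h1 | h1
  · -- c commutes with g, hence with u
    have hcg : c * g = g * c := by
      have : g⁻¹ * c * g = c := by
        calc g⁻¹ * c * g = c * (c⁻¹ * (g⁻¹ * c * g)) := by group
          _ = c := by rw [h1, mul_one]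
      calc c * g = g * (g⁻¹ * c * g) := by group
        _ = _ := by rw [this]
    have hcu : c * u = u * c := by
      rw [hm, ← mul_assoc, hcg, mul_assoc, hmc, mul_assoc]
    exact huz (H.phi u (H.hSP hu) c (H.hSP H.hcS) rfl hcu x hxz)
  · have hcg : c⁻¹ * g * c = g * (c * c) := by
      have e1 : g⁻¹ * c * g = c * (c * c) := by
        calc g⁻¹ * c * g = c * (c⁻¹ * (g⁻¹ * c * g)) := by group
          _ = _ := by rw [h1]
      have e2 : c * g = g * c * (c * c) := by
        calc c * g = g * (g⁻¹ * c * g) := by group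
          _ = _ := by rw [e1]; group
      calc c⁻¹ * g * c = c⁻¹ * (g * c * (c * c)) * (c * c)⁻¹ := by group
        _ = c⁻¹ * (c * g) * (c * c)⁻¹ := by rw [e2]
        _ = g * (c * c)⁻¹ := by group
        _ = _ := by rw [hzinv]
    have hcu : c⁻¹ * u * c = u * (c * c) := by
      rw [hm]
      calc c⁻¹ * (g * m) * c = (c⁻¹ * g * c) * (c⁻¹ * (m * c)) := by group
        _ = (g * (c * c)) * (c⁻¹ * (c * m)) := by rw [hcg, hmc]
        _ = g * ((c * c) * m) := by group
        _ = g * (m * (c * c)) := by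
          congr 1
          calc (c * c) * m = c * (c * m) := by group
            _ = c * (m * c) := by rw [hmc]
            _ = (c * m) * c := by group
            _ = (m * c) * c := by rw [hmc]
            _ = _ := by group
        _ = _ := by group
    have htu : t * u * t = u * (c * c) := by
      rw [hm, H.tmul, H.hgt, htm, hyz]
      calc g * (c * c) * m = g * ((c * c) * m) := by group
        _ = g * (m * (c * c)) := by
          congr 1
          calc (c * c) * m = c * (c * m) := by group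
            _ = c * (m * c) := by rw [hmc]
            _ = (c * m) * c := by group
            _ = (m * c) * c := by rw [hmc]
            _ = _ := by group
        _ = _ := by group
    have htci : t * c⁻¹ * t = c⁻¹ := by rw [H.tinv, H.hct]
    apply huz
    refine H.phi u (H.hSP hu) (t * c⁻¹) (mul_mem H.htP (inv_mem (H.hSP H.hcS))) ?_ ?_ x hxz
    · calc t * c⁻¹ * (t * c⁻¹) = (t * c⁻¹ * t) * c⁻¹ := by group
        _ = c⁻¹ * c⁻¹ := by rw [htci]
        _ = (c * c)⁻¹ := by group
        _ = _ := hzinv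
    · -- t c⁻¹ u = u t c⁻¹
      have e1 : c⁻¹ * u = u * (c * c) * c⁻¹ := by rw [← hcu]; group
      have e2 : t * u = u * (c * c) * t := by
        rw [← htu]; simp only [mul_assoc, H.ht, mul_one]
      have e3 : t * (c * c) = (c * c) * t := by
        have : t * (c * c) * t = c * c := by rw [H.tmul, H.hct]
        calc t * (c * c) = (t * (c * c) * t) * t := by simp only [mul_assoc, H.ht, mul_one]
          _ = _ := by rw [this]
      calc t * c⁻¹ * u = t * (c⁻¹ * u) := by group
        _ = t * u * (c * c) * c⁻¹ := by rw [e1]; group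
        _ = u * (c * c) * (t * (c * c)) * c⁻¹ := by rw [e2]; group
        _ = u * (c * c) * ((c * c) * t) * c⁻¹ := by rw [e3]
        _ = u * ((c * c) * (c * c)) * t * c⁻¹ := by group
        _ = _ := by rw [H.hc2]; group

end H4

end H29.C4B
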