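import Cfsg.Agent.Lib.H29.C4C

set_option autoImplicit false
set_option linter.all false

namespace H29.C4B

open Subgroup

variable {X : Type*} [Group X] [Finite X] {A P S : Subgroup X} {t c y g : X}

namespace H4

variable (H : H4 A P S t c y g)
include H

theorem exists_f (hyy : y * y ≠ 1) : ∃ f ∈ zpowers y, f * f = c * c := by
  obtain ⟨j, hj⟩ := H.hz
  have hj : y ^ j = c * c := hj
  rcases Int.even_or_odd j with ⟨i, hi⟩ | hodd
  · exact ⟨y ^ i, ⟨i, rfl⟩, by rw [← zpow_add, ← hi, hj]⟩
  · exfalso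
    obtain ⟨k, hk⟩ := H.gen hodd
    apply hyy
    rw [hj] at hk
    calc y * y = (c * c) ^ k * (c * c) ^ k := by rw [← hk]
      _ = ((c * c) * (c * c)) ^ k := by rw [(Commute.refl (c * c)).mul_zpow]
      _ = 1 := by rw [H.hc2, one_zpow]

theorem conj_pow {x b w : X} {i : ℤ} (h : x⁻¹ * b * x = w) : x⁻¹ * b ^ i * x = w ^ i := by
  have := conj_zpow (i := i) (a := x⁻¹) (b := b)
  rw [inv_inv] at this
  rw [← this, h]

theorem inv_all {x : X} (h : x⁻¹ * y * x = y⁻¹) {b : X} (hb : b ∈ zpowers y) : x⁻¹ * b * x = b⁻¹ := by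
  obtain ⟨i, rfl⟩ := hb
  show x⁻¹ * y ^ i * x = (y ^ i)⁻¹
  rw [H.conj_pow h, inv_zpow]

theorem cen_all {x : X} (h : x * y = y * x) {b : X} (hb : b ∈ zpowers y) : x * b = b * x := by
  obtain ⟨i, rfl⟩ := hb
  exact (Commute.zpow_right (show Commute x y from h) i)

theorem g_odd {i : ℤ} (hi : Odd i) (h : g * g = y ^ i) : g * y = y * g := by
  obtain ⟨j, hj⟩ := H.gen hi
  rw [← h] at hj
  have h1 : Commute g (g * g) := (Commute.refl g).mul_right (Commute.refl g)
  have h2 := h1.zpow_right j
  rw [← hj] at h2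
  exact h2

theorem g_even {i : ℤ} (hi : Even i) (h : g * g = y ^ i) :
    (g * g) * (g * g) = 1 ∧ g⁻¹ * y * g = y⁻¹ := by
  have hC := H.relC
  have haY : g * g ∈ zpowers y := H.hsq g H.hgS
  have hgy : g⁻¹ * y * g = ((g * g) * (g * g) * y)⁻¹ := by
    have h1 : g⁻¹ * y * g = (g * g)⁻¹ * ((g * g) * (g⁻¹ * y * g) * y) * y⁻¹ := by group
    rw [h1, hC]
    have h2 : (g * g)⁻¹ * (g * g)⁻¹ * y⁻¹ = ((y * ((g * g) * (g * g))))⁻¹ := by group
    rw [h2, H.ycomm (mem_zpowers y) (mul_mem haY haY)]
  have h1 : g⁻¹ * (g * g) * g = g * g := by group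
  have h2 : (g * g) = (((g * g) * (g * g) * y)⁻¹) ^ i := by
    have := H.conj_pow (i := i) hgy
    rw [← h, h1] at this
    exact this
  have h3 : (((g * g) * (g * g) * y)⁻¹) ^ i = ((g * g) * (g * g)) ^ (-i) * (g * g)⁻¹ := by
    have hcm : Commute ((g * g) * (g * g)) y := H.ycomm (mul_mem haY haY) (mem_zpowers y)
    rw [inv_zpow, hcm.mul_zpow, mul_inv_rev, ← h, zpow_neg]
    exact H.ycomm (inv_mem haY) (inv_mem (zpow_mem (mul_mem haY haY) i))
  have h4 : ((g * g) * (g * g)) ^ (1 + i) = 1 := by
    rw [zpow_add, zpow_one]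
    have h5 : (g * g) * (g * g) = ((g * g) * (g * g)) ^ (-i) := by
      calc (g * g) * (g * g) = (((g * g) * (g * g) * y)⁻¹) ^ i * (g * g) := by rw [← h2]
        _ = _ := by rw [h3]; group
    nth_rewrite 1 [h5]
    rw [← zpow_add, neg_add_cancel, zpow_zero]
  obtain ⟨j, hj⟩ := hi
  have h5 := H.oddp (mul_mem (H.yS haY) (H.yS haY)) (i := 1 + i) ⟨j, by rw [hj]; ring⟩ h4
  refine ⟨h5, ?_⟩
  rw [hgy, h5, one_mul]

theorem gM : g ∉ H.MM c H.hcS := by
  rintro (h | h)
  · exact H.gY h
  · exact H.cgY h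

theorem surj_norm {x : X} (hx : ∀ s ∈ S, x⁻¹ * s * x ∈ S) {s : X} (hs : s ∈ S) : x * s * x⁻¹ ∈ S := by
  let f : S → S := fun a => ⟨x⁻¹ * a * x, hx a a.2⟩
  have hf : Function.Injective f := by
    intro a b hab
    have h1 : x⁻¹ * (a : X) * x = x⁻¹ * b * x := congrArg Subtype.val hab
    exact Subtype.ext (mul_left_cancel (mul_right_cancel h1))
  obtain ⟨⟨a, ha⟩, hfa⟩ := (Finite.injective_iff_surjective.1 hf) ⟨s, hs⟩
  have h1 : x⁻¹ * a * x = s := congrArg Subtype.val hfa
  rw [← h1]
  have : x * (x⁻¹ * a * x) * x⁻¹ = a := by group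
  rw [this]; exact ha

/-- if an involution of `M = Y ∪ hY` must be `c * c` we get a contradiction for `v` -/
theorem v_contra {v : X} (hvS : v ∈ S) (hv2 : v * v = 1) (hv1 : v ≠ 1) (hvY : v ∉ zpowers y)
    (hcv : c * v = v * c) {h : X} (hh : h ∈ S) (hhY : h ∉ zpowers y) (hvM : v ∉ H.MM h hh)
    (hb : ∀ b ∈ zpowers y, (h * b) * (h * b) ≠ 1) : False := by
  obtain ⟨x, hxA, hx⟩ := H.tt _ (H.MM_le hh) (H.MM_idx hh hhY) v hvS hvM hv2
  have he2 := H.conj_invol (x := x) rfl hv2
  have he1 := H.conj_ne (x := x) rfl hv1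
  rcases hx with hx | hx
  · have h1 := (H.uniq hx he2).resolve_left he1
    have h2 := H.phi v (H.hSP hvS) c (H.hSP H.hcS) rfl hcv x h1
    exact hvY (h2 ▸ H.hz)
  · apply hb _ hx
    have : h * (h⁻¹ * (x⁻¹ * v * x)) = x⁻¹ * v * x := by group
    rw [this]; exact he2

theorem caseI (hyy : y * y ≠ 1) {y1 : X} (hy1 : y1 ∈ zpowers y) (h : g⁻¹ * c * g = c * y1)
    (h2 : y1 * y1 = 1) : False := by
  have hcy : c * y = y * c := by
    have := H.relA hy1 h
    rw [h2, mul_one] at this
    calc c * y = c * (c⁻¹ * y * c) := by rw [this]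
      _ = _ := by group
  have hcb : ∀ b ∈ zpowers y, c * b = b * c := fun b hb => H.cen_all hcy hb
  obtain ⟨f, hf, hff⟩ := H.exists_f hyy
  have hvS : c * f ∈ S := mul_mem H.hcS (H.yS hf)
  have hv2 : (c * f) * (c * f) = 1 := by
    calc (c * f) * (c * f) = c * (f * c) * f := by group
      _ = c * (c * f) * f := by rw [hcb f hf]
      _ = (c * c) * (f * f) := by group
      _ = 1 := by rw [hff, H.hc2]
  have hvY : c * f ∉ zpowers y := fun h3 => H.cY (by
    have : c = (c * f) * f⁻¹ := by group
    rw [this]; exact mul_mem h3 (inv_mem hf))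
  have hv1 : c * f ≠ 1 := fun h3 => hvY (h3 ▸ one_mem _)
  have hcv : c * (c * f) = (c * f) * c := by rw [mul_assoc, ← hcb f hf]
  have hgcf : g⁻¹ * (c * f) ∉ zpowers y := fun h3 => H.cgY (by
    have : c⁻¹ * g = f * (g⁻¹ * (c * f))⁻¹ := by group
    rw [this]; exact mul_mem hf (inv_mem h3))
  have hvMg : c * f ∉ H.MM g H.hgS := by
    rintro (h3 | h3)
    · exact hvY h3
    · exact hgcf h3
  obtain ⟨i, hi⟩ := H.hsq g H.hgS
  have hi : y ^ i = g * g := hi
  rcases Int.even_or_odd i with hev | hodd
  · obtain ⟨haa, hgy⟩ := H.g_even hev hi.symm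
    have hgb : ∀ b ∈ zpowers y, g⁻¹ * b * g = b⁻¹ := fun b hb => H.inv_all hgy hb
    rcases H.uniq hy1 h2 with hy1' | hy1'
    · -- c commutes with g
      rw [hy1', mul_one] at h
      have hcg : c * g = g * c := by
        calc c * g = g * (g⁻¹ * c * g) := by group
          _ = _ := by rw [h]
      rcases H.uniq (H.hsq g H.hgS) haa with ha | ha
      · -- h = g c
        have hhS : g * c ∈ S := mul_mem H.hgS H.hcS
        have hhY : g * c ∉ zpowers y := fun h3 => H.cgY (by
          have e1 : c⁻¹ * g = (g * c) * (c * c)⁻¹ := by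
            calc c⁻¹ * g = c⁻¹ * (g * c) * c⁻¹ := by group
              _ = c⁻¹ * (c * g) * c⁻¹ := by rw [hcg]
              _ = g * c⁻¹ := by group
              _ = _ := by group
          rw [e1]; exact mul_mem h3 (inv_mem H.hz))
        refine H.v_contra hvS hv2 hv1 hvY hcv hhS hhY ?_ ?_
        · rintro (h3 | h3)
          · exact hvY h3
          · apply H.gY
            have e1 : (g * c)⁻¹ * (c * f) = g⁻¹ * f := by
              rw [← hcg]; group
            rw [e1] at h3
            have e2 : g = f * (g⁻¹ * f)⁻¹ := by group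
            rw [e2]; exact mul_mem hf (inv_mem h3)
        · intro b hb h3
          apply H.hc1
          calc c * c = 1 * (c * c) := by rw [one_mul]
            _ = (g * g) * (c * c) := by rw [ha]
            _ = g * (g * (c * c)) := by group
            _ = g * ((c * c) * g) := by rw [H.z_comm H.hgS]
            _ = g * (c * c) * g * (b⁻¹ * b) := by group
            _ = g * (c * c) * g * ((g⁻¹ * b * g) * b) := by rw [hgb b hb]
            _ = g * c * (c * b) * g * b := by group
            _ = g * c * (b * c) * g * b := by rw [hcb b hb]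
            _ = g * c * b * (c * g) * b := by group
            _ = g * c * b * (g * c) * b := by rw [hcg]
            _ = (g * c) * b * ((g * c) * b) := by group
            _ = 1 := h3
      · -- h = g
        refine H.v_contra hvS hv2 hv1 hvY hcv H.hgS H.gY hvMg ?_
        intro b hb h3
        apply H.hc1
        have e1 : g * b * (g * b) = (g * g) * ((g⁻¹ * b * g) * b) := by group
        rw [e1, hgb b hb, inv_mul_cancel, mul_one, ha] at h3
        exact h3
    · -- v is central in S
      have hfinv : f⁻¹ = f * (c * c) := by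
        have : f * (f * (c * c)) = 1 := by
          calc f * (f * (c * c)) = (f * f) * (c * c) := by group
            _ = 1 := by rw [hff, H.hc2]
        exact inv_eq_of_mul_eq_one_right this
      have hvg : g * (c * f) = (c * f) * g := by
        have e1 : g⁻¹ * (c * f) * g = c * f := by
          calc g⁻¹ * (c * f) * g = (g⁻¹ * c * g) * (g⁻¹ * f * g) := by group
            _ = (c * (c * c)) * (f * (c * c)) := by rw [h, hy1', hgb f hf, hfinv]
            _ = c * ((c * c) * f) * (c * c) := by group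
            _ = c * (f * (c * c)) * (c * c) := by rw [H.ycomm H.hz hf]
            _ = (c * f) * ((c * c) * (c * c)) := by group
            _ = _ := by rw [H.hc2, mul_one]
        calc g * (c * f) = g * (g⁻¹ * (c * f) * g) := by rw [e1]
          _ = _ := by group
      have hvb : ∀ b ∈ zpowers y, b * (c * f) = (c * f) * b := by
        intro b hb
        calc b * (c * f) = (b * c) * f := by group
          _ = (c * b) * f := by rw [hcb b hb]
          _ = c * (b * f) := by group
          _ = c * (f * b) := by rw [H.ycomm hb hf]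
          _ = _ := by group
      have hcM : c ∉ H.MM g H.hgS := by
        rintro (h3 | h3)
        · exact H.cY h3
        · apply H.cgY
          have : c⁻¹ * g = (g⁻¹ * c)⁻¹ := by group
          rw [this]; exact inv_mem h3
      have hMg : ∀ m ∈ H.MM g H.hgS, m * (c * f) = (c * f) * m := by
        rintro m (hm | hm)
        · exact hvb m hm
        · calc m * (c * f) = g * ((g⁻¹ * m) * (c * f)) := by group
            _ = g * ((c * f) * (g⁻¹ * m)) := by rw [hvb _ hm]
            _ = (g * (c * f)) * (g⁻¹ * m) := by group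
            _ = ((c * f) * g) * (g⁻¹ * m) := by rw [hvg]
            _ = _ := by group
      have hcent : ∀ s ∈ S, s * (c * f) = (c * f) * s := by
        intro s hs
        rcases H.cover H.hgS H.hcS H.gY hcM hs with h3 | h3
        · exact hMg s h3
        · calc s * (c * f) = c * ((c⁻¹ * s) * (c * f)) := by group
            _ = c * ((c * f) * (c⁻¹ * s)) := by rw [hMg _ h3]
            _ = (c * (c * f)) * (c⁻¹ * s) := by group
            _ = ((c * f) * c) * (c⁻¹ * s) := by rw [hcv]
            _ = _ := by group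
      obtain ⟨x, hxA, hxS, hx⟩ := H.ttc _ (H.MM_le H.hgS) (H.MM_idx H.hgS H.gY) _ hvS hvMg hv2 hcent
      have he2 := H.conj_invol (x := x) rfl hv2
      have he1 := H.conj_ne (x := x) rfl hv1
      rcases hx with hx | hx
      · have h5 := (H.uniq hx he2).resolve_left he1
        have h6 := H.phi _ (H.hSP hvS) c (H.hSP H.hcS) rfl hcv x h5
        exact hvY (h6 ▸ H.hz)
      · -- e = g b inverts y but is central
        have hyx := hcent _ (H.surj_norm hxS H.hyS)
        have h5 : y * (x⁻¹ * (c * f) * x) = (x⁻¹ * (c * f) * x) * y := by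
          calc y * (x⁻¹ * (c * f) * x) = x⁻¹ * ((x * y * x⁻¹) * (c * f)) * x := by group
            _ = x⁻¹ * ((c * f) * (x * y * x⁻¹)) * x := by rw [hyx]
            _ = _ := by group
        obtain ⟨b, hb, he⟩ : ∃ b ∈ zpowers y, x⁻¹ * (c * f) * x = g * b := ⟨_, hx, by group⟩
        rw [he] at h5
        apply hyy
        have h6 : (g⁻¹ * y * g) * b = b * y := by
          calc (g⁻¹ * y * g) * b = g⁻¹ * (y * (g * b)) := by group
            _ = g⁻¹ * (g * b * y) := by rw [h5]
            _ = _ := by group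
        rw [hgy, H.ycomm hb (mem_zpowers y)] at h6
        have h7 : y⁻¹ = y := mul_right_cancel h6
        nth_rewrite 1 [← h7]
        exact inv_mul_cancel y
  · have hgy := H.g_odd hodd hi.symm
    refine H.v_contra hvS hv2 hv1 hvY hcv H.hgS H.gY hvMg ?_
    rintro b ⟨j, rfl⟩ h3
    have h3 : g * y ^ j * (g * y ^ j) = 1 := h3
    have e1 : g * y ^ j * (g * y ^ j) = y ^ (i + 2 * j) := by
      have hc : g * y ^ j = y ^ j * g := H.cen_all hgy ⟨j, rfl⟩
      calc g * y ^ j * (g * y ^ j) = g * (y ^ j * g) * y ^ j := by group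
        _ = g * (g * y ^ j) * y ^ j := by rw [hc]
        _ = (g * g) * (y ^ j * y ^ j) := by group
        _ = _ := by rw [← hi, ← zpow_add, ← zpow_add, two_mul]
    rw [e1] at h3
    exact H.odd_ne (hodd.add_even ⟨j, two_mul j⟩) h3

end H4

end H29.C4B
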