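import Cfsg.Agent.Lib.H29.C4D

set_option autoImplicit false
set_option linter.all false

namespace H29.C4B

open Subgroup

variable {X : Type*} [Group X] [Finite X] {A P S : Subgroup X} {t c y g : X}

namespace H4

variable (H : H4 A P S t c y g)
include H

theorem key (hcb : ∀ b ∈ zpowers y, c⁻¹ * b * c = b⁻¹) {r y2 : X} (hr : r ∈ S) (hry : r * y = y * r)
    (hy2 : y2 ∈ zpowers y) (h1 : r⁻¹ * c * r = c * y2) :
    (c⁻¹ * r * c = r⁻¹ ∨ c⁻¹ * r * c = r⁻¹ * (c * c)) := by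
  have hrr := H.hsq r hr
  have h2 : c⁻¹ * r * c = r * y2⁻¹ := by
    have e1 : c * r = r * (c * y2) := by rw [← h1]; group
    calc c⁻¹ * r * c = c⁻¹ * (r * (c * y2)) * y2⁻¹ := by group
      _ = c⁻¹ * (c * r) * y2⁻¹ := by rw [e1]
      _ = _ := by group
  have h3 : (r * y2⁻¹) * (r * y2⁻¹) = (r * r)⁻¹ := by
    rw [← h2, ← hcb _ hrr]; group
  have hyr := H.cen_all hry (inv_mem hy2)
  have hw : (r * r) * y2⁻¹ ∈ zpowers y := mul_mem hrr (inv_mem hy2)
  have h4 : r * y2⁻¹ = r⁻¹ * ((r * r) * y2⁻¹) := by group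
  have h5 : ((r * r) * y2⁻¹) * ((r * r) * y2⁻¹) = 1 := by
    calc ((r * r) * y2⁻¹) * ((r * r) * y2⁻¹) = (r * r) * (y2⁻¹ * (r * r)) * y2⁻¹ := by group
      _ = (r * r) * ((r * r) * y2⁻¹) * y2⁻¹ := by rw [H.ycomm (inv_mem hy2) hrr]
      _ = (r * r) * (r * (r * y2⁻¹) * y2⁻¹) := by group
      _ = (r * r) * (r * (y2⁻¹ * r) * y2⁻¹) := by rw [hyr]
      _ = (r * r) * ((r * y2⁻¹) * (r * y2⁻¹)) := by group
      _ = 1 := by rw [h3, mul_inv_cancel]
  rcases H.uniq hw h5 with h6 | h6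
  · left; rw [h2, h4, h6, mul_one]
  · right; rw [h2, h4, h6]

theorem caseII (hyy : y * y ≠ 1) {k : ℤ} (hk : Odd k) (h : g⁻¹ * c * g = c * y ^ k) :
    c⁻¹ * y * c = y⁻¹ ∧ ∃ r ∈ S, r ∉ H.MM c H.hcS ∧ r * y = y * r ∧ (∃ l : ℤ, Odd l ∧ r * r = y ^ l) ∧
      (∃ b ∈ zpowers y, t * r * t = r * b) ∧ (c⁻¹ * r * c = r⁻¹ ∨ c⁻¹ * r * c = r⁻¹ * (c * c)) := by
  have hB := H.relB h
  have hcy : c⁻¹ * y * c = y⁻¹ := by
    obtain ⟨j, hj⟩ := H.gen hk
    have h1 := H.conj_pow (i := j) hB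
    rw [inv_zpow, ← hj] at h1
    exact h1
  have hcb : ∀ b ∈ zpowers y, c⁻¹ * b * c = b⁻¹ := fun b hb => H.inv_all hcy hb
  refine ⟨hcy, ?_⟩
  obtain ⟨i, hi⟩ := H.hsq g H.hgS
  have hi : y ^ i = g * g := hi
  rcases Int.even_or_odd i with hev | hodd
  · obtain ⟨haa, hgy⟩ := H.g_even hev hi.symm
    have hry : g * c * y = y * (g * c) := by
      have e1 : (g * c)⁻¹ * y * (g * c) = y := by
        calc (g * c)⁻¹ * y * (g * c) = c⁻¹ * (g⁻¹ * y * g) * c := by group
          _ = c⁻¹ * y⁻¹ * c := by rw [hgy]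
          _ = (c⁻¹ * y * c)⁻¹ := by group
          _ = y := by rw [hcy, inv_inv]
      calc g * c * y = g * c * ((g * c)⁻¹ * y * (g * c)) := by rw [e1]
        _ = _ := by group
    refine ⟨g * c, mul_mem H.hgS H.hcS, ?_, hry, ?_, ⟨y⁻¹, inv_mem (mem_zpowers y), ?_⟩, ?_⟩
    · intro h3
      apply H.gM
      have h4 := mul_mem h3 (inv_mem (H.h_mem H.hcS))
      rwa [mul_inv_cancel_right] at h4
    · -- square
      have e1 : g * c * (g * c) = (g * g) * ((c * c) * (y ^ k)⁻¹) := by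
        calc g * c * (g * c) = (g * g) * ((g⁻¹ * c * g) * c) := by group
          _ = (g * g) * (c * y ^ k * c) := by rw [h]
          _ = (g * g) * ((c * c) * (c⁻¹ * y ^ k * c)) := by group
          _ = _ := by rw [hB]
      obtain ⟨f, ⟨j, hj⟩, hff⟩ := H.exists_f hyy
      have hj : y ^ j = f := hj
      refine ⟨i + ((j + j) + -k), ?_, ?_⟩
      · exact hev.add_odd ((Even.add_odd ⟨j, rfl⟩ hk.neg))
      · rw [e1, ← hi, ← hff, ← hj, ← zpow_neg, ← zpow_add, ← zpow_add, ← zpow_add]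
    · rw [H.tmul, H.hgt, H.hct]
      calc g * y * c = g * c * (c⁻¹ * y * c) := by group
        _ = _ := by rw [hcy]
    · refine H.key hcb (mul_mem H.hgS H.hcS) hry (y2 := (y ^ k)⁻¹) (inv_mem ⟨k, rfl⟩) ?_
      calc (g * c)⁻¹ * c * (g * c) = c⁻¹ * (g⁻¹ * c * g) * c := by group
        _ = c⁻¹ * (c * y ^ k) * c := by rw [h]
        _ = c * (c⁻¹ * y ^ k * c) := by group
        _ = _ := by rw [hB]
  · have hgy := H.g_odd hodd hi.symm
    exact ⟨g, H.hgS, H.gM, hgy, ⟨i, hodd, hi.symm⟩, ⟨y, mem_zpowers y, H.hgt⟩,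
      H.key hcb H.hgS hgy ⟨k, rfl⟩ h⟩

theorem unique (hsd : y * y ≠ 1 → c⁻¹ * y * c = y⁻¹ → ∀ r ∈ S, r ∉ H.MM c H.hcS → r * y = y * r →
      (∃ l : ℤ, Odd l ∧ r * r = y ^ l) → (∃ b ∈ zpowers y, t * r * t = r * b) →
      c⁻¹ * r * c = r⁻¹ * (c * c) → ∀ x ∈ A, x⁻¹ * c * x ∉ zpowers y)
    {u : X} (hu : u ∈ S) (hu2 : u * u = 1) : u = 1 ∨ u = c * c := by
  by_cases hyy : y * y = 1
  · exact H.small hyy hu hu2
  have hy1 : c⁻¹ * (g⁻¹ * c * g) ∈ zpowers y := H.hcm g H.hgS c H.hcS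
  obtain ⟨k, hk⟩ := hy1
  have hk : y ^ k = c⁻¹ * (g⁻¹ * c * g) := hk
  have hg1 : g⁻¹ * c * g = c * y ^ k := by rw [hk]; group
  rcases Int.even_or_odd k with hev | hodd
  · exact (H.caseI hyy ⟨k, rfl⟩ hg1 (H.k_even hev hg1)).elim
  · obtain ⟨hcy, r, hr, hrM, hry, ⟨l, hl, hrl⟩, hrt, hcr⟩ := H.caseII hyy hodd hg1
    have hcb : ∀ b ∈ zpowers y, c⁻¹ * b * c = b⁻¹ := fun b hb => H.inv_all hcy hb
    have hrb : ∀ b ∈ zpowers y, r * b = b * r := fun b hb => H.cen_all hry hb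
    -- squares
    have sq1 : ∀ b ∈ zpowers y, (c * b) * (c * b) = c * c := fun b hb =>
      H.sq_cb hb (by rw [hcb b hb, inv_mul_cancel])
    have sq2 : ∀ b ∈ zpowers y, (r * b) * (r * b) ≠ 1 := by
      rintro b ⟨j, rfl⟩ h3
      have h3 : r * y ^ j * (r * y ^ j) = 1 := h3
      have e1 : r * y ^ j * (r * y ^ j) = y ^ (l + 2 * j) := by
        have hc : r * y ^ j = y ^ j * r := hrb _ ⟨j, rfl⟩
        calc r * y ^ j * (r * y ^ j) = r * (y ^ j * r) * y ^ j := by group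
          _ = r * (r * y ^ j) * y ^ j := by rw [hc]
          _ = (r * r) * (y ^ j * y ^ j) := by group
          _ = _ := by rw [hrl, ← zpow_add, ← zpow_add, two_mul]
      rw [e1] at h3
      exact H.odd_ne (hl.add_even ⟨j, two_mul j⟩) h3
    have hrcb : ∀ b ∈ zpowers y, (r * c)⁻¹ * b * (r * c) = b⁻¹ := by
      intro b hb
      calc (r * c)⁻¹ * b * (r * c) = c⁻¹ * (r⁻¹ * (b * r)) * c := by group
        _ = c⁻¹ * (r⁻¹ * (r * b)) * c := by rw [hrb b hb]
        _ = c⁻¹ * b * c := by group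
        _ = _ := hcb b hb
    have sq3 : ∀ b ∈ zpowers y, (r * c * b) * (r * c * b) = (r * c) * (r * c) := by
      intro b hb
      calc (r * c * b) * (r * c * b) = (r * c) * (r * c) * (((r * c)⁻¹ * b * (r * c)) * b) := by group
        _ = _ := by rw [hrcb b hb, inv_mul_cancel, mul_one]
    have hrcc : (r * c) * (r * c) = r * (c * c) * (c⁻¹ * r * c) := by group
    have hcov : ∀ s ∈ S, s ∈ zpowers y ∨ c⁻¹ * s ∈ zpowers y ∨ r⁻¹ * s ∈ zpowers y ∨ (r * c)⁻¹ * s ∈ zpowers y := by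
      intro s hs
      rcases H.cover H.hcS hr H.cY hrM hs with (h3 | h3) | (h3 | h3)
      · exact Or.inl h3
      · exact Or.inr (Or.inl h3)
      · exact Or.inr (Or.inr (Or.inl h3))
      · right; right; right
        have : (r * c)⁻¹ * s = c⁻¹ * (r⁻¹ * s) := by group
        rw [this]; exact h3
    have hinvol : ∀ s ∈ S, s * s = 1 → s ∈ zpowers y ∨ (r * c)⁻¹ * s ∈ zpowers y := by
      intro s hs hs2
      rcases hcov s hs with h3 | h3 | h3 | h3
      · exact Or.inl h3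
      · exfalso
        have := sq1 _ h3
        have e : c * (c⁻¹ * s) = s := by group
        rw [e, hs2] at this
        exact H.hc1 this.symm
      · exfalso
        apply sq2 _ h3
        have e : r * (r⁻¹ * s) = s := by group
        rw [e, hs2]
      · exact Or.inr h3
    rcases hcr with hcr | hcr
    · -- quaternion
      rcases hinvol u hu hu2 with h3 | h3
      · exact H.uniq h3 hu2
      · exfalso
        have h4 := sq3 _ h3
        have e : r * c * ((r * c)⁻¹ * u) = u := by group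
        rw [e, hu2, hrcc, hcr] at h4
        apply H.hc1
        calc c * c = r⁻¹ * (r * (c * c) * r⁻¹) * r := by group
          _ = r⁻¹ * 1 * r := by rw [← h4]
          _ = 1 := by group
    · exfalso
      have hrc2 : (r * c) * (r * c) = 1 := by
        rw [hrcc, hcr]
        calc r * (c * c) * (r⁻¹ * (c * c)) = (r * (c * c)) * r⁻¹ * (c * c) := by group
          _ = ((c * c) * r) * r⁻¹ * (c * c) := by rw [H.z_comm hr]
          _ = (c * c) * (c * c) := by group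
          _ = 1 := H.hc2
      have hrY : r ∉ zpowers y := fun h3 => hrM (Or.inl h3)
      have hrcS : r * c ∈ S := mul_mem hr H.hcS
      have hrcY : r * c ∉ zpowers y := by
        intro h3
        apply hrM
        have h4 := mul_mem (show r * c ∈ H.MM c H.hcS from Or.inl h3) (inv_mem (H.h_mem H.hcS))
        rwa [mul_inv_cancel_right] at h4
      have hcM : c ∉ H.MM (r * c) hrcS := by
        rintro (h3 | h3)
        · exact H.cY h3
        · have e : (r * c)⁻¹ * c = (c⁻¹ * r * c)⁻¹ := by group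
          rw [e, hcr] at h3
          apply hrY
          have e2 : r = (c * c) * ((r⁻¹ * (c * c))⁻¹) := by group
          rw [e2]
          exact mul_mem H.hz h3
      obtain ⟨x, hxA, hx⟩ := H.gtt _ (H.MM_le hrcS) (H.MM_idx hrcS hrcY) hcM (by
        intro x hxA hxS
        exact hinvol _ hxS (H.conj_invol (x := x) rfl H.hc2))
      rcases hx with hx | hx
      · exact hsd hyy hcy r hr hrM hry ⟨l, hl, hrl⟩ hrt hcr x hxA hx
      · have h4 := sq3 _ hx
        have e : r * c * ((r * c)⁻¹ * (x⁻¹ * c * x)) = x⁻¹ * c * x := by group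
        rw [e, hrc2] at h4
        apply H.hc1
        calc c * c = x * ((x⁻¹ * c * x) * (x⁻¹ * c * x)) * x⁻¹ := by group
          _ = 1 := by rw [h4]; group

end H4

end H29.C4B
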