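import Mathlib

set_option autoImplicit false
set_option linter.all false

/-! Two refined forms of the Thompson transfer lemma. -/

namespace H29.TTx

open MulAction

/-- Elements of 2-power order: odd "powers" never land in `Q`, even ones always do. -/
theorem gtt {G : Type*} [Group G] [Finite G] (H Q : Subgroup G) (hQ : Q ≤ H)
    (hodd : Odd H.index) (hQi : Q.relIndex H = 2) (u : G) (n : ℕ) (hu : u ^ (2 ^ n) = 1)
    (h1 : ∀ x : G, x⁻¹ * u * x ∉ Q)
    (h2 : ∀ (k : ℕ) (x : G), x⁻¹ * (u ^ 2) ^ k * x ∈ H → x⁻¹ * (u ^ 2) ^ k * x ∈ Q) :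
    ∃ M : Subgroup G, M.Normal ∧ M.index = 2 ∧ u ∉ M := by
  classical
  haveI hn : (Q.subgroupOf H).Normal := Subgroup.normal_of_index_eq_two hQi
  let A := H ⧸ Q.subgroupOf H
  have hA : Nat.card A = 2 := hQi
  haveI : IsCyclic A := isCyclic_of_prime_card (p := 2) hA
  letI : CommGroup A := IsCyclic.commGroup
  let ϕ : H →* A := QuotientGroup.mk' (Q.subgroupOf H)
  have hϕ : ∀ h : H, ϕ h = 1 ↔ (h : G) ∈ Q := by
    intro h
    rw [← MonoidHom.mem_ker, QuotientGroup.ker_mk']
    exact Subgroup.mem_subgroupOf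
  obtain ⟨s, hs1, hs2⟩ := (Nat.card_eq_two_iff' (1 : A)).1 hA
  have hs2' : ∀ a : A, a ≠ 1 → a = s := fun a ha => hs2 a ha
  have hss : s ^ 2 = 1 := by rw [← hA]; exact pow_card_eq_one'
  let V : G →* A := MonoidHom.transfer ϕ
  haveI : Fintype (Quotient (orbitRel (Subgroup.zpowers u) (G ⧸ H))) := Fintype.ofFinite _
  have hV : V u = s ^ H.index := by
    rw [Subgroup.index_eq_sum_minimalPeriod H u, ← Finset.prod_pow_eq_pow_sum]
    show MonoidHom.transfer ϕ u = _
    rw [MonoidHom.transfer_eq_prod_quotient_orbitRel_zpowers_quot]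
    apply Finset.prod_congr rfl
    intro q _
    have hdvd : Function.minimalPeriod (u • ·) q.out ∣ 2 ^ n := by
      apply Function.IsPeriodicPt.minimalPeriod_dvd
      show (u • ·)^[2 ^ n] q.out = q.out
      rw [smul_iterate, hu]
      exact one_smul _ _
    have hmem := QuotientGroup.out_conj_pow_minimalPeriod_mem H u q.out
    have key : ∀ (k : ℕ) (t : G) (hk : t⁻¹ * u ^ k * t ∈ H), (k = 1 ∨ ∃ i, k = 2 * i) →
        ϕ ⟨t⁻¹ * u ^ k * t, hk⟩ = s ^ k := by
      rintro k t hk (rfl | ⟨i, rfl⟩)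
      · rw [pow_one s]
        apply hs2'
        rw [Ne, hϕ]
        show ¬ (t⁻¹ * u ^ 1 * t ∈ Q)
        rw [pow_one]
        exact h1 t
      · have hr : s ^ (2 * i) = 1 := by rw [pow_mul, hss, one_pow]
        rw [hr, hϕ]
        show (t⁻¹ * u ^ (2 * i) * t ∈ Q)
        rw [pow_mul] at hk ⊢
        exact h2 _ _ hk
    refine key _ _ _ ?_
    obtain ⟨j, -, hj⟩ := (Nat.dvd_prime_pow Nat.prime_two).1 hdvd
    rcases Nat.eq_zero_or_pos j with rfl | hj0
    · left; rw [hj, pow_zero]
    · right; refine ⟨2 ^ (j - 1), ?_⟩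
      rw [hj, ← pow_succ']; congr 1; omega
  have hV1 : V u = s := by
    rw [hV]
    obtain ⟨k, hk⟩ := hodd
    rw [hk, pow_add, pow_mul, hss, one_pow, one_mul, pow_one]
  refine ⟨V.ker, inferInstance, ?_, ?_⟩
  · rw [Subgroup.index_ker]
    have h1 : Nat.card V.range ∣ 2 := by
      rw [← hA]; exact Subgroup.card_subgroup_dvd_card V.range
    rcases (Nat.dvd_prime Nat.prime_two).1 h1 with h2 | h2
    · exfalso
      have h3 : V.range = ⊥ := Subgroup.card_eq_one.1 h2
      have h4 : V u ∈ V.range := ⟨u, rfl⟩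
      rw [h3, Subgroup.mem_bot, hV1] at h4
      exact hs1 h4
    · exact h2
  · rw [MonoidHom.mem_ker, hV1]
    exact hs1

/-- Central involution version: only the conjugates under `N(H)` matter. -/
theorem ttc {G : Type*} [Group G] [Finite G] (H Q : Subgroup G) (hQ : Q ≤ H) (hH2 : IsPGroup 2 H)
    (hodd : Odd H.index) (hQi : Q.relIndex H = 2) (u : G) (hu : u ^ 2 = 1)
    (hc : ∀ h ∈ H, h * u = u * h) (hN : ∀ x : G, (∀ h ∈ H, x⁻¹ * h * x ∈ H) → x⁻¹ * u * x ∉ Q) :
    ∃ M : Subgroup G, M.Normal ∧ M.index = 2 ∧ u ∉ M := by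
  classical
  haveI : Fact (Nat.Prime 2) := ⟨Nat.prime_two⟩
  haveI hn : (Q.subgroupOf H).Normal := Subgroup.normal_of_index_eq_two hQi
  let A := H ⧸ Q.subgroupOf H
  have hA : Nat.card A = 2 := hQi
  haveI : IsCyclic A := isCyclic_of_prime_card (p := 2) hA
  letI : CommGroup A := IsCyclic.commGroup
  let ϕ : H →* A := QuotientGroup.mk' (Q.subgroupOf H)
  have hϕ : ∀ h : H, ϕ h = 1 ↔ (h : G) ∈ Q := by
    intro h
    rw [← MonoidHom.mem_ker, QuotientGroup.ker_mk']
    exact Subgroup.mem_subgroupOf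
  obtain ⟨s, hs1, hs2⟩ := (Nat.card_eq_two_iff' (1 : A)).1 hA
  have hs2' : ∀ a : A, a ≠ 1 → a = s := fun a ha => hs2 a ha
  have hss : s ^ 2 = 1 := by rw [← hA]; exact pow_card_eq_one'
  let V : G →* A := MonoidHom.transfer ϕ
  -- the bad set
  let F : Set (G ⧸ H) := {q | (q.out)⁻¹ * u * q.out ∈ Q}
  have hF : ∀ x : G, ((x : G ⧸ H) ∈ F ↔ x⁻¹ * u * x ∈ Q) := by
    intro x
    obtain ⟨h, hh⟩ := QuotientGroup.mk_out_eq_mul H x
    show (((x : G ⧸ H)).out)⁻¹ * u * ((x : G ⧸ H)).out ∈ Q ↔ _
    rw [hh]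
    have e : (x * (h : G))⁻¹ * u * (x * h) = (h : G)⁻¹ * (x⁻¹ * u * x) * h := by group
    rw [e]
    constructor
    · intro h1
      have h2 := hn.conj_mem ⟨_, hQ h1⟩ (Subgroup.mem_subgroupOf.2 h1) h
      rw [Subgroup.mem_subgroupOf] at h2
      have e2 : ((h * ⟨(h : G)⁻¹ * (x⁻¹ * u * x) * h, hQ h1⟩ * h⁻¹ : H) : G) = x⁻¹ * u * x := by
        show (h : G) * ((h : G)⁻¹ * (x⁻¹ * u * x) * h) * (h : G)⁻¹ = _
        group
      rw [e2] at h2
      exact h2
    · intro h1
      have h2 := hn.conj_mem ⟨_, hQ h1⟩ (Subgroup.mem_subgroupOf.2 h1) h⁻¹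
      rw [Subgroup.mem_subgroupOf] at h2
      have e2 : ((h⁻¹ * ⟨x⁻¹ * u * x, hQ h1⟩ * h⁻¹⁻¹ : H) : G) = (h : G)⁻¹ * (x⁻¹ * u * x) * h := by
        show (h : G)⁻¹ * (x⁻¹ * u * x) * ((h : G)⁻¹)⁻¹ = _
        group
      rw [e2] at h2
      exact h2
  have hFfix : ∀ q ∈ F, u • q = q := by
    intro q
    induction q using QuotientGroup.induction_on with
    | H x =>
      intro hx
      rw [hF] at hx
      show ((u * x : G) : G ⧸ H) = (x : G ⧸ H)
      rw [eq_comm, QuotientGroup.eq]
      have := hQ hx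
      rwa [mul_assoc] at this
  -- `H` acts on F without fixed points
  have hinv : ∀ (h : H) (q : G ⧸ H), q ∈ F → (h : G) • q ∈ F := by
    intro h q
    induction q using QuotientGroup.induction_on with
    | H x =>
      intro hx
      rw [hF] at hx
      show (((h : G) * x : G) : G ⧸ H) ∈ F
      rw [hF]
      have e : ((h : G) * x)⁻¹ * u * (h * x) = x⁻¹ * u * x := by
        have : (h : G)⁻¹ * u * h = u := by
          rw [mul_assoc, ← hc h h.2]; group
        calc ((h : G) * x)⁻¹ * u * (h * x) = x⁻¹ * ((h : G)⁻¹ * u * h) * x := by group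
          _ = _ := by rw [this]
      rwa [e]
  letI : MulAction H F :=
    { smul := fun h q => ⟨(h : G) • (q : G ⧸ H), hinv h q q.2⟩
      one_smul := fun q => Subtype.ext (by show ((1 : H) : G) • (q : G ⧸ H) = q; simp)
      mul_smul := fun a b q => Subtype.ext (by
        show ((a * b : H) : G) • (q : G ⧸ H) = (a : G) • ((b : G) • (q : G ⧸ H))
        rw [Subgroup.coe_mul, mul_smul]) }
  have hnofix : IsEmpty (fixedPoints H F) := by
    constructor
    rintro ⟨⟨q, hq⟩, hfix⟩
    revert hq
    induction q using QuotientGroup.induction_on with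
    | H x =>
      intro hq hfix
      have hx := (hF x).1 hq
      refine hN x ?_ hx
      intro h hh
      have h1 := hfix ⟨h, hh⟩
      have h2 : (((h * x : G)) : G ⧸ H) = (x : G ⧸ H) := congrArg Subtype.val h1
      rw [eq_comm, QuotientGroup.eq] at h2
      rwa [← mul_assoc] at h2
  have hFe : Even (Nat.card F) := by
    have h1 := hH2.card_modEq_card_fixedPoints F
    have h2 : Nat.card (fixedPoints H F) = 0 := by
      haveI := hnofix
      exact Nat.card_of_isEmpty
    rw [h2] at h1
    exact Nat.even_iff.2 h1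
  haveI : Fintype (Quotient (orbitRel (Subgroup.zpowers u) (G ⧸ H))) := Fintype.ofFinite _
  have hV : V u = s ^ H.index := by
    have hprod : V u = ∏ q : Quotient (orbitRel (Subgroup.zpowers u) (G ⧸ H)),
        (s ^ Function.minimalPeriod (u • ·) q.out * (if q.out ∈ F then s else 1)) := by
      show MonoidHom.transfer ϕ u = _
      rw [MonoidHom.transfer_eq_prod_quotient_orbitRel_zpowers_quot]
      apply Finset.prod_congr rfl
      intro q _
      have hdvd : Function.minimalPeriod (u • ·) q.out ∣ 2 := by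
        apply Function.IsPeriodicPt.minimalPeriod_dvd
        show (u • ·)^[2] q.out = q.out
        simp only [Function.iterate_succ, Function.iterate_zero, Function.comp_apply, id_eq]
        rw [← mul_smul, ← pow_two, hu, one_smul]
      have key : ∀ (k : ℕ) (t : G) (hk : t⁻¹ * u ^ k * t ∈ H) (b : Prop) [Decidable b],
          (b ↔ t⁻¹ * u * t ∈ Q) → (b → k = 1) → k = 1 ∨ k = 2 →
          ϕ ⟨t⁻¹ * u ^ k * t, hk⟩ = s ^ k * (if b then s else 1) := by
        intro k t hk b _ hb hb1 hk12
        by_cases hbb : b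
        · have hk1 := hb1 hbb
          subst hk1
          have e1 : s ^ 1 * (if b then s else 1) = 1 := by
            rw [if_pos hbb, pow_one, ← pow_two, hss]
          rw [e1, hϕ]
          show t⁻¹ * u ^ 1 * t ∈ Q
          rw [pow_one]; exact hb.1 hbb
        · rw [if_neg hbb, mul_one]
          rcases hk12 with rfl | rfl
          · rw [pow_one s]
            apply hs2'
            rw [Ne, hϕ]
            show ¬ (t⁻¹ * u ^ 1 * t ∈ Q)
            rw [pow_one]; exact fun h => hbb (hb.2 h)
          · rw [hss, hϕ]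
            show (t⁻¹ * u ^ 2 * t ∈ Q)
            rw [hu, mul_one, inv_mul_cancel]
            exact Q.one_mem
      refine key _ _ _ _ Iff.rfl ?_ ((Nat.dvd_prime Nat.prime_two).1 hdvd)
      intro hq
      rw [Function.minimalPeriod_eq_one_iff_isFixedPt]
      exact hFfix _ hq
    rw [hprod, Finset.prod_mul_distrib, Finset.prod_pow_eq_pow_sum, ← Subgroup.index_eq_sum_minimalPeriod H u]
    rw [Finset.prod_ite, Finset.prod_const, Finset.prod_const_one, mul_one]
    have hcardF : (Finset.univ.filter (fun q : Quotient (orbitRel (Subgroup.zpowers u) (G ⧸ H)) => q.out ∈ F)).card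
        = Nat.card F := by
      have e : {q : Quotient (orbitRel (Subgroup.zpowers u) (G ⧸ H)) // q.out ∈ F} ≃ F :=
        { toFun := fun q => ⟨q.1.out, q.2⟩
          invFun := fun x => ⟨Quotient.mk'' x.1, by
            have h0 : (Quotient.mk'' x.1 : Quotient (orbitRel (Subgroup.zpowers u) (G ⧸ H))).out = x.1 := by
              have h1 := Quotient.mk_out (s := orbitRel (Subgroup.zpowers u) (G ⧸ H)) x.1
              obtain ⟨⟨w, hw⟩, hw2⟩ := h1
              have h3 : w • x.1 = (Quotient.mk'' x.1 : Quotient (orbitRel (Subgroup.zpowers u) (G ⧸ H))).out := hw2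
              rw [← h3]
              have hfx := hFfix x.1 x.2
              have : w ∈ MulAction.stabilizer G x.1 := by
                have hle : Subgroup.zpowers u ≤ MulAction.stabilizer G x.1 := by
                  rw [Subgroup.zpowers_le]; exact hfx
                exact hle hw
              exact this
            rw [h0]; exact x.2⟩
          left_inv := fun q => Subtype.ext (by
            show Quotient.mk'' q.1.out = q.1
            exact Quotient.out_eq' q.1)
          right_inv := fun x => Subtype.ext (by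
            show (Quotient.mk'' x.1 : Quotient (orbitRel (Subgroup.zpowers u) (G ⧸ H))).out = x.1
            have h1 := Quotient.mk_out (s := orbitRel (Subgroup.zpowers u) (G ⧸ H)) x.1
            obtain ⟨⟨w, hw⟩, hw2⟩ := h1
            have h3 : w • x.1 = (Quotient.mk'' x.1 : Quotient (orbitRel (Subgroup.zpowers u) (G ⧸ H))).out := hw2
            rw [← h3]
            have hfx := hFfix x.1 x.2
            have hle : Subgroup.zpowers u ≤ MulAction.stabilizer G x.1 := by
              rw [Subgroup.zpowers_le]; exact hfx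
            exact hle hw) }
      rw [← Nat.card_congr e, Nat.card_eq_fintype_card, Fintype.card_subtype]
    rw [hcardF]
    obtain ⟨j, hj⟩ := hFe
    rw [hj, ← two_mul, pow_mul, hss, one_pow, mul_one]
  have hV1 : V u = s := by
    rw [hV]
    obtain ⟨k, hk⟩ := hodd
    rw [hk, pow_add, pow_mul, hss, one_pow, one_mul, pow_one]
  refine ⟨V.ker, inferInstance, ?_, ?_⟩
  · rw [Subgroup.index_ker]
    have h1 : Nat.card V.range ∣ 2 := by
      rw [← hA]; exact Subgroup.card_subgroup_dvd_card V.range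
    rcases (Nat.dvd_prime Nat.prime_two).1 h1 with h2 | h2
    · exfalso
      have h3 : V.range = ⊥ := Subgroup.card_eq_one.1 h2
      have h4 : V u ∈ V.range := ⟨u, rfl⟩
      rw [h3, Subgroup.mem_bot, hV1] at h4
      exact hs1 h4
    · exact h2
  · rw [MonoidHom.mem_ker, hV1]
    exact hs1

end H29.TTx
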