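import Cfsg.Agent.Lib.H29.C4E
import Cfsg.Agent.Lib.H29.C4A
import Cfsg.Agent.Lib.H29.TTx

set_option autoImplicit false
set_option linter.all false

namespace H29.C4B

open Subgroup

theorem conj_into {X : Type*} [Group X] [Finite X] (K : Subgroup X) (Q : Sylow 2 K)
    {w : X} (hw : w ∈ K) {n : ℕ} (hw2 : w ^ 2 ^ n = 1) :
    ∃ k ∈ K, k⁻¹ * w * k ∈ (Q : Subgroup K).map K.subtype := by
  haveI : Fact (Nat.Prime 2) := ⟨Nat.prime_two⟩
  have h1 : IsPGroup 2 (zpowers (⟨w, hw⟩ : K)) := by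
    have h2 : orderOf (⟨w, hw⟩ : K) ∣ 2 ^ n := by
      rw [Subgroup.orderOf_mk]; exact orderOf_dvd_of_pow_eq_one hw2
    obtain ⟨m, -, hm⟩ := (Nat.dvd_prime_pow Nat.prime_two).1 h2
    exact IsPGroup.of_card (n := m) (by rw [Nat.card_zpowers, hm])
  obtain ⟨R, hR⟩ := h1.exists_le_sylow
  obtain ⟨k, hk⟩ := MulAction.exists_smul_eq K R Q
  refine ⟨(k⁻¹ : K), (k⁻¹).2, ?_⟩
  have h3 : (⟨w, hw⟩ : K) ∈ (R : Subgroup K) := hR (mem_zpowers _)
  have h4 : k * (⟨w, hw⟩ : K) * k⁻¹ ∈ (Q : Subgroup K) := by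
    rw [← hk]
    exact ⟨⟨w, hw⟩, h3, rfl⟩
  exact ⟨_, h4, by simp⟩

variable {X : Type*} [Group X] [Finite X] {A P S : Subgroup X} {t c y g : X}

/-- the final contradiction in the semidihedral case -/
theorem sd (H : H4 A P S t c y g) (hAn : A.Normal) (hAidx : ∀ a b : X, a ∉ A → b ∉ A → a * b ∈ A)
    (hPS : ∀ p ∈ P, p ∈ A → p ∈ S) (Q : Sylow 2 X) (hQP : (Q : Subgroup X) = P)
    (hPn : ∀ p ∈ P, ∀ x ∈ zpowers y, p * x * p⁻¹ ∈ zpowers y)
    (hcon : ∀ x : X, ∀ U : Subgroup X, U ≤ A → IsPGroup 2 U →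
      (∀ u ∈ U, u * (x⁻¹ * t * x) = (x⁻¹ * t * x) * u) → Nat.card U ≤ 4)
    (hyy : y * y ≠ 1) (hcy : c⁻¹ * y * c = y⁻¹) {r : X} (hr : r ∈ S) (hrM : r ∉ H.MM c H.hcS)
    (hry : r * y = y * r) {l : ℤ} (hl : Odd l) (hrl : r * r = y ^ l) {b' : X} (hb' : b' ∈ zpowers y)
    (hrt : t * r * t = r * b') (hcr : c⁻¹ * r * c = r⁻¹ * (c * c)) {x : X} (hxA : x ∈ A)
    (he : x⁻¹ * c * x ∈ zpowers y) : False := by
  haveI : Fact (Nat.Prime 2) := ⟨Nat.prime_two⟩
  have hcb : ∀ b ∈ zpowers y, c⁻¹ * b * c = b⁻¹ := fun b hb => H.inv_all hcy hb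
  have hrb : ∀ b ∈ zpowers y, r * b = b * r := fun b hb => H.cen_all hry hb
  have hti := H.hti
  have hzz := H.hc2
  have hzinv : (c * c)⁻¹ = c * c := inv_eq_of_mul_eq_one_left hzz
  set e := x⁻¹ * c * x with he0
  have hee : e * e = c * c := by
    have h1 : e * e = x⁻¹ * (c * c) * x := by rw [he0]; group
    have h2 : (e * e) * (e * e) = 1 := by
      rw [h1]
      calc x⁻¹ * (c * c) * x * (x⁻¹ * (c * c) * x) = x⁻¹ * ((c * c) * (c * c)) * x := by group
        _ = 1 := by rw [hzz]; group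
    refine (H.uniq (mul_mem he he) h2).resolve_left ?_
    rw [h1]
    intro h3
    apply H.hc1
    calc c * c = x * (x⁻¹ * (c * c) * x) * x⁻¹ := by group
      _ = 1 := by rw [h3]; group
  have hene : e⁻¹ ≠ e := by
    intro h
    apply H.hc1
    rw [← hee]
    nth_rewrite 1 [← h]
    exact inv_mul_cancel e
  set K := centralizer ({e} : Set X) with hK
  have memK : ∀ {a : X}, a ∈ K ↔ a * e = e * a := by
    intro a
    rw [hK, mem_centralizer_singleton_iff]
  -- w0
  have htc : t * c = c * t := by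
    have := H.hct
    calc t * c = (t * c * t) * t := by simp only [mul_assoc, H.ht, mul_one]
      _ = _ := by rw [this]
  have htci : t * c⁻¹ = c⁻¹ * t := (Commute.inv_right (show Commute t c from htc))
  have hw0b : ∀ b ∈ zpowers y, (t * c⁻¹) * b = b * (t * c⁻¹) := by
    intro b hb
    have h1 : c⁻¹ * b = b⁻¹ * c⁻¹ := by rw [← hcb b hb]; group
    have h2 : t * b⁻¹ = b * t := by
      have := H.yt (inv_mem hb)
      rw [inv_inv] at this
      calc t * b⁻¹ = (t * b⁻¹ * t) * t := by simp only [mul_assoc, H.ht, mul_one]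
        _ = b * t := by rw [this]
    calc (t * c⁻¹) * b = t * (c⁻¹ * b) := by group
      _ = (t * b⁻¹) * c⁻¹ := by rw [h1]; group
      _ = _ := by rw [h2]; group
  have hw02 : (t * c⁻¹) * (t * c⁻¹) = c * c := by
    calc (t * c⁻¹) * (t * c⁻¹) = t * (c⁻¹ * t) * c⁻¹ := by group
      _ = t * (t * c⁻¹) * c⁻¹ := by rw [← htci]
      _ = (t * t) * (c * c)⁻¹ := by group
      _ = _ := by rw [H.ht, one_mul, hzinv]
  -- facts on r
  have hb'2 : b' * b' = ((r * r) * (r * r))⁻¹ := by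
    have h1 : t * (r * r) * t = (r * b') * (r * b') := by rw [H.tmul, hrt]
    rw [H.yt (H.hsq r hr)] at h1
    have h2 : (r * b') * (r * b') = (r * r) * (b' * b') := by
      calc (r * b') * (r * b') = r * (b' * r) * b' := by group
        _ = r * (r * b') * b' := by rw [hrb b' hb']
        _ = _ := by group
    rw [h2] at h1
    calc b' * b' = (r * r)⁻¹ * ((r * r) * (b' * b')) := by group
      _ = (r * r)⁻¹ * (r * r)⁻¹ := by rw [← h1]
      _ = _ := by group
  -- cover
  have hcov : ∀ s ∈ S, s ∈ zpowers y ∨ c⁻¹ * s ∈ zpowers y ∨ r⁻¹ * s ∈ zpowers y ∨ c⁻¹ * (r⁻¹ * s) ∈ zpowers y := by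
    intro s hs
    rcases H.cover H.hcS hr H.cY hrM hs with (h3 | h3) | (h3 | h3)
    · exact Or.inl h3
    · exact Or.inr (Or.inl h3)
    · exact Or.inr (Or.inr (Or.inl h3))
    · exact Or.inr (Or.inr (Or.inr h3))
  -- the involution t0
  have ht0K : x⁻¹ * t * x ∈ K := by
    rw [memK, he0]
    calc x⁻¹ * t * x * (x⁻¹ * c * x) = x⁻¹ * (t * c) * x := by group
      _ = x⁻¹ * (c * t) * x := by rw [htc]
      _ = _ := by group
  have hT2 : IsPGroup 2 ((P ⊓ K : Subgroup X).subgroupOf K) := by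
    have h1 : IsPGroup 2 (P : Subgroup X) := hQP ▸ Q.isPGroup'
    exact (h1.to_le inf_le_left).comap_subtype
  obtain ⟨R, hR⟩ := hT2.exists_le_sylow
  set R' := (R : Subgroup K).map K.subtype with hR'
  have hTR : P ⊓ K ≤ R' := by
    intro a ha
    exact ⟨⟨a, ha.2⟩, hR (mem_subgroupOf.2 ha), rfl⟩
  have hR'K : R' ≤ K := by
    rintro a ⟨b, hb, rfl⟩; exact b.2
  by_cases hRP : R' ≤ P
  · -- t0 is conjugate into P ⊓ K
    obtain ⟨k, hkK, hk⟩ := conj_into K R ht0K (n := 1) (by
      rw [pow_one, pow_two]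
      calc x⁻¹ * t * x * (x⁻¹ * t * x) = x⁻¹ * (t * t) * x := by group
        _ = 1 := by rw [H.ht]; group)
    set t2 := k⁻¹ * (x⁻¹ * t * x) * k with ht2
    have ht2P : t2 ∈ P := hRP hk
    have ht2K : t2 ∈ K := hR'K hk
    have ht2c : t2 = (x * k)⁻¹ * t * (x * k) := by rw [ht2]; group
    have ht22 : t2 * t2 = 1 := by
      rw [ht2c]
      calc (x * k)⁻¹ * t * (x * k) * ((x * k)⁻¹ * t * (x * k)) = (x * k)⁻¹ * (t * t) * (x * k) := by group
        _ = 1 := by rw [H.ht]; group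
    have ht2A : t2 ∉ A := by
      intro h
      apply H.htA
      have h1 := hAn.conj_mem _ h (x * k)
      have h2 : (x * k) * t2 * (x * k)⁻¹ = t := by rw [ht2c]; group
      rwa [h2] at h1
    have hw0A : (t * c⁻¹)⁻¹ ∉ A := by
      intro h
      apply H.htA
      have h1 := mul_mem (inv_mem h) (H.hSA H.hcS)
      have h2 : (t * c⁻¹)⁻¹⁻¹ * c = t := by group
      rwa [h2] at h1
    have hsA : t2 * (t * c⁻¹)⁻¹ ∈ A := hAidx _ _ ht2A hw0A
    have hcP : c ∈ P := H.hSP H.hcS
    have hsS : t2 * (t * c⁻¹)⁻¹ ∈ S := hPS _ (mul_mem ht2P (inv_mem (mul_mem H.htP (inv_mem hcP)))) hsA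
    set s := t2 * (t * c⁻¹)⁻¹ with hs0
    have ht2s : t2 = s * (t * c⁻¹) := by rw [hs0]; group
    have hse : s * e = e * s := by
      have h1 := memK.1 ht2K
      have h2 := hw0b e he
      have h3 : (t * c⁻¹)⁻¹ * e = e * (t * c⁻¹)⁻¹ :=
        (Commute.inv_left (show Commute (t * c⁻¹) e from h2))
      calc s * e = t2 * ((t * c⁻¹)⁻¹ * e) := by rw [hs0]; group
        _ = (t2 * e) * (t * c⁻¹)⁻¹ := by rw [h3]; group
        _ = _ := by rw [h1, hs0]; group
    -- b = s is in Y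
    have hsY : s ∈ zpowers y ∧ s * s = c * c := by
      have hcinv : ∀ m, m ∈ S → m * e = e * m → c⁻¹ * m ∈ zpowers y → False := by
        intro m hm hme hcm
        apply hene
        have h1 : m = c * (c⁻¹ * m) := by group
        have h2 : m⁻¹ * e * m = e := by
          calc m⁻¹ * e * m = m⁻¹ * (e * m) := by group
            _ = m⁻¹ * (m * e) := by rw [hme]
            _ = e := by group
        have h3 : m⁻¹ * e * m = e⁻¹ := by
          rw [h1]
          calc (c * (c⁻¹ * m))⁻¹ * e * (c * (c⁻¹ * m)) = (c⁻¹ * m)⁻¹ * (c⁻¹ * e * c) * (c⁻¹ * m) := by group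
            _ = (c⁻¹ * m)⁻¹ * (e⁻¹ * (c⁻¹ * m)) := by rw [hcb e he]; group
            _ = (c⁻¹ * m)⁻¹ * ((c⁻¹ * m) * e⁻¹) := by rw [H.ycomm (inv_mem he) hcm]
            _ = e⁻¹ := by group
        rw [← h3, h2]
      rcases hcov s hsS with h3 | h3 | h3 | h3
      · refine ⟨h3, ?_⟩
        have h4 : t2 * t2 = (s * s) * (c * c) := by
          rw [ht2s]
          calc s * (t * c⁻¹) * (s * (t * c⁻¹)) = s * ((t * c⁻¹) * s) * (t * c⁻¹) := by group
            _ = s * (s * (t * c⁻¹)) * (t * c⁻¹) := by rw [hw0b s h3]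
            _ = (s * s) * ((t * c⁻¹) * (t * c⁻¹)) := by group
            _ = _ := by rw [hw02]
        rw [ht22] at h4
        calc s * s = (s * s) * (c * c) * (c * c)⁻¹ := by group
          _ = _ := by rw [← h4, one_mul, hzinv]
      · exact (hcinv s hsS hse h3).elim
      · exfalso
        obtain ⟨b, hb, hsb⟩ : ∃ b ∈ zpowers y, s = r * b := ⟨_, h3, by group⟩
        -- w0 r = r⁻¹ ... 
        have e1 : (t * c⁻¹) * r * (t * c⁻¹)⁻¹ = b'⁻¹ * r⁻¹ * (c * c) := by
          have e2 : (t * c⁻¹)⁻¹ = c * t := by rw [mul_inv_rev, inv_inv, hti]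
          rw [e2]
          calc (t * c⁻¹) * r * (c * t) = t * (c⁻¹ * r * c) * t := by group
            _ = t * (r⁻¹ * (c * c)) * t := by rw [hcr]
            _ = (t * r * t)⁻¹ * (c * c) := by rw [H.tmul, H.tinv, H.tmul, H.hct]
            _ = _ := by rw [hrt]; group
        have e3 : t2 * t2 = (b * b) * b'⁻¹ := by
          rw [ht2s, hsb]
          calc r * b * (t * c⁻¹) * (r * b * (t * c⁻¹))
              = r * b * ((t * c⁻¹) * r * (t * c⁻¹)⁻¹) * ((t * c⁻¹) * b) * (t * c⁻¹) := by group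
            _ = r * b * (b'⁻¹ * r⁻¹ * (c * c)) * (b * (t * c⁻¹)) * (t * c⁻¹) := by rw [e1, hw0b b hb]
            _ = r * (b * b'⁻¹) * r⁻¹ * ((c * c) * b) * ((t * c⁻¹) * (t * c⁻¹)) := by group
            _ = (b * b'⁻¹) * r * r⁻¹ * (b * (c * c)) * (c * c) := by
              rw [hrb _ (mul_mem hb (inv_mem hb')), hw02, H.ycomm H.hz hb]
            _ = b * (b'⁻¹ * b) * ((c * c) * (c * c)) := by group
            _ = _ := by rw [hzz, mul_one, H.ycomm (inv_mem hb') hb, mul_assoc]
        rw [ht22] at e3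
        have e4 : b' = b * b := by
          calc b' = 1 * b' := by group
            _ = (b * b) * b'⁻¹ * b' := by rw [e3]
            _ = _ := by group
        rw [e4, hrl] at hb'2
        obtain ⟨j, rfl⟩ := hb
        have hb'3 : y ^ j * y ^ j * (y ^ j * y ^ j) = (y ^ l * y ^ l)⁻¹ := hb'2
        have e5 : (y * y) ^ (2 * j + l) = 1 := by
          have : (y * y) ^ (2 * j + l) = y ^ j * y ^ j * (y ^ j * y ^ j) * (y ^ l * y ^ l) := by
            rw [← zpow_two, ← zpow_mul]
            simp only [← zpow_add]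
            congr 1; ring
          rw [this, hb'3, inv_mul_cancel]
        exact hyy (H.oddp (mul_mem H.hyS H.hyS) (Even.add_odd ⟨j, two_mul j⟩ hl) e5)
      · exfalso
        refine hcinv (r⁻¹ * s) (mul_mem (inv_mem hr) hsS) ?_ h3
        have h4 : r⁻¹ * e = e * r⁻¹ := (Commute.inv_left (show Commute r e from hrb e he))
        calc r⁻¹ * s * e = r⁻¹ * (s * e) := by group
          _ = (r⁻¹ * e) * s := by rw [hse]; group
          _ = _ := by rw [h4]; group
    obtain ⟨hsY, hss⟩ := hsY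
    -- the big 2-group
    let U : Subgroup X := S ⊓ centralizer ({t2} : Set X)
    have hU : ∀ u ∈ U, u * ((x * k)⁻¹ * t * (x * k)) = ((x * k)⁻¹ * t * (x * k)) * u := by
      intro u hu
      rw [← ht2c]
      exact mem_centralizer_singleton_iff.1 hu.2
    have hU4 := hcon (x * k) U (inf_le_left.trans H.hSA) (H.hS2.to_le inf_le_left) hU
    have hYU : zpowers y ≤ U := by
      rw [zpowers_le]
      refine ⟨H.hyS, ?_⟩
      show y ∈ centralizer ({t2} : Set X)
      rw [mem_centralizer_singleton_iff, ht2s]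
      calc y * (s * (t * c⁻¹)) = (y * s) * (t * c⁻¹) := by group
        _ = s * (y * (t * c⁻¹)) := by rw [H.ycomm (mem_zpowers y) hsY]; group
        _ = s * ((t * c⁻¹) * y) := by rw [hw0b y (mem_zpowers y)]
        _ = _ := by group
    have hrY : r ∉ zpowers y := fun h3 => hrM (Or.inl h3)
    have hrcY : r * c ∉ zpowers y := by
      intro h3
      apply hrM
      have h4 := mul_mem (show r * c ∈ H.MM c H.hcS from Or.inl h3) (inv_mem (H.h_mem H.hcS))
      rwa [mul_inv_cancel_right] at h4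
    -- w1
    have hcri : c * r * c⁻¹ = r⁻¹ * (c * c) := by
      have h1 : r = c * (r⁻¹ * (c * c)) * c⁻¹ := by rw [← hcr]; group
      have h2 : c * r⁻¹ * c⁻¹ = r * (c * c) := by
        calc c * r⁻¹ * c⁻¹ = (c * (r⁻¹ * (c * c)) * c⁻¹) * (c * c)⁻¹ := by group
          _ = r * (c * c)⁻¹ := by rw [← h1]
          _ = _ := by rw [hzinv]
      calc c * r * c⁻¹ = (c * r⁻¹ * c⁻¹)⁻¹ := by group
        _ = (r * (c * c))⁻¹ := by rw [h2]
        _ = (c * c)⁻¹ * r⁻¹ := by group
        _ = (c * c) * r⁻¹ := by rw [hzinv]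
        _ = _ := by rw [H.z_comm (inv_mem hr)]
    have hw1 : (t * c⁻¹)⁻¹ * r * (t * c⁻¹) = r * ((r * r)⁻¹ * b'⁻¹ * (c * c)) := by
      have e2 : (t * c⁻¹)⁻¹ = c * t := by rw [mul_inv_rev, inv_inv, hti]
      have hcb'' : c * b' * c⁻¹ = b'⁻¹ := by
        have h5 := hcb _ (inv_mem hb')
        rw [inv_inv] at h5
        calc c * b' * c⁻¹ = c * (c⁻¹ * b'⁻¹ * c) * c⁻¹ := by rw [h5]
          _ = b'⁻¹ := by group
      rw [e2]
      calc c * t * r * (t * c⁻¹) = c * (t * r * t) * c⁻¹ := by group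
        _ = (c * r * c⁻¹) * (c * b' * c⁻¹) := by rw [hrt]; group
        _ = r⁻¹ * ((c * c) * b'⁻¹) := by rw [hcri, hcb'']; group
        _ = r⁻¹ * (b'⁻¹ * (c * c)) := by rw [H.ycomm H.hz (inv_mem hb')]
        _ = _ := by group
    have hw1Y : (r * r)⁻¹ * b'⁻¹ * (c * c) ∈ zpowers y :=
      mul_mem (mul_mem (inv_mem (H.hsq r hr)) (inv_mem hb')) H.hz
    have hw12 : ((r * r)⁻¹ * b'⁻¹ * (c * c)) * ((r * r)⁻¹ * b'⁻¹ * (c * c)) = 1 := by
      have hrrY := H.hsq r hr
      have h1 : ((r * r)⁻¹ * b'⁻¹ * (c * c)) * ((r * r)⁻¹ * b'⁻¹ * (c * c))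
          = ((r * r)⁻¹ * b'⁻¹) * (((c * c) * ((r * r)⁻¹ * b'⁻¹)) * (c * c)) := by group
      rw [h1, H.ycomm H.hz (mul_mem (inv_mem hrrY) (inv_mem hb'))]
      calc ((r * r)⁻¹ * b'⁻¹) * (((r * r)⁻¹ * b'⁻¹) * (c * c) * (c * c))
          = (r * r)⁻¹ * (b'⁻¹ * (r * r)⁻¹) * b'⁻¹ * ((c * c) * (c * c)) := by group
        _ = (r * r)⁻¹ * ((r * r)⁻¹ * b'⁻¹) * b'⁻¹ := by
          rw [hzz, mul_one, H.ycomm (inv_mem hb') (inv_mem hrrY)]
        _ = ((r * r) * (r * r))⁻¹ * (b' * b')⁻¹ := by group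
        _ = 1 := by rw [hb'2, inv_inv, inv_mul_cancel]
    have hct2 : c⁻¹ * t2 * c = t2 * (c * c) := by
      have h1 : s⁻¹ = s * (c * c) := by
        have : s * (s * (c * c)) = 1 := by rw [← mul_assoc, hss, hzz]
        exact inv_eq_of_mul_eq_one_right this
      rw [ht2s]
      calc c⁻¹ * (s * (t * c⁻¹)) * c = (c⁻¹ * s * c) * (c⁻¹ * t * c⁻¹ * c) := by group
        _ = s⁻¹ * ((c⁻¹ * t)) := by rw [hcb s hsY]; group
        _ = s * ((c * c) * (t * c⁻¹)) := by rw [h1, ← htci]; group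
        _ = s * ((t * c⁻¹) * (c * c)) := by rw [hw0b _ H.hz]
        _ = _ := by group
    obtain ⟨h, hhU, hhY⟩ : ∃ h ∈ U, h ∉ zpowers y := by
      rcases H.uniq hw1Y hw12 with h1 | h1
      · refine ⟨r, ⟨hr, ?_⟩, hrY⟩
        rw [h1, mul_one] at hw1
        show r ∈ centralizer ({t2} : Set X)
        rw [mem_centralizer_singleton_iff, ht2s]
        have h2 : r * (t * c⁻¹) = (t * c⁻¹) * r := by
          calc r * (t * c⁻¹) = (t * c⁻¹) * ((t * c⁻¹)⁻¹ * r * (t * c⁻¹)) := by group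
            _ = _ := by rw [hw1]
        calc r * (s * (t * c⁻¹)) = (r * s) * (t * c⁻¹) := by group
          _ = s * (r * (t * c⁻¹)) := by rw [hrb s hsY]; group
          _ = s * ((t * c⁻¹) * r) := by rw [h2]
          _ = _ := by group
      · refine ⟨r * c, ⟨mul_mem hr H.hcS, ?_⟩, hrcY⟩
        rw [h1] at hw1
        show r * c ∈ centralizer ({t2} : Set X)
        rw [mem_centralizer_singleton_iff]
        have h2 : r * (t * c⁻¹) = (t * c⁻¹) * (r * (c * c)) := by
          calc r * (t * c⁻¹) = (t * c⁻¹) * ((t * c⁻¹)⁻¹ * r * (t * c⁻¹)) := by group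
            _ = _ := by rw [hw1]
        have h3 : r * t2 = t2 * (r * (c * c)) := by
          rw [ht2s]
          calc r * (s * (t * c⁻¹)) = (r * s) * (t * c⁻¹) := by group
            _ = s * (r * (t * c⁻¹)) := by rw [hrb s hsY]; group
            _ = s * ((t * c⁻¹) * (r * (c * c))) := by rw [h2]
            _ = _ := by group
        have h4 : c * t2 = t2 * (c * c) * c := by
          have h5 : t2 = c * (t2 * (c * c)) * c⁻¹ := by rw [← hct2]; group
          have h6 : c * t2 = c * (c * t2 * (c * c)) * c⁻¹ := by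
            calc c * t2 = c * (c * (t2 * (c * c)) * c⁻¹) := by rw [← h5]
              _ = _ := by group
          have h7 : (c * c) * t2 = t2 * (c * c) := by
            rw [ht2s]
            calc (c * c) * (s * (t * c⁻¹)) = ((c * c) * s) * (t * c⁻¹) := by group
              _ = s * ((c * c) * (t * c⁻¹)) := by rw [H.ycomm H.hz hsY]; group
              _ = s * ((t * c⁻¹) * (c * c)) := by rw [hw0b _ H.hz]
              _ = _ := by group
          calc c * t2 = c * t2 * 1 := by group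
            _ = c * t2 * ((c * c) * (c * c)) := by rw [hzz]
            _ = c⁻¹ * ((c * c) * t2) * (c * c) * (c * c) := by group
            _ = c⁻¹ * (t2 * (c * c)) * (c * c) * (c * c) := by rw [h7]
            _ = (c⁻¹ * t2 * c) * c * ((c * c) * (c * c)) := by group
            _ = _ := by rw [hct2, hzz, mul_one]
        calc r * c * t2 = r * (c * t2) := by group
          _ = r * t2 * (c * c) * c := by rw [h4]; group
          _ = t2 * r * ((c * c) * (c * c)) * c := by rw [h3]; group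
          _ = _ := by rw [hzz]; group
    have hc1 : Nat.card (zpowers y) * (zpowers y).relIndex U = Nat.card U := by
      rw [← Subgroup.relIndex_bot_left, Subgroup.relIndex_mul_relIndex _ _ _ bot_le hYU,
        Subgroup.relIndex_bot_left]
    have hc2 : (zpowers y).relIndex U ≠ 1 := by
      intro h1
      exact hhY (Subgroup.relIndex_eq_one.1 h1 hhU)
    have hc3 : (zpowers y).relIndex U ≠ 0 := by
      intro h1
      rw [h1, mul_zero] at hc1
      have : 0 < Nat.card U := Nat.card_pos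
      omega
    have hc4 : 3 ≤ Nat.card (zpowers y) := by
      rw [Nat.card_zpowers]
      by_contra hlt
      push Not at hlt
      have hpos := orderOf_pos y
      have hcases : orderOf y = 1 ∨ orderOf y = 2 := by omega
      rcases hcases with h1 | h1
      · exact H.y1 (orderOf_eq_one_iff.1 h1)
      · apply hyy
        rw [← pow_two, ← h1, pow_orderOf_eq_one]
    have hc5 : 3 * 2 ≤ Nat.card U := by
      rw [← hc1]; exact Nat.mul_le_mul hc4 (by omega)
    omega
  · -- R' is a Sylow subgroup of X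
    have hR'2 : IsPGroup 2 R' := R.isPGroup'.map _
    obtain ⟨Q2, hQ2⟩ := hR'2.exists_le_sylow
    obtain ⟨q, hq⟩ := MulAction.exists_smul_eq X Q2 Q
    have htwo : ∀ p ∈ P, p * e * p⁻¹ = e ∨ p * e * p⁻¹ = e⁻¹ := by
      intro p hp
      have h1 := hPn p hp e he
      have h2 : (p * e * p⁻¹) * (p * e * p⁻¹) = c * c := by
        have h3 := hPn p hp _ H.hz
        have h4 : (p * e * p⁻¹) * (p * e * p⁻¹) = p * (c * c) * p⁻¹ := by rw [← hee]; group
        rw [h4]
        refine (H.uniq h3 ?_).resolve_left ?_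
        · calc p * (c * c) * p⁻¹ * (p * (c * c) * p⁻¹) = p * ((c * c) * (c * c)) * p⁻¹ := by group
            _ = 1 := by rw [hzz]; group
        · intro h5; apply H.hc1
          calc c * c = p⁻¹ * (p * (c * c) * p⁻¹) * p := by group
            _ = 1 := by rw [h5]; group
      have h3 : ((p * e * p⁻¹) * e⁻¹) * ((p * e * p⁻¹) * e⁻¹) = 1 := by
        calc ((p * e * p⁻¹) * e⁻¹) * ((p * e * p⁻¹) * e⁻¹)
            = (p * e * p⁻¹) * (e⁻¹ * (p * e * p⁻¹)) * e⁻¹ := by group
          _ = (p * e * p⁻¹) * ((p * e * p⁻¹) * e⁻¹) * e⁻¹ := by rw [H.ycomm (inv_mem he) h1]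
          _ = ((p * e * p⁻¹) * (p * e * p⁻¹)) * (e * e)⁻¹ := by group
          _ = 1 := by rw [h2, hee, mul_inv_cancel]
      rcases H.uniq (mul_mem h1 (inv_mem he)) h3 with h4 | h4
      · left
        calc p * e * p⁻¹ = (p * e * p⁻¹ * e⁻¹) * e := by group
          _ = e := by rw [h4, one_mul]
      · right
        calc p * e * p⁻¹ = (p * e * p⁻¹ * e⁻¹) * e := by group
          _ = (e * e) * e := by rw [h4, hee]
          _ = (e * e) * (e * e) * e⁻¹ := by group
          _ = e⁻¹ := by rw [hee, hzz, one_mul]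
    have htinv : t * e * t⁻¹ = e⁻¹ := by rw [hti]; exact H.yt he
    have hidx : ((P ⊓ K).subgroupOf P).index = 2 := by
      rw [Subgroup.index_eq_two_iff]
      refine ⟨⟨t, H.htP⟩, ?_⟩
      rintro ⟨p, hp⟩
      have memT : ∀ a (ha : a ∈ P), (⟨a, ha⟩ : P) ∈ (P ⊓ K).subgroupOf P ↔ a * e * a⁻¹ = e := by
        intro a ha
        rw [mem_subgroupOf]
        show (a ∈ P ∧ a ∈ K) ↔ _
        rw [memK]
        constructor
        · rintro ⟨-, h⟩; rw [h]; group
        · intro h
          refine ⟨ha, ?_⟩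
          calc a * e = (a * e * a⁻¹) * a := by group
            _ = e * a := by rw [h]
      have h1 := memT p hp
      have h2 := memT (p * t) (mul_mem hp H.htP)
      have h3 : (p * t) * e * (p * t)⁻¹ = (p * e * p⁻¹)⁻¹ := by
        calc (p * t) * e * (p * t)⁻¹ = p * (t * e * t⁻¹) * p⁻¹ := by group
          _ = _ := by rw [htinv]; group
      rw [h3] at h2
      rcases htwo p hp with h4 | h4
      · refine Or.inr ⟨h1.2 h4, fun h5 => hene ?_⟩
        have := h2.1 h5
        rwa [h4] at this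
      · refine Or.inl ⟨h2.2 (by rw [h4, inv_inv]), fun h5 => hene ?_⟩
        have := h1.1 h5
        rwa [h4] at this
    have hcT : Nat.card (P ⊓ K : Subgroup X) * 2 = Nat.card P := by
      have h1 := ((P ⊓ K).subgroupOf P).card_mul_index
      rw [hidx] at h1
      rw [← h1]
      congr 1
      exact (Nat.card_congr (Subgroup.subgroupOfEquivOfLe inf_le_left).toEquiv).symm
    have hcR : Nat.card (P ⊓ K : Subgroup X) * (P ⊓ K).relIndex R' = Nat.card R' := by
      rw [← Subgroup.relIndex_bot_left, Subgroup.relIndex_mul_relIndex _ _ _ bot_le hTR,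
        Subgroup.relIndex_bot_left]
    have hr1 : (P ⊓ K).relIndex R' ≠ 1 := by
      intro h1
      exact hRP ((Subgroup.relIndex_eq_one.1 h1).trans inf_le_left)
    have hr0 : (P ⊓ K).relIndex R' ≠ 0 := by
      intro h1
      rw [h1, mul_zero] at hcR
      have : 0 < Nat.card R' := Nat.card_pos
      omega
    have hcRP : Nat.card P ≤ Nat.card R' := by
      rw [← hcT, ← hcR]; exact Nat.mul_le_mul_left _ (by omega)
    have hQ2c : Nat.card (Q2 : Subgroup X) = Nat.card P := by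
      have : Nat.card (Q2 : Subgroup X) = Nat.card (Q : Subgroup X) := by
        rw [Q2.card_eq_multiplicity, Q.card_eq_multiplicity]
      rw [this, hQP]
    have hR'Q2 : R' = (Q2 : Subgroup X) := Subgroup.eq_of_le_of_card_ge hQ2 (by rw [hQ2c]; exact hcRP)
    -- conj of e commutes with P
    have hconjP : ∀ p ∈ P, ∃ ρ ∈ R', p = q * ρ * q⁻¹ := by
      intro p hp
      have h1 : p ∈ (Q : Subgroup X) := hQP ▸ hp
      rw [← hq] at h1
      obtain ⟨ρ, hρ, hρp⟩ := h1
      exact ⟨ρ, hR'Q2 ▸ hρ, hρp.symm⟩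
    have heR : e ∈ R' := hTR ⟨H.hSP (H.yS he), memK.2 rfl⟩
    have he'P : q * e * q⁻¹ ∈ P := by
      rw [← hQP, ← hq]
      exact ⟨e, hR'Q2 ▸ heR, rfl⟩
    have he'A : q * e * q⁻¹ ∈ A := hAn.conj_mem _ (H.hSA (H.yS he)) q
    have he'S := hPS _ he'P he'A
    have hcomm : ∀ p ∈ P, p * (q * e * q⁻¹) = (q * e * q⁻¹) * p := by
      intro p hp
      obtain ⟨ρ, hρ, rfl⟩ := hconjP p hp
      have h1 := memK.1 (hR'K hρ)
      calc q * ρ * q⁻¹ * (q * e * q⁻¹) = q * (ρ * e) * q⁻¹ := by group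
        _ = q * (e * ρ) * q⁻¹ := by rw [h1]
        _ = _ := by group
    have h1 : t * (q * e * q⁻¹) * t = q * e * q⁻¹ := by
      rw [hcomm t H.htP, mul_assoc, H.ht, mul_one]
    have hcyc : ∀ w, w * y = y * w → w = c ∨ w = c⁻¹ → False := by
      intro w hw hwc
      have hcomm1 : c * y = y * c := by
        rcases hwc with rfl | rfl
        · exact hw
        · have : Commute c⁻¹ y := hw
          exact (Commute.inv_left_iff.1 this)
      have h5 : c⁻¹ * y * c = y := by
        rw [mul_assoc, ← hcomm1]; group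
      rw [hcy] at h5
      apply hyy
      nth_rewrite 1 [← h5]
      exact inv_mul_cancel y
    have hyP := hcomm y (H.hSP H.hyS)
    have hee1 : e * e ≠ 1 := by rw [hee]; exact H.hc1
    rcases H.hcen _ he'S h1 with h2 | h2 | h2 | h2
    · apply hee1
      have : e = 1 := by
        calc e = q⁻¹ * (q * e * q⁻¹) * q := by group
          _ = 1 := by rw [h2]; group
      rw [this, one_mul]
    · exact hcyc _ hyP.symm (Or.inl h2)
    · apply hee1
      calc e * e = q⁻¹ * ((q * e * q⁻¹) * (q * e * q⁻¹)) * q := by group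
        _ = 1 := by rw [h2, hzz]; group
    · exact hcyc _ hyP.symm (Or.inr h2)

end H29.C4B
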