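import Mathlib
import Cfsg.Agent.Lib.H4.CA0

/-! S4369, piece L2: `G ⧸ center G` is not `A₇`. -/

set_option autoImplicit false

namespace H29.CaL2

open Subgroup H4.CA

universe u

section Lift

variable {G : Type u} [Group G] [Finite G]

/-- a 2-element of the central quotient lifts to a 2-element. -/
theorem lift_two (x : G ⧸ center G) (hx : x * x = 1) :
    ∃ g : G, (QuotientGroup.mk g : G ⧸ center G) = x ∧ ∃ k : ℕ, g ^ 2 ^ k = 1 := by
  obtain ⟨g, rfl⟩ := QuotientGroup.mk_surjective x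
  obtain ⟨k, m, hm, hk⟩ := Nat.exists_eq_two_pow_mul_odd (n := orderOf g) (orderOf_pos g).ne'
  refine ⟨g ^ m, ?_, k, ?_⟩
  · obtain ⟨j, hj⟩ := hm
    rw [hj]
    have : ((g ^ (2 * j + 1) : G) : G ⧸ center G) = ((g : G ⧸ center G) * g) ^ j * g := by
      rw [QuotientGroup.mk_pow, pow_succ, pow_mul, pow_two]
    rw [this, hx, one_pow, one_mul]
  · rw [← pow_mul, mul_comm, ← hk, pow_orderOf_eq_one]

/-- an element of order 3 of the central quotient lifts to an element of odd order. -/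
theorem lift_three (x : G ⧸ center G) (hx : x * x * x = 1) :
    ∃ g : G, (QuotientGroup.mk g : G ⧸ center G) = x ∧ Odd (orderOf g) := by
  obtain ⟨g, rfl⟩ := QuotientGroup.mk_surjective x
  obtain ⟨k, m, hm, hk⟩ := Nat.exists_eq_two_pow_mul_odd (n := orderOf g) (orderOf_pos g).ne'
  -- `g ^ (2 ^ (2 * k))` is `≡ g` modulo the center
  refine ⟨g ^ (2 ^ (2 * k)), ?_, ?_⟩
  · have h4 : ∀ n : ℕ, ((g ^ (2 ^ (2 * n)) : G) : G ⧸ center G) = g := by
      intro n
      induction n with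
      | zero => simp
      | succ n ih =>
        have : (2 : ℕ) ^ (2 * (n + 1)) = 2 ^ (2 * n) * 4 := by ring
        rw [this, pow_mul, QuotientGroup.mk_pow, ih]
        calc (g : G ⧸ center G) ^ 4 = ((g : G ⧸ center G) * g * g) * g := by
              rw [show (4 : ℕ) = 1 + 1 + 1 + 1 from rfl, pow_succ, pow_succ, pow_succ, pow_one]
          _ = g := by rw [hx, one_mul]
    exact h4 k
  · have hm' : (g ^ (2 ^ (2 * k))) ^ m = 1 := by
      rw [← pow_mul, show 2 ^ (2 * k) * m = (2 ^ k * m) * 2 ^ k by rw [two_mul, pow_add]; ring, ← hk,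
        pow_mul, pow_orderOf_eq_one, one_pow]
    exact Odd.of_dvd_nat hm (orderOf_dvd_of_pow_eq_one hm')

end Lift

variable {G : Type u} [Group G]

theorem conj_mul_z {t x z : G} (hz : z ∈ center G) (h : t * x * t⁻¹ = x * z) (n : ℕ) :
    t ^ n * x * (t ^ n)⁻¹ = x * z ^ n := by
  rw [mem_center_iff] at hz
  induction n with
  | zero => simp
  | succ n ih =>
    have e : t ^ (n + 1) * x * (t ^ (n + 1))⁻¹ = t * (t ^ n * x * (t ^ n)⁻¹) * t⁻¹ := by
      rw [pow_succ']; group
    have hzn : t * z ^ n = z ^ n * t := by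
      have : Commute t z := hz t
      exact this.pow_right n
    rw [e, ih]
    calc t * (x * z ^ n) * t⁻¹ = t * x * (z ^ n * t⁻¹) := by group
      _ = t * x * (t⁻¹ * z ^ n) := by
          have : Commute t⁻¹ (z ^ n) := (show Commute t (z ^ n) from hzn).inv_left
          rw [this.eq]
      _ = (t * x * t⁻¹) * z ^ n := by group
      _ = x * z ^ (n + 1) := by rw [h, mul_assoc, ← pow_succ']

theorem conj_mul_z' {t x z : G} (hz : z ∈ center G) (h : t * x * t⁻¹ = x * z) (n : ℕ) :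
    t * x ^ n * t⁻¹ = x ^ n * z ^ n := by
  have hc : Commute x z := (mem_center_iff.mp hz x)
  rw [← hc.mul_pow, ← h, conj_pow]

theorem exists_z {t x : G} (h : Commute (t : G ⧸ center G) x) :
    ∃ z ∈ center G, t * x * t⁻¹ = x * z := by
  refine ⟨x⁻¹ * (t * x * t⁻¹), ?_, by group⟩
  rw [← QuotientGroup.eq_one_iff]
  have e : ((x⁻¹ * (t * x * t⁻¹) : G) : G ⧸ center G) = (x : G ⧸ center G)⁻¹ * ((t : G ⧸ center G) * x * (t : G ⧸ center G)⁻¹) := rfl
  rw [e, h.eq]; group

/-- coprime commutation modulo the center. -/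
theorem comm_of_coprime {t x : G} (h : Commute (t : G ⧸ center G) x) (ht : ∃ k : ℕ, t ^ 2 ^ k = 1)
    (hx : Odd (orderOf x)) : Commute t x := by
  obtain ⟨z, hz, hzx⟩ := exists_z h
  obtain ⟨k, hk⟩ := ht
  have h1 : z ^ 2 ^ k = 1 := by
    have := conj_mul_z hz hzx (2 ^ k)
    rw [hk] at this
    simpa using this.symm
  have h2 : z ^ orderOf x = 1 := by
    have := conj_mul_z' hz hzx (orderOf x)
    rw [pow_orderOf_eq_one] at this
    simpa using this.symm
  have h3 : z = 1 := by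
    have hco : Nat.Coprime (2 ^ k) (orderOf x) := Nat.Coprime.pow_left _ (Nat.coprime_two_left.mpr hx)
    have := Nat.dvd_gcd (orderOf_dvd_of_pow_eq_one h1) (orderOf_dvd_of_pow_eq_one h2)
    rw [hco] at this
    exact orderOf_eq_one_iff.mp (Nat.dvd_one.mp this)
  rw [h3, mul_one, mul_inv_eq_iff_eq_mul] at hzx
  exact hzx

theorem zpow_isPGroup {t : G} (ht : ∃ k : ℕ, t ^ 2 ^ k = 1) : IsPGroup 2 (zpowers t) := by
  obtain ⟨k, hk⟩ := ht
  rintro ⟨x, hx⟩
  obtain ⟨n, rfl⟩ := mem_zpowers_iff.mp hx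
  refine ⟨k, Subtype.ext ?_⟩
  change (t ^ n) ^ 2 ^ k = 1
  rw [← zpow_natCast, ← zpow_mul, mul_comm, zpow_mul, zpow_natCast, hk, one_zpow]

/-- two 2-elements commuting modulo the center generate a 2-group. -/
theorem two_group {t x : G} (h : Commute (t : G ⧸ center G) x) (ht : ∃ k : ℕ, t ^ 2 ^ k = 1)
    (hx : ∃ k : ℕ, x ^ 2 ^ k = 1) : ∃ P : Subgroup G, IsPGroup 2 P ∧ t ∈ P ∧ x ∈ P ∧
      ∀ u : G, Commute u t → Commute u x → ∀ p ∈ P, Commute u p := by
  obtain ⟨z, hz, hzx⟩ := exists_z h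
  have hz2 : ∃ k : ℕ, z ^ 2 ^ k = 1 := by
    obtain ⟨k, hk⟩ := ht
    refine ⟨k, ?_⟩
    have := conj_mul_z hz hzx (2 ^ k)
    rw [hk] at this
    simpa using this.symm
  have hZ : IsPGroup 2 (zpowers z) := zpow_isPGroup hz2
  have hzn : ∀ H : Subgroup G, H ≤ normalizer ((zpowers z : Subgroup G) : Set G) := by
    intro H g _
    rw [mem_normalizer_iff]
    intro y
    have key : ∀ g y : G, y ∈ zpowers z → g * y * g⁻¹ ∈ zpowers z := by
      intro g y hy
      obtain ⟨n, rfl⟩ := mem_zpowers_iff.mp hy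
      have : Commute g (z ^ n) := (show Commute g z from mem_center_iff.mp hz g).zpow_right n
      rw [this.eq, mul_inv_cancel_right]
      exact zpow_mem (mem_zpowers z) n
    constructor
    · exact key g y
    · intro hy
      have := key g⁻¹ _ hy
      have e : g⁻¹ * (g * y * g⁻¹) * g⁻¹⁻¹ = y := by group
      rwa [e] at this
  have hA : IsPGroup 2 (zpowers x ⊔ zpowers z : Subgroup G) :=
    (zpow_isPGroup hx).to_sup_of_normal_right' hZ (hzn _)
  have hmem : ∀ n : ℤ, t * x ^ n * t⁻¹ = x ^ n * z ^ n := by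
    intro n
    have hc : Commute x z := (mem_center_iff.mp hz x)
    rw [← hc.mul_zpow, ← hzx, conj_zpow]
  have hN : zpowers t ≤ normalizer ((zpowers x ⊔ zpowers z : Subgroup G) : Set G) := by
    rw [zpowers_le]
    have hfwd : (zpowers x ⊔ zpowers z).map (MulAut.conj t).toMonoidHom ≤ zpowers x ⊔ zpowers z := by
      rw [Subgroup.map_sup, sup_le_iff]
      constructor
      · rintro _ ⟨y, hy, rfl⟩
        obtain ⟨n, rfl⟩ := mem_zpowers_iff.mp hy
        change t * x ^ n * t⁻¹ ∈ _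
        rw [hmem]
        exact mul_mem (mem_sup_left (zpow_mem (mem_zpowers x) n)) (mem_sup_right (zpow_mem (mem_zpowers z) n))
      · rintro _ ⟨y, hy, rfl⟩
        obtain ⟨n, rfl⟩ := mem_zpowers_iff.mp hy
        change t * z ^ n * t⁻¹ ∈ _
        have : Commute t (z ^ n) := (show Commute t z from mem_center_iff.mp hz t).zpow_right n
        rw [this.eq, mul_inv_cancel_right]
        exact mem_sup_right (zpow_mem (mem_zpowers z) n)
    have hfwd' : ∀ y ∈ zpowers x ⊔ zpowers z, t * y * t⁻¹ ∈ zpowers x ⊔ zpowers z :=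
      fun y hy => hfwd ⟨y, hy, rfl⟩
    have hx2 : t⁻¹ * x * t = x * z⁻¹ := by
      have hcz : Commute t z := mem_center_iff.mp hz t
      have e1 : t⁻¹ * (x * z) * t = x := by rw [← hzx]; group
      have hcz' : Commute t⁻¹ z := hcz.inv_left
      have e2 : t⁻¹ * (x * z) * t = t⁻¹ * x * t * z := by
        rw [mul_assoc, mul_assoc x z t, ← hcz.eq]; group
      rw [e2] at e1
      rw [eq_mul_inv_iff_mul_eq]; exact e1
    have hbwd : (zpowers x ⊔ zpowers z).map (MulAut.conj t⁻¹).toMonoidHom ≤ zpowers x ⊔ zpowers z := by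
      rw [Subgroup.map_sup, sup_le_iff]
      constructor
      · rintro _ ⟨y, hy, rfl⟩
        obtain ⟨n, rfl⟩ := mem_zpowers_iff.mp hy
        change t⁻¹ * x ^ n * t⁻¹⁻¹ ∈ _
        have hc : Commute x z⁻¹ := ((show Commute x z from mem_center_iff.mp hz x)).inv_right
        rw [← conj_zpow, inv_inv, hx2, hc.mul_zpow]
        exact mul_mem (mem_sup_left (zpow_mem (mem_zpowers x) n))
          (mem_sup_right (zpow_mem (inv_mem (mem_zpowers z)) n))
      · rintro _ ⟨y, hy, rfl⟩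
        obtain ⟨n, rfl⟩ := mem_zpowers_iff.mp hy
        change t⁻¹ * z ^ n * t⁻¹⁻¹ ∈ _
        have : Commute t⁻¹ (z ^ n) := (show Commute t⁻¹ z from (mem_center_iff.mp hz t⁻¹)).zpow_right n
        rw [this.eq, mul_inv_cancel_right]
        exact mem_sup_right (zpow_mem (mem_zpowers z) n)
    rw [mem_normalizer_iff]
    intro y
    constructor
    · exact hfwd' y
    · intro hy
      have := hbwd ⟨_, hy, rfl⟩
      have e : t⁻¹ * (t * y * t⁻¹) * t⁻¹⁻¹ = y := by group
      rwa [show (MulAut.conj t⁻¹).toMonoidHom (t * y * t⁻¹) = t⁻¹ * (t * y * t⁻¹) * t⁻¹⁻¹ from rfl, e] at this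
  refine ⟨zpowers t ⊔ (zpowers x ⊔ zpowers z), (zpow_isPGroup ht).to_sup_of_normal_right' hA hN,
    mem_sup_left (mem_zpowers t), mem_sup_right (mem_sup_left (mem_zpowers x)), ?_⟩
  intro u hut hux p hp
  have hle : zpowers t ⊔ (zpowers x ⊔ zpowers z) ≤ centralizer ({u} : Set G) := by
    rw [sup_le_iff, sup_le_iff, zpowers_le, zpowers_le, zpowers_le]
    refine ⟨?_, ?_, ?_⟩ <;> rw [mem_centralizer_singleton_iff]
    · exact hut.eq.symm
    · exact hux.eq.symm
    · exact (mem_center_iff.mp hz u).symm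
  have := hle hp
  rw [mem_centralizer_singleton_iff] at this
  exact this.symm


section A7

/-- the elements of `A₇` that are used. -/
def s1 : Equiv.Perm (Fin 7) := Equiv.swap 0 1 * Equiv.swap 2 3
def s2 : Equiv.Perm (Fin 7) := Equiv.swap 0 2 * Equiv.swap 1 3
def s3 : Equiv.Perm (Fin 7) := Equiv.swap 4 5 * Equiv.swap 5 6
def s4 : Equiv.Perm (Fin 7) := Equiv.swap 0 1 * Equiv.swap 4 5

theorem s1_mem : s1 ∈ alternatingGroup (Fin 7) := by
  rw [Equiv.Perm.mem_alternatingGroup, s1, map_mul, Equiv.Perm.sign_swap (by decide),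
    Equiv.Perm.sign_swap (by decide)]; decide
theorem s2_mem : s2 ∈ alternatingGroup (Fin 7) := by
  rw [Equiv.Perm.mem_alternatingGroup, s2, map_mul, Equiv.Perm.sign_swap (by decide),
    Equiv.Perm.sign_swap (by decide)]; decide
theorem s3_mem : s3 ∈ alternatingGroup (Fin 7) := by
  rw [Equiv.Perm.mem_alternatingGroup, s3, map_mul, Equiv.Perm.sign_swap (by decide),
    Equiv.Perm.sign_swap (by decide)]; decide
theorem s4_mem : s4 ∈ alternatingGroup (Fin 7) := by
  rw [Equiv.Perm.mem_alternatingGroup, s4, map_mul, Equiv.Perm.sign_swap (by decide),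
    Equiv.Perm.sign_swap (by decide)]; decide

theorem exists_A7 : ∃ a b c d : alternatingGroup (Fin 7), a * a = 1 ∧ b * b = 1 ∧ c * c * c = 1 ∧ d * d = 1 ∧
    a ≠ 1 ∧ c ≠ 1 ∧ a * b = b * a ∧ a * c = c * a ∧ b * c = c * b ∧ d * a = a * d ∧ d * b ≠ b * d := by
  refine ⟨⟨s1, s1_mem⟩, ⟨s2, s2_mem⟩, ⟨s3, s3_mem⟩, ⟨s4, s4_mem⟩, ?_, ?_, ?_, ?_, ?_, ?_, ?_, ?_, ?_, ?_, ?_⟩
  · exact Subtype.ext (show s1 * s1 = 1 by decide)
  · exact Subtype.ext (show s2 * s2 = 1 by decide)
  · exact Subtype.ext (show s3 * s3 * s3 = 1 by decide)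
  · exact Subtype.ext (show s4 * s4 = 1 by decide)
  · intro h; exact absurd (congrArg Subtype.val h : s1 = 1) (by decide)
  · intro h; exact absurd (congrArg Subtype.val h : s3 = 1) (by decide)
  · exact Subtype.ext (show s1 * s2 = s2 * s1 by decide)
  · exact Subtype.ext (show s1 * s3 = s3 * s1 by decide)
  · exact Subtype.ext (show s2 * s3 = s3 * s2 by decide)
  · exact Subtype.ext (show s4 * s1 = s1 * s4 by decide)
  · intro h; exact absurd (congrArg Subtype.val h : s4 * s2 = s2 * s4) (by decide)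

end A7

/-- **Piece L2.** -/
theorem kill_A7 [Finite G] (h : Beta2 G) (e : G ⧸ center G ≃* alternatingGroup (Fin 7)) : False := by
  obtain ⟨a, b, c, d, haa, hbb, hccc, hdd, ha1, hc1, hab, hac, hbc, hda, hdb⟩ := exists_A7
  have tr : ∀ {x y : alternatingGroup (Fin 7)}, x * y = y * x → Commute (e.symm x) (e.symm y) := by
    intro x y hxy
    change e.symm x * e.symm y = e.symm y * e.symm x
    rw [← map_mul, ← map_mul, hxy]
  obtain ⟨t1, ht1, ht1'⟩ := lift_two (e.symm a) (by rw [← map_mul, haa, map_one])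
  obtain ⟨t2, ht2, ht2'⟩ := lift_two (e.symm b) (by rw [← map_mul, hbb, map_one])
  obtain ⟨u, hu, hu'⟩ := lift_three (e.symm c) (by rw [← map_mul, ← map_mul, hccc, map_one])
  obtain ⟨y, hy, hy'⟩ := lift_two (e.symm d) (by rw [← map_mul, hdd, map_one])
  have c12 : Commute (t1 : G ⧸ center G) t2 := by rw [ht1, ht2]; exact tr hab
  have cut1 : Commute u t1 := (comm_of_coprime (by rw [ht1, hu]; exact tr hac) ht1' hu').symm
  have cut2 : Commute u t2 := (comm_of_coprime (by rw [ht2, hu]; exact tr hbc) ht2' hu').symm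
  have huZ : u ∉ center G := by
    intro h0
    rw [← QuotientGroup.eq_one_iff, hu] at h0
    exact hc1 (by rw [← e.apply_symm_apply c, h0, map_one])
  have ht1Z : t1 ∉ center G := by
    intro h0
    rw [← QuotientGroup.eq_one_iff, ht1] at h0
    exact ha1 (by rw [← e.apply_symm_apply a, h0, map_one])
  -- `t1`, `t2` commute
  have hc : Commute t1 t2 := by
    obtain ⟨P, hP, h1, h2, hPu⟩ := two_group c12 ht1' ht2'
    exact h.b1 u huZ hu' P hP (hPu u cut1 cut2) t1 h1 t2 h2
  -- centralizers of 2-elements are abelian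
  have hab0 : ∀ s : G, s ∉ center G → (∃ k : ℕ, s ^ 2 ^ k = 1) → ∀ p q : G, Commute s p → Commute s q →
      Commute p q := by
    intro s hs hs2 p q hp hq
    by_contra hpq
    exact h.b0 s hs2 ⟨hs, p, q, hp, hq, hpq⟩
  have hyy : y * y ∈ center G := by
    rw [← QuotientGroup.eq_one_iff]
    change (y : G ⧸ center G) * y = 1
    rw [hy, ← map_mul, hdd, map_one]
  -- the conjugate of `t2`
  have ht2y : Commute t1 (y * t2 * y⁻¹) := by
    obtain ⟨z, hz, hzx⟩ := exists_z (t := y) (x := t1) (by rw [hy, ht1]; exact tr hda)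
    -- y t1 y⁻¹ = t1 z
    have h1 : Commute (y * t1 * y⁻¹) (y * t2 * y⁻¹) := by
      change y * t1 * y⁻¹ * (y * t2 * y⁻¹) = y * t2 * y⁻¹ * (y * t1 * y⁻¹)
      calc y * t1 * y⁻¹ * (y * t2 * y⁻¹) = y * (t1 * t2) * y⁻¹ := by group
        _ = y * (t2 * t1) * y⁻¹ := by rw [hc.eq]
        _ = _ := by group
    rw [hzx] at h1
    have h2 : Commute z⁻¹ (y * t2 * y⁻¹) :=
      (Commute.inv_left (show Commute z (y * t2 * y⁻¹) from (mem_center_iff.mp hz _).symm))
    have h3 := h1.mul_left h2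
    simpa using h3
  have hcc : Commute t2 (y * t2 * y⁻¹) := hab0 t1 ht1Z ht1' _ _ hc ht2y
  set w := t2 * (y * t2 * y⁻¹) with hw
  have hyw : Commute w y := by
    have h1 : y * w * y⁻¹ = w := by
      calc y * w * y⁻¹ = (y * t2 * y⁻¹) * ((y * y) * t2 * (y * y)⁻¹) := by rw [hw]; group
        _ = (y * t2 * y⁻¹) * t2 := by
            rw [(mem_center_iff.mp hyy t2).symm, mul_inv_cancel_right]
        _ = w := by rw [hw, hcc.eq]
    rw [mul_inv_eq_iff_eq_mul] at h1
    exact h1.symm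
  have hw2 : ∃ k : ℕ, w ^ 2 ^ k = 1 := by
    obtain ⟨k, hk⟩ := ht2'
    refine ⟨k, ?_⟩
    rw [hw, hcc.mul_pow, hk, conj_pow, hk]; group
  have hwt : Commute w t2 := (Commute.refl t2).mul_left hcc.symm
  have hnc : ¬ Commute y t2 := by
    intro h0
    apply hdb
    have h1 : Commute (y : G ⧸ center G) t2 := by
      change (y : G ⧸ center G) * t2 = t2 * y
      exact congrArg (QuotientGroup.mk : G → G ⧸ center G) h0.eq
    rw [hy, ht2] at h1
    have h2 := congrArg e h1.eq
    rwa [map_mul, map_mul, e.apply_symm_apply, e.apply_symm_apply] at h2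
  have hwZ : w ∈ center G := by
    by_contra h0
    exact hnc (hab0 w h0 hw2 y t2 hyw hwt)
  apply hdb
  rw [← QuotientGroup.eq_one_iff] at hwZ
  have h1 : (t2 : G ⧸ center G) * ((y : G ⧸ center G) * t2 * (y : G ⧸ center G)⁻¹) = 1 := hwZ
  rw [hy, ht2] at h1
  have h2 := congrArg e h1
  simp only [map_mul, map_inv, map_one, e.apply_symm_apply] at h2
  have h3 : d * b * d⁻¹ = b := by
    have : b * (b * (d * b * d⁻¹)) = b * 1 := by rw [h2]
    rw [← mul_assoc, hbb, one_mul, mul_one] at this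
    exact this
  rw [mul_inv_eq_iff_eq_mul] at h3
  exact h3

end H29.CaL2
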