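import Mathlib

/-! S3930, piece A: the affine group `F_q^2 : SL(2,q)` is a nonsolvable `q^2`-pyramidal group. -/

set_option autoImplicit false

namespace H29.PyrA

open Matrix

variable {F : Type} [Field F]

/-- the natural action of `SL(2,F)` on the (multiplicative) plane. -/
noncomputable def act : Matrix.SpecialLinearGroup (Fin 2) F →* MulAut (Multiplicative (Fin 2 → F)) where
  toFun A := AddEquiv.toMultiplicative
    { toFun := fun v => (A : Matrix (Fin 2) (Fin 2) F) *ᵥ v
      invFun := fun v => ((A⁻¹ : Matrix.SpecialLinearGroup (Fin 2) F) : Matrix (Fin 2) (Fin 2) F) *ᵥ v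
      left_inv := fun v => by
        change ((A⁻¹ : Matrix.SpecialLinearGroup (Fin 2) F) : Matrix (Fin 2) (Fin 2) F) *ᵥ
          ((A : Matrix (Fin 2) (Fin 2) F) *ᵥ v) = v
        rw [Matrix.mulVec_mulVec, ← Matrix.SpecialLinearGroup.coe_mul, inv_mul_cancel,
          Matrix.SpecialLinearGroup.coe_one, Matrix.one_mulVec]
      right_inv := fun v => by
        change (A : Matrix (Fin 2) (Fin 2) F) *ᵥ
          (((A⁻¹ : Matrix.SpecialLinearGroup (Fin 2) F) : Matrix (Fin 2) (Fin 2) F) *ᵥ v) = v
        rw [Matrix.mulVec_mulVec, ← Matrix.SpecialLinearGroup.coe_mul, mul_inv_cancel,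
          Matrix.SpecialLinearGroup.coe_one, Matrix.one_mulVec]
      map_add' := fun v w => Matrix.mulVec_add _ v w }
  map_one' := by
    ext v : 1
    exact congrArg Multiplicative.ofAdd (Matrix.one_mulVec _)
  map_mul' A B := by
    ext v : 1
    refine congrArg Multiplicative.ofAdd ?_
    change ((A * B : Matrix.SpecialLinearGroup (Fin 2) F) : Matrix (Fin 2) (Fin 2) F) *ᵥ _ =
      (A : Matrix (Fin 2) (Fin 2) F) *ᵥ ((B : Matrix (Fin 2) (Fin 2) F) *ᵥ _)
    rw [Matrix.mulVec_mulVec, ← Matrix.SpecialLinearGroup.coe_mul]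

theorem act_apply (A : Matrix.SpecialLinearGroup (Fin 2) F) (v : Fin 2 → F) :
    act A (Multiplicative.ofAdd v) = Multiplicative.ofAdd ((A : Matrix (Fin 2) (Fin 2) F) *ᵥ v) := rfl

theorem act_neg (v : Multiplicative (Fin 2 → F)) :
    act (-1 : Matrix.SpecialLinearGroup (Fin 2) F) v = v⁻¹ := by
  apply Multiplicative.toAdd.injective
  change ((-1 : Matrix.SpecialLinearGroup (Fin 2) F) : Matrix (Fin 2) (Fin 2) F) *ᵥ
    (Multiplicative.toAdd v) = - Multiplicative.toAdd v
  rw [Matrix.SpecialLinearGroup.coe_neg, Matrix.SpecialLinearGroup.coe_one, Matrix.neg_mulVec,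
    Matrix.one_mulVec]

/-- the affine group. -/
abbrev Aff (F : Type) [Field F] : Type :=
  Multiplicative (Fin 2 → F) ⋊[act] Matrix.SpecialLinearGroup (Fin 2) F

theorem sq_one (h2 : (2 : F) ≠ 0) (A : Matrix.SpecialLinearGroup (Fin 2) F) (h : A * A = 1) :
    A = 1 ∨ A = -1 := by
  have hdet := A.det_coe
  rw [Matrix.det_fin_two] at hdet
  have e := congrArg (fun B : Matrix.SpecialLinearGroup (Fin 2) F => (B : Matrix (Fin 2) (Fin 2) F)) h
  simp only [Matrix.SpecialLinearGroup.coe_mul, Matrix.SpecialLinearGroup.coe_one] at e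
  have e00 := congrFun (congrFun e 0) 0
  have e01 := congrFun (congrFun e 0) 1
  have e10 := congrFun (congrFun e 1) 0
  have e11 := congrFun (congrFun e 1) 1
  simp only [Matrix.mul_apply, Fin.sum_univ_two, Matrix.one_apply_eq,
    Matrix.one_apply_ne (by decide : (0 : Fin 2) ≠ 1), Matrix.one_apply_ne (by decide : (1 : Fin 2) ≠ 0)] at e00 e01 e10 e11
  set a := (A : Matrix (Fin 2) (Fin 2) F) 0 0 with ha
  set b := (A : Matrix (Fin 2) (Fin 2) F) 0 1 with hb
  set c := (A : Matrix (Fin 2) (Fin 2) F) 1 0 with hc
  set d := (A : Matrix (Fin 2) (Fin 2) F) 1 1 with hd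
  have had : (a + d) * (a + d) = 4 := by linear_combination e00 + e11 + 2 * hdet
  have h4 : (4 : F) ≠ 0 := by
    have : (4 : F) = 2 * 2 := by norm_num
    rw [this]; exact mul_ne_zero h2 h2
  have hs : a + d ≠ 0 := by
    intro h0
    rw [h0, zero_mul] at had
    exact h4 had.symm
  have hb0 : b = 0 := by
    have : b * (a + d) = 0 := by linear_combination e01
    rcases mul_eq_zero.mp this with h | h
    · exact h
    · exact absurd h hs
  have hc0 : c = 0 := by
    have : c * (a + d) = 0 := by linear_combination e10
    rcases mul_eq_zero.mp this with h | h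
    · exact h
    · exact absurd h hs
  have ha1 : a = d := by
    have h1 : (a - d) * (a + d) = 0 := by linear_combination e00 - e11
    rcases mul_eq_zero.mp h1 with h | h
    · exact sub_eq_zero.mp h
    · exact absurd h hs
  have ha2 : (a - 1) * (a + 1) = 0 := by
    rw [hb0, hc0] at e00
    linear_combination e00
  rcases mul_eq_zero.mp ha2 with h1 | h1
  · left
    have h1' : a = 1 := sub_eq_zero.mp h1
    ext i j
    fin_cases i <;> fin_cases j
    · simpa using h1'
    · simpa using hb0
    · simpa using hc0
    · simpa using (ha1.symm.trans h1' : d = 1)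
  · right
    have h1' : a = -1 := eq_neg_of_add_eq_zero_left h1
    ext i j
    fin_cases i <;> fin_cases j
    · simpa using h1'
    · simpa using hb0
    · simpa using hc0
    · simpa using (ha1.symm.trans h1' : d = -1)

theorem neg_one_ne (h2 : (2 : F) ≠ 0) : (-1 : Matrix.SpecialLinearGroup (Fin 2) F) ≠ 1 := by
  intro h
  have e := congrArg (fun B : Matrix.SpecialLinearGroup (Fin 2) F => (B : Matrix (Fin 2) (Fin 2) F)) h
  have e00 := congrFun (congrFun e 0) 0
  simp at e00
  apply h2
  linear_combination -e00

theorem ord_iff (h2 : (2 : F) ≠ 0) (x : Aff F) :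
    orderOf x = 2 ↔ x.right = -1 := by
  constructor
  · intro h
    have hx : x * x = 1 := by
      have h0 := pow_orderOf_eq_one x
      rwa [h, pow_two] at h0
    have hne : x ≠ 1 := by
      intro h0; rw [h0, orderOf_one] at h; exact absurd h (by norm_num)
    have hr : x.right * x.right = 1 := by
      rw [← SemidirectProduct.mul_right, hx, SemidirectProduct.one_right]
    rcases sq_one h2 _ hr with h1 | h1
    · exfalso
      apply hne
      have hl : x.left * act x.right x.left = 1 := by
        rw [← SemidirectProduct.mul_left, hx, SemidirectProduct.one_left]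
      rw [h1, map_one, MulAut.one_apply] at hl
      have hl' : Multiplicative.toAdd x.left + Multiplicative.toAdd x.left = 0 := hl
      have hl0 : x.left = 1 := by
        apply Multiplicative.toAdd.injective
        funext i
        have := congrFun hl' i
        simp only [Pi.add_apply, Pi.zero_apply] at this
        have h3 : (2 : F) * (Multiplicative.toAdd x.left) i = 0 := by linear_combination this
        exact (mul_eq_zero.mp h3).resolve_left h2
      exact SemidirectProduct.ext hl0 h1
    · exact h1
  · intro h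
    have hneg := act_neg (F := F)
    refine orderOf_eq_prime ?_ ?_
    · rw [pow_two]
      refine SemidirectProduct.ext ?_ ?_
      · rw [SemidirectProduct.mul_left, h, hneg, mul_inv_cancel, SemidirectProduct.one_left]
      · rw [SemidirectProduct.mul_right, h, SemidirectProduct.one_right, neg_mul_neg, one_mul]
    · intro h0
      rw [h0, SemidirectProduct.one_right] at h
      exact neg_one_ne h2 h.symm

theorem conj (h2 : (2 : F) ≠ 0) (x y : Aff F) (hx : orderOf x = 2) (hy : orderOf y = 2) :
    ∃ g : Aff F, g * x * g⁻¹ = y := by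
  rw [ord_iff h2] at hx hy
  have hneg := act_neg (F := F)
  let w : Fin 2 → F := (2 : F)⁻¹ • (Multiplicative.toAdd y.left - Multiplicative.toAdd x.left)
  refine ⟨SemidirectProduct.inl (Multiplicative.ofAdd w), ?_⟩
  rw [mul_inv_eq_iff_eq_mul]
  refine SemidirectProduct.ext ?_ ?_
  · rw [SemidirectProduct.mul_left, SemidirectProduct.mul_left, SemidirectProduct.left_inl,
      SemidirectProduct.right_inl, map_one, MulAut.one_apply, hy, hneg]
    apply Multiplicative.toAdd.injective
    rw [toAdd_mul, toAdd_mul, toAdd_inv, toAdd_ofAdd]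
    funext i
    simp only [w, Pi.add_apply, Pi.neg_apply, Pi.smul_apply, Pi.sub_apply, smul_eq_mul]
    field_simp
    ring
  · rw [SemidirectProduct.mul_right, SemidirectProduct.mul_right, SemidirectProduct.right_inl, hx, hy,
      one_mul, mul_one]

theorem card_inv (h2 : (2 : F) ≠ 0) :
    Nat.card {x : Aff F // orderOf x = 2} = Nat.card F ^ 2 := by
  have e : {x : Aff F // orderOf x = 2} ≃ (Fin 2 → F) :=
    { toFun := fun x => Multiplicative.toAdd x.1.left
      invFun := fun v => ⟨⟨Multiplicative.ofAdd v, -1⟩, (ord_iff h2 _).mpr rfl⟩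
      left_inv := fun x => Subtype.ext (SemidirectProduct.ext rfl ((ord_iff h2 _).mp x.2).symm)
      right_inv := fun v => rfl }
  rw [Nat.card_congr e, Nat.card_fun, Nat.card_fin]

theorem ex (p j : ℕ) (hp : p.Prime) (hp2 : p ≠ 2) (hj : 1 ≤ j) (h : p ^ j ≠ 3) :
    ∃ (G : Type) (_ : Group G) (_ : Finite G), Nat.card {x : G // orderOf x = 2} = p ^ (2 * j) ∧
      (∀ x y : G, orderOf x = 2 → orderOf y = 2 → ∃ g : G, g * x * g⁻¹ = y) ∧
      ¬ Group.IsSolvable G := by
  haveI := Fact.mk hp
  haveI : Finite (GaloisField p j) := by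
    apply Nat.finite_of_card_ne_zero
    rw [GaloisField.card p j (by omega)]
    exact pow_ne_zero _ hp.ne_zero
  have hc : Nat.card (GaloisField p j) = p ^ j := GaloisField.card p j (by omega)
  have h2 : (2 : GaloisField p j) ≠ 0 := by
    intro h0
    have h3 : ((2 : ℕ) : GaloisField p j) = 0 := by exact_mod_cast h0
    rw [CharP.cast_eq_zero_iff (GaloisField p j) p] at h3
    exact hp2 ((Nat.prime_dvd_prime_iff_eq hp Nat.prime_two).mp h3)
  haveI : Finite (Aff (GaloisField p j)) := by
    haveI : Finite (Multiplicative (Fin 2 → GaloisField p j)) :=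
      inferInstanceAs (Finite (Fin 2 → GaloisField p j))
    exact Finite.of_equiv _ (SemidirectProduct.equivProd (φ := act (F := GaloisField p j))).symm
  refine ⟨Aff (GaloisField p j), inferInstance, this, ?_, conj h2, ?_⟩
  · rw [card_inv h2, hc, ← pow_mul, mul_comm]
  · intro hs
    have hper : commutator (Matrix.SpecialLinearGroup (Fin 2) (GaloisField p j)) = ⊤ := by
      classical
      haveI : Fintype (GaloisField p j) := Fintype.ofFinite _
      have h4 : 4 ≤ Fintype.card (GaloisField p j) := by
        rw [← Nat.card_eq_fintype_card, hc]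
        have h1 : p ≤ p ^ j := Nat.le_self_pow (by omega) p
        have h3 := hp.two_le
        omega
      have : ∃ a : GaloisField p j, a ∉ ({0, 1, -1} : Finset (GaloisField p j)) := by
        by_contra hcon
        push Not at hcon
        have h1 : (Finset.univ : Finset (GaloisField p j)) ⊆ {0, 1, -1} := fun a _ => hcon a
        have h2 := Finset.card_le_card h1
        rw [Finset.card_univ] at h2
        have h3 : ({0, 1, -1} : Finset (GaloisField p j)).card ≤ 3 := Finset.card_le_three
        omega
      obtain ⟨a, ha⟩ := this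
      simp only [Finset.mem_insert, Finset.mem_singleton, not_or] at ha
      refine Matrix.SL2.commutator_eq_top ha.1 (fun h => ?_)
      rcases (sq_eq_one_iff (a := a)).mp h with h | h
      · exact ha.2.1 h
      · exact ha.2.2 h
    haveI : Group.IsSolvable (Matrix.SpecialLinearGroup (Fin 2) (GaloisField p j)) :=
      Group.isSolvable_of_surjective (f := (SemidirectProduct.rightHom :
        Aff (GaloisField p j) →* Matrix.SpecialLinearGroup (Fin 2) (GaloisField p j)))
        SemidirectProduct.rightHom_surjective
    haveI : Nontrivial (Matrix.SpecialLinearGroup (Fin 2) (GaloisField p j)) :=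
      ⟨⟨-1, 1, neg_one_ne h2⟩⟩
    exact absurd hper (ne_of_lt (Group.IsSolvable.commutator_lt_top_of_nontrivial _))

end H29.PyrA
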