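import Mathlib
import Cfsg.Agent.Lib.H73.PyrDef

/-! S3930, piece B, part T: transvections. -/

set_option autoImplicit false

namespace H29.PyrT

open H73.Pyr

variable {G : Type*} [Group G] {E : Subgroup G}

/-- `s` acts on `E` as the transvection with centre `c` and axis `{1,c,f,cf}`. -/
structure Tv (E : Subgroup G) (s c f : G) : Prop where
  cE : c ∈ E
  fE : f ∈ E
  c1 : c ≠ 1
  f1 : f ≠ 1
  ne : c ≠ f
  sc : s * c * s⁻¹ = c
  sf : s * f * s⁻¹ = f
  sx : ∀ x ∈ E, x ≠ 1 → x ≠ c → x ≠ f → x ≠ c * f → s * x * s⁻¹ = x * c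

theorem comm (hE : Big E) {a b : G} (ha : a ∈ E) (hb : b ∈ E) : a * b = b * a := by
  have h1 := hE.sq a ha
  have h2 := hE.sq b hb
  have h3 := hE.sq (a * b) (E.mul_mem ha hb)
  have ha' : a⁻¹ = a := inv_eq_of_mul_eq_one_left h1
  have hb' : b⁻¹ = b := inv_eq_of_mul_eq_one_left h2
  calc a * b = (a * b)⁻¹ := (inv_eq_of_mul_eq_one_left h3).symm
    _ = b⁻¹ * a⁻¹ := by group
    _ = b * a := by rw [ha', hb']

theorem conjE (hE : Big E) (s : G) {x : G} (hx : x ∈ E) : s * x * s⁻¹ ∈ E :=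
  hE.nor.conj_mem x hx s

/-- conjugation of transvections. -/
theorem Tv.conj (hE : Big E) {s c f : G} (h : Tv E s c f) (g : G) :
    Tv E (g * s * g⁻¹) (g * c * g⁻¹) (g * f * g⁻¹) where
  cE := conjE hE g h.cE
  fE := conjE hE g h.fE
  c1 := fun h0 => h.c1 (by
    have : c = g⁻¹ * (g * c * g⁻¹) * g := by group
    rw [this, h0]; group)
  f1 := fun h0 => h.f1 (by
    have : f = g⁻¹ * (g * f * g⁻¹) * g := by group
    rw [this, h0]; group)
  ne := fun h0 => h.ne (by simpa using h0)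
  sc := by
    calc g * s * g⁻¹ * (g * c * g⁻¹) * (g * s * g⁻¹)⁻¹ = g * (s * c * s⁻¹) * g⁻¹ := by group
      _ = _ := by rw [h.sc]
  sf := by
    calc g * s * g⁻¹ * (g * f * g⁻¹) * (g * s * g⁻¹)⁻¹ = g * (s * f * s⁻¹) * g⁻¹ := by group
      _ = _ := by rw [h.sf]
  sx := by
    intro x hx h1 h2 h3 h4
    have hy : g⁻¹ * x * g ∈ E := by simpa using conjE hE g⁻¹ hx
    have key := h.sx (g⁻¹ * x * g) hy
      (fun h0 => h1 (by
        have : x = g * (g⁻¹ * x * g) * g⁻¹ := by group
        rw [this, h0]; group))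
      (fun h0 => h2 (by rw [← h0]; group)) (fun h0 => h3 (by rw [← h0]; group))
      (fun h0 => h4 (by
        have : x = g * (g⁻¹ * x * g) * g⁻¹ := by group
        rw [this, h0]; group))
    calc g * s * g⁻¹ * x * (g * s * g⁻¹)⁻¹ = g * (s * (g⁻¹ * x * g) * s⁻¹) * g⁻¹ := by group
      _ = g * (g⁻¹ * x * g * c) * g⁻¹ := by rw [key]
      _ = x * (g * c * g⁻¹) := by group

/-- an element outside `C(E)` with square in `C(E)` is a transvection (`|E| = 8`). -/
theorem tv_of_sq (hE : Big E) (h8 : Nat.card E = 8) {s : G} (hs : s ∉ Subgroup.centralizer (E : Set G))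
    (hs2 : s * s ∈ Subgroup.centralizer (E : Set G)) : ∃ c f, Tv E s c f := by
  classical
  have hfin : Finite E := Nat.finite_of_card_ne_zero (by rw [h8]; norm_num)
  have hinv : ∀ x ∈ E, x⁻¹ = x := fun x hx => inv_eq_of_mul_eq_one_left (hE.sq x hx)
  have hs2' : ∀ x ∈ E, s * (s * x * s⁻¹) * s⁻¹ = x := by
    intro x hx
    have := (Subgroup.mem_centralizer_iff.mp hs2) x hx
    calc s * (s * x * s⁻¹) * s⁻¹ = (s * s * x) * (s * s)⁻¹ := by group
      _ = x * (s * s) * (s * s)⁻¹ := by rw [← this]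
      _ = x := by group
  let ψ : E →* E :=
    { toFun := fun x => ⟨s * x * s⁻¹ * x, E.mul_mem (conjE hE s x.2) x.2⟩
      map_one' := by ext; simp
      map_mul' := by
        intro x y
        ext
        simp only [Subgroup.coe_mul]
        have h1 : (s * (y : G) * s⁻¹) * (x : G) = x * (s * y * s⁻¹) := comm hE (conjE hE s y.2) x.2
        calc s * ((x : G) * y) * s⁻¹ * (x * y) = (s * x * s⁻¹) * ((s * y * s⁻¹) * x) * y := by group
          _ = (s * x * s⁻¹) * (x * (s * y * s⁻¹)) * y := by rw [h1]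
          _ = _ := by group }
  have hψ : ∀ x : E, ((ψ x : E) : G) = s * x * s⁻¹ * x := fun x => rfl
  have hker : ∀ x : E, x ∈ ψ.ker ↔ s * x * s⁻¹ = x := by
    intro x
    rw [MonoidHom.mem_ker, Subtype.ext_iff, hψ, Subgroup.coe_one]
    rw [mul_eq_one_iff_eq_inv, hinv x x.2]
  have hle : ψ.range ≤ ψ.ker := by
    rintro _ ⟨x, rfl⟩
    rw [hker, hψ]
    calc s * (s * (x : G) * s⁻¹ * x) * s⁻¹ = (s * (s * x * s⁻¹) * s⁻¹) * (s * x * s⁻¹) := by group
      _ = x * (s * x * s⁻¹) := by rw [hs2' x x.2]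
      _ = (s * x * s⁻¹) * x := comm hE x.2 (conjE hE s x.2)
  have hcard : Nat.card ψ.range * Nat.card ψ.ker = 8 := by
    rw [← h8, Subgroup.card_eq_card_quotient_mul_card_subgroup ψ.ker,
      Nat.card_congr (QuotientGroup.quotientKerEquivRange ψ).toEquiv]
  have hdvd : Nat.card ψ.range ∣ Nat.card ψ.ker := Subgroup.card_dvd_of_le hle
  have hne1 : Nat.card ψ.range ≠ 1 := by
    intro h1
    apply hs
    rw [Subgroup.mem_centralizer_iff]
    intro x hx
    have h2 : ψ.range = ⊥ := Subgroup.card_eq_one.mp h1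
    have h3 : ψ ⟨x, hx⟩ ∈ ψ.range := ⟨_, rfl⟩
    rw [h2, Subgroup.mem_bot] at h3
    have h4 := (hker ⟨x, hx⟩).mp (MonoidHom.mem_ker.mpr h3)
    change s * x * s⁻¹ = x at h4
    rw [mul_inv_eq_iff_eq_mul] at h4
    exact h4.symm
  have hr2 : Nat.card ψ.range = 2 := by
    have hpos : 0 < Nat.card ψ.range := Nat.card_pos
    have hle8 : Nat.card ψ.range ≤ 8 := Nat.le_of_dvd (by norm_num) ⟨_, hcard.symm⟩
    obtain ⟨m, hm⟩ := hdvd
    rw [hm] at hcard
    generalize Nat.card ψ.range = r at *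
    have : r = 1 ∨ r = 2 ∨ 3 ≤ r := by omega
    rcases this with h | h | h
    · exact absurd h hne1
    · exact h
    · exfalso
      have h9 : 9 ≤ r * r := Nat.mul_le_mul h h
      rcases Nat.eq_zero_or_pos m with h0 | h0
      · subst h0; simp at hcard
      · have : r * r ≤ r * (r * m) := by
          apply Nat.mul_le_mul_left; exact Nat.le_mul_of_pos_right r h0
        omega
  have hk4 : Nat.card ψ.ker = 4 := by rw [hr2] at hcard; omega
  obtain ⟨c, hc, hcu⟩ : ∃ c : E, c ≠ 1 ∧ ∀ x ∈ ψ.range, x ≠ 1 → x = c := by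
    obtain ⟨a, ha⟩ := (Nat.card_eq_two_iff' (1 : ψ.range)).mp hr2
    refine ⟨a, fun h0 => ha.1 (Subtype.ext h0), fun x hx hx1 => ?_⟩
    exact congrArg Subtype.val (ha.2 ⟨x, hx⟩ (fun h0 => hx1 (congrArg Subtype.val h0)))
  have hcr : c ∈ ψ.range := by
    by_contra hcon
    apply hne1
    rw [Subgroup.card_eq_one, eq_bot_iff]
    intro x hx
    by_contra hx1
    rw [Subgroup.mem_bot] at hx1
    rw [hcu x hx hx1] at hx
    exact hcon hx
  have hck : c ∈ ψ.ker := hle hcr
  obtain ⟨f, hfk, hf1, hfc⟩ : ∃ f ∈ ψ.ker, f ≠ 1 ∧ f ≠ c := by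
    by_contra hcon
    push Not at hcon
    have h1 : ((ψ.ker : Set E)) ⊆ {1, c} := by
      intro x hx
      by_cases h1 : x = 1
      · left; exact h1
      · right; exact hcon x hx h1
    have h2 := Set.ncard_le_ncard h1 (Set.toFinite _)
    have h3 : ((ψ.ker : Set E)).ncard = 4 := by rw [← hk4]; rfl
    have h4 : ({1, c} : Set E).ncard ≤ 2 := by
      refine le_trans (Set.ncard_insert_le _ _) ?_
      rw [Set.ncard_singleton]
    omega
  have hcf : ∀ x ∈ ψ.ker, x = 1 ∨ x = c ∨ x = f ∨ x = c * f := by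
    have hsub : ({1, c, f, c * f} : Set E) ⊆ (ψ.ker : Set E) := by
      rintro x (rfl | rfl | rfl | rfl)
      · exact ψ.ker.one_mem
      · exact hck
      · exact hfk
      · exact ψ.ker.mul_mem hck hfk
    have h4 : ({1, c, f, c * f} : Set E).ncard = 4 := by
      have hff : f * f = 1 := Subtype.ext (hE.sq f f.2)
      rw [Set.ncard_insert_of_notMem, Set.ncard_insert_of_notMem, Set.ncard_insert_of_notMem,
        Set.ncard_singleton]
      · intro h0
        rw [Set.mem_singleton_iff] at h0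
        exact hc (mul_eq_right.mp h0.symm)
      · rintro (h0 | h0)
        · exact hfc h0.symm
        · exact hf1 (mul_eq_left.mp (Set.mem_singleton_iff.mp h0).symm)
      · rintro (h0 | h0 | h0)
        · exact hc h0.symm
        · exact hf1 h0.symm
        · rw [Set.mem_singleton_iff] at h0
          apply hfc
          have : c * f * f = f := by rw [← h0, one_mul]
          rw [mul_assoc, hff, mul_one] at this
          exact this.symm
    have h5 : ({1, c, f, c * f} : Set E) = (ψ.ker : Set E) := by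
      apply Set.eq_of_subset_of_ncard_le hsub
      rw [h4]
      have h3 : ((ψ.ker : Set E)).ncard = 4 := by rw [← hk4]; rfl
      rw [h3]
    intro x hx
    have : x ∈ ({1, c, f, c * f} : Set E) := by rw [h5]; exact hx
    simpa using this
  refine ⟨c, f, ⟨c.2, f.2, fun h0 => hc (Subtype.ext h0), fun h0 => hf1 (Subtype.ext h0),
    fun h0 => hfc (Subtype.ext h0).symm, (hker c).mp hck, (hker f).mp hfk, ?_⟩⟩
  intro x hx h1 h2 h3 h4
  have hxk : (⟨x, hx⟩ : E) ∉ ψ.ker := by
    intro h0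
    rcases hcf _ h0 with h | h | h | h
    · exact h1 (congrArg Subtype.val h)
    · exact h2 (congrArg Subtype.val h)
    · exact h3 (congrArg Subtype.val h)
    · exact h4 (congrArg Subtype.val h)
  have h5 : ψ ⟨x, hx⟩ = c := hcu _ ⟨_, rfl⟩ (fun h0 => hxk (MonoidHom.mem_ker.mpr h0))
  have h6 : s * x * s⁻¹ * x = c := congrArg Subtype.val h5
  calc s * x * s⁻¹ = (s * x * s⁻¹ * x) * x⁻¹ := by group
    _ = c * x := by rw [h6, hinv x hx]
    _ = x * c := comm hE c.2 hx

/-- there are transvections with every centre and axis. -/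
theorem exists_tv [Finite G] (hE : Big E) (h8 : Nat.card E = 8) (h2 : TTr E) :
    ∀ c ∈ E, ∀ f ∈ E, c ≠ 1 → f ≠ 1 → c ≠ f → ∃ s, Tv E s c f := by
  classical
  -- two distinct nontrivial elements
  have hfin : Finite E := inferInstance
  haveI : (Subgroup.centralizer (E : Set G)).Normal := by
    haveI := hE.nor
    infer_instance
  have hex : ∃ s, s ∉ Subgroup.centralizer (E : Set G) ∧ s * s ∈ Subgroup.centralizer (E : Set G) := by
    obtain ⟨a, ha, b, hb, ha1, hb1, hab⟩ : ∃ a ∈ E, ∃ b ∈ E, a ≠ 1 ∧ b ≠ 1 ∧ a ≠ b := by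
      by_contra hcon
      push Not at hcon
      have hne : E ≠ ⊥ := by
        intro h0; rw [h0, Subgroup.card_bot] at h8; omega
      obtain ⟨a, ha, ha1⟩ := (Subgroup.ne_bot_iff_exists_ne_one.mp hne) |> fun ⟨a, h⟩ =>
        (⟨a.1, a.2, fun h0 => h (Subtype.ext h0)⟩ : ∃ a, a ∈ E ∧ a ≠ 1)
      have h1 : (E : Set G) ⊆ {1, a} := by
        intro x hx
        by_cases hx1 : x = 1
        · left; exact hx1
        · right; exact (hcon a ha x hx ha1 hx1).symm
      have h3 := Set.ncard_le_ncard h1 (Set.toFinite _)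
      have h4 : (E : Set G).ncard = 8 := by rw [← h8]; rfl
      have h5 : ({1, a} : Set G).ncard ≤ 2 := by
        refine le_trans (Set.ncard_insert_le _ _) ?_
        rw [Set.ncard_singleton]
      omega
    obtain ⟨x, hx1, hx2⟩ := h2 a ha b hb b hb a ha ha1 hb1 hab hb1 ha1 (Ne.symm hab)
    -- odd powers of x swap a and b
    have hsw : ∀ n : ℕ, x ^ (2 * n + 1) * a * (x ^ (2 * n + 1))⁻¹ = b ∧
        x ^ (2 * n + 1) * b * (x ^ (2 * n + 1))⁻¹ = a := by
      intro n
      induction n with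
      | zero => simpa using ⟨hx1, hx2⟩
      | succ n ih =>
        have e : x ^ (2 * (n + 1) + 1) = x * (x * x ^ (2 * n + 1)) := by
          rw [show 2 * (n + 1) + 1 = (2 * n + 1) + 1 + 1 by ring, pow_succ', pow_succ']
        rw [e]
        constructor
        · calc x * (x * x ^ (2 * n + 1)) * a * (x * (x * x ^ (2 * n + 1)))⁻¹
              = x * (x * (x ^ (2 * n + 1) * a * (x ^ (2 * n + 1))⁻¹) * x⁻¹) * x⁻¹ := by group
            _ = b := by rw [ih.1, hx2, hx1]
        · calc x * (x * x ^ (2 * n + 1)) * b * (x * (x * x ^ (2 * n + 1)))⁻¹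
              = x * (x * (x ^ (2 * n + 1) * b * (x ^ (2 * n + 1))⁻¹) * x⁻¹) * x⁻¹ := by group
            _ = a := by rw [ih.2, hx1, hx2]
    -- the order of x modulo the centralizer is even
    let π := QuotientGroup.mk' (Subgroup.centralizer (E : Set G))
    have hev : Even (orderOf (π x)) := by
      by_contra hodd
      rw [Nat.not_even_iff_odd] at hodd
      obtain ⟨n, hn⟩ := hodd
      have h1 : π (x ^ (2 * n + 1)) = 1 := by rw [map_pow, ← hn, pow_orderOf_eq_one]
      have h3 : x ^ (2 * n + 1) ∈ Subgroup.centralizer (E : Set G) := by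
        rwa [← MonoidHom.mem_ker, QuotientGroup.ker_mk'] at h1
      have h4 := (Subgroup.mem_centralizer_iff.mp h3) a ha
      have h5 := (hsw n).1
      rw [← h4] at h5
      apply hab
      rw [← h5]; group
    obtain ⟨m, hm⟩ := hev
    have hpos : 0 < orderOf (π x) := orderOf_pos _
    refine ⟨x ^ m, ?_, ?_⟩
    · intro h0
      have h1 : π (x ^ m) = 1 := by
        rw [← MonoidHom.mem_ker, QuotientGroup.ker_mk']; exact h0
      rw [map_pow] at h1
      have h3 := orderOf_dvd_of_pow_eq_one h1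
      have h4 := Nat.le_of_dvd (by omega) h3
      omega
    · have h1 : π (x ^ m * x ^ m) = 1 := by
        rw [← pow_add, map_pow, ← hm, pow_orderOf_eq_one]
      rwa [← MonoidHom.mem_ker, QuotientGroup.ker_mk'] at h1
  obtain ⟨s, hs, hs2⟩ := hex
  obtain ⟨c₀, f₀, h0⟩ := tv_of_sq hE h8 hs hs2
  intro c hc f hf hc1 hf1 hcf
  obtain ⟨g, hg1, hg2⟩ := h2 c₀ h0.cE f₀ h0.fE c hc f hf h0.c1 h0.f1 h0.ne hc1 hf1 hcf
  refine ⟨g * s * g⁻¹, ?_⟩
  have := h0.conj hE g
  rwa [hg1, hg2] at this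

end H29.PyrT
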