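import Mathlib
import Cfsg.Agent.Lib.H29.PyrT

/-! S3930, piece B-AB: `C_G(E)` cannot be abelian. -/

set_option autoImplicit false

namespace H29.PyrAB

open H73.Pyr H29.PyrT

section Alg

variable {A : Type*} [AddCommGroup A]

theorem ind8 {a b c : A} (ha : 2 • a = 0) (hb : 2 • b = 0) (hc : 2 • c = 0) (a0 : a ≠ 0) (b0 : b ≠ 0)
    (ba : b ≠ a) (c0 : c ≠ 0) (ca : c ≠ a) (cb : c ≠ b) (cab : c ≠ a + b) (i j l : ℕ)
    (h : i • a + j • b + l • c = 0) : 2 ∣ i ∧ 2 ∣ j ∧ 2 ∣ l := by
  have red : ∀ (x : A), 2 • x = 0 → ∀ n : ℕ, n • x = (n % 2) • x := by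
    intro x hx n
    conv_lhs => rw [← Nat.div_add_mod n 2, add_smul, mul_comm, mul_smul, hx, smul_zero, zero_add]
  rw [red a ha i, red b hb j, red c hc l] at h
  rw [Nat.dvd_iff_mod_eq_zero, Nat.dvd_iff_mod_eq_zero, Nat.dvd_iff_mod_eq_zero]
  rw [two_smul] at ha hb hc
  have hna : -a = a := neg_eq_of_add_eq_zero_left ha
  have hnb : -b = b := neg_eq_of_add_eq_zero_left hb
  rcases Nat.mod_two_eq_zero_or_one i with hi | hi <;> rcases Nat.mod_two_eq_zero_or_one j with hj | hj <;>
    rcases Nat.mod_two_eq_zero_or_one l with hl | hl <;> rw [hi, hj, hl] at h <;>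
    simp only [zero_smul, one_smul, zero_add, add_zero] at h
  · exact ⟨hi, hj, hl⟩
  · exact absurd h c0
  · exact absurd h b0
  · exact absurd (by rw [← hnb]; exact eq_neg_of_add_eq_zero_right h) cb
  · exact absurd h a0
  · exact absurd (by rw [← hna]; exact eq_neg_of_add_eq_zero_right h) ca
  · exact absurd (by rw [← hna]; exact eq_neg_of_add_eq_zero_right h) ba
  · refine absurd ?_ cab
    have h1 : c = -(a + b) := eq_neg_of_add_eq_zero_right h
    rw [h1, neg_add, hna, hnb]

theorem span8 {a b c : A} (ha : 2 • a = 0) (hb : 2 • b = 0) (hc : 2 • c = 0) (a0 : a ≠ 0) (b0 : b ≠ 0)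
    (ba : b ≠ a) (c0 : c ≠ 0) (ca : c ≠ a) (cb : c ≠ b) (cab : c ≠ a + b)
    (h8 : Nat.card {m : A // 2 • m = 0} = 8) (m : A) (hm : 2 • m = 0) :
    ∃ i j l : ℕ, m = i • a + j • b + l • c := by
  have hf : ∀ x : Fin 2 × Fin 2 × Fin 2,
      2 • ((x.1 : ℕ) • a + (x.2.1 : ℕ) • b + (x.2.2 : ℕ) • c) = 0 := by
    intro x
    rw [smul_add, smul_add, smul_comm, ha, smul_comm 2 _ b, hb, smul_comm 2 _ c, hc]
    simp
  let f : Fin 2 × Fin 2 × Fin 2 → {m : A // 2 • m = 0} := fun x =>
    ⟨(x.1 : ℕ) • a + (x.2.1 : ℕ) • b + (x.2.2 : ℕ) • c, hf x⟩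
  have hinj : Function.Injective f := by
    rintro ⟨i, j, l⟩ ⟨i', j', l'⟩ h
    have h1 : (i : ℕ) • a + (j : ℕ) • b + (l : ℕ) • c = (i' : ℕ) • a + (j' : ℕ) • b + (l' : ℕ) • c :=
      congrArg Subtype.val h
    have h2 : ((i : ℕ) + i') • a + ((j : ℕ) + j') • b + ((l : ℕ) + l') • c = 0 := by
      have h3 := hf (i', j', l')
      simp only at h3
      rw [two_smul] at h3
      calc ((i : ℕ) + i') • a + ((j : ℕ) + j') • b + ((l : ℕ) + l') • c
          = ((i : ℕ) • a + (j : ℕ) • b + (l : ℕ) • c) + ((i' : ℕ) • a + (j' : ℕ) • b + (l' : ℕ) • c) := by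
            rw [add_smul, add_smul, add_smul]; abel
        _ = 0 := by rw [h1]; exact h3
    obtain ⟨d1, d2, d3⟩ := ind8 ha hb hc a0 b0 ba c0 ca cb cab _ _ _ h2
    have := i.2; have := i'.2; have := j.2; have := j'.2; have := l.2; have := l'.2
    refine Prod.ext (Fin.ext ?_) (Prod.ext (Fin.ext ?_) (Fin.ext ?_)) <;> simp only <;> omega
  haveI : Finite {m : A // 2 • m = 0} := Nat.finite_of_card_ne_zero (by rw [h8]; norm_num)
  have hbij : Function.Bijective f := by
    rw [Nat.bijective_iff_injective_and_card]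
    refine ⟨hinj, ?_⟩
    rw [h8]; simp
  obtain ⟨⟨i, j, l⟩, hx⟩ := hbij.2 ⟨m, hm⟩
  exact ⟨i, j, l, (congrArg Subtype.val hx).symm⟩

variable {k : ℕ} [Module (ZMod (2 ^ k)) A]

theorem expo (m : A) : (2 ^ k) • m = 0 := by
  rw [← Nat.cast_smul_eq_nsmul (ZMod (2 ^ k)), ZMod.natCast_self, zero_smul]

theorem lin_ind (hk : 1 ≤ k) (t : Fin 3 → A)
    (ind : ∀ a : Fin 3 → ℕ, ∑ i, a i • ((2 ^ (k - 1)) • t i) = 0 → ∀ i, 2 ∣ a i) :
    LinearIndependent (ZMod (2 ^ k)) t := by
  rw [Fintype.linearIndependent_iff]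
  intro r hr
  haveI : NeZero (2 ^ k) := ⟨by positivity⟩
  have key : ∀ j ≤ k, ∀ i, 2 ^ j ∣ (r i).val := by
    intro j
    induction j with
    | zero => intro _ i; simp
    | succ j ih =>
      intro hj i
      have ih' := ih (by omega)
      choose b hb using ih'
      have h1 : ∑ i, b i • ((2 ^ (k - 1)) • t i) = 0 := by
        have h2 : (2 ^ (k - 1 - j)) • ∑ i, r i • t i = 0 := by rw [hr, smul_zero]
        rw [Finset.smul_sum] at h2
        rw [← h2]
        refine Finset.sum_congr rfl fun i _ => ?_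
        have h3 : r i • t i = (r i).val • t i := by
          rw [← Nat.cast_smul_eq_nsmul (ZMod (2 ^ k)), ZMod.natCast_zmod_val]
        rw [h3, hb i, smul_smul, smul_smul]
        congr 1
        rw [mul_comm (b i), ← mul_assoc, ← pow_add, show k - 1 - j + j = k - 1 by omega]
      obtain ⟨c, hc⟩ := ind b h1 i
      refine ⟨c, ?_⟩
      rw [hb i, hc, pow_succ, mul_assoc]
  intro i
  have h1 := key k le_rfl i
  rw [← ZMod.natCast_zmod_val (r i), ZMod.natCast_eq_zero_iff]
  exact h1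

theorem spans (hk : 1 ≤ k) (t : Fin 3 → A)
    (soc : ∀ m : A, 2 • m = 0 → ∃ a : Fin 3 → ℕ, m = ∑ i, a i • ((2 ^ (k - 1)) • t i)) :
    ⊤ ≤ Submodule.span (ZMod (2 ^ k)) (Set.range t) := by
  have hn : ∀ (n : ℕ) (m : A), m ∈ Submodule.span (ZMod (2 ^ k)) (Set.range t) →
      n • m ∈ Submodule.span (ZMod (2 ^ k)) (Set.range t) := by
    intro n m hm
    rw [← Nat.cast_smul_eq_nsmul (ZMod (2 ^ k))]
    exact Submodule.smul_mem _ _ hm
  have key : ∀ j ≤ k, ∀ m : A, (2 ^ j) • m = 0 → m ∈ Submodule.span (ZMod (2 ^ k)) (Set.range t) := by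
    intro j
    induction j with
    | zero =>
      intro _ m hm
      rw [pow_zero, one_smul] at hm
      rw [hm]; exact Submodule.zero_mem _
    | succ j ih =>
      intro hj m hm
      obtain ⟨a, ha⟩ := soc ((2 ^ j) • m) (by rw [smul_smul, ← pow_succ']; exact hm)
      let u : A := ∑ i, a i • ((2 ^ (k - 1 - j)) • t i)
      have hu : u ∈ Submodule.span (ZMod (2 ^ k)) (Set.range t) :=
        Submodule.sum_mem _ fun i _ => hn _ _ (hn _ _ (Submodule.subset_span ⟨i, rfl⟩))
      have h1 : (2 ^ j) • (m - u) = 0 := by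
        rw [smul_sub, ha, Finset.smul_sum, ← Finset.sum_sub_distrib]
        refine Finset.sum_eq_zero fun i _ => ?_
        rw [smul_smul, smul_smul, smul_smul, sub_eq_zero]
        congr 1
        rw [mul_comm (2 ^ j), mul_assoc, ← pow_add]
        congr 2; omega
      have h2 := ih (by omega) _ h1
      have : m = (m - u) + u := by abel
      rw [this]
      exact Submodule.add_mem _ h2 hu
  intro m _
  exact key k le_rfl m (expo m)

/-- the regular unipotent element of determinant one. -/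
theorem fixed_norm (t : Fin 3 → A) (hli : LinearIndependent (ZMod (2 ^ k)) t)
    (hsp : ⊤ ≤ Submodule.span (ZMod (2 ^ k)) (Set.range t)) (g : A →ₗ[ZMod (2 ^ k)] A)
    (h01 : g (t 0) = t 1) (h12 : g (t 1) = t 2) (hdet : LinearMap.det g = 1)
    (h4 : g (g (g (g (t 0)))) = t 0) (z : A) (hz : g z = z) : ∃ w, z = w + g (g w) := by
  let B : Module.Basis (Fin 3) (ZMod (2 ^ k)) A := Module.Basis.mk hli hsp
  have hB : ∀ i, B i = t i := fun i => by simp [B]
  have hrep : ∀ m : A, m = B.repr m 0 • t 0 + B.repr m 1 • t 1 + B.repr m 2 • t 2 := by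
    intro m
    conv_lhs => rw [← B.sum_repr m]
    rw [Fin.sum_univ_three, hB, hB, hB]
  have hr0 : B.repr (t 0) = Finsupp.single 0 1 := by rw [← hB, B.repr_self]
  have hr1 : B.repr (t 1) = Finsupp.single 1 1 := by rw [← hB, B.repr_self]
  have hr2 : B.repr (t 2) = Finsupp.single 2 1 := by rw [← hB, B.repr_self]
  set α := B.repr (g (t 2)) 0 with hα
  set β := B.repr (g (t 2)) 1 with hβ
  set γ := B.repr (g (t 2)) 2 with hγ
  have hg2 : g (t 2) = α • t 0 + β • t 1 + γ • t 2 := hrep _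
  have hmat : LinearMap.toMatrix B B g = !![0, 0, α; 1, 0, β; 0, 1, γ] := by
    ext i j
    rw [LinearMap.toMatrix_apply, hB]
    fin_cases j
    · simp only [Fin.zero_eta, Fin.isValue, h01, hr1]
      fin_cases i <;> simp
    · simp only [Fin.mk_one, Fin.isValue, h12, hr2]
      fin_cases i <;> simp
    · fin_cases i
      · simp [hα]
      · simp [hβ]
      · simp [hγ]
  have hα1 : α = 1 := by
    rw [← LinearMap.det_toMatrix B, hmat, Matrix.det_fin_three] at hdet
    simpa using hdet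
  have h4' : g (g (t 2)) = t 0 := by
    rw [h01, h12] at h4; exact h4
  have h5 : g (g (t 2)) = (α * γ) • t 0 + (α + β * γ) • t 1 + (β + γ * γ) • t 2 := by
    rw [hg2, map_add, map_add, map_smul, map_smul, map_smul, h01, h12, hg2]
    module
  rw [h4'] at h5
  have c0 : (1 : ZMod (2 ^ k)) = α * γ := by
    have := congrArg (fun m => B.repr m 0) h5
    simpa [hr0, hr1, hr2, map_add, map_smul] using this
  have c2 : (0 : ZMod (2 ^ k)) = β + γ * γ := by
    have := congrArg (fun m => B.repr m 2) h5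
    simpa [hr0, hr1, hr2, map_add, map_smul] using this
  rw [hα1, one_mul] at c0
  have hβ1 : β = -1 := by rw [← c0] at c2; linear_combination -c2
  rw [hα1, hβ1, ← c0] at hg2
  -- the fixed points
  set x := B.repr z 0
  set y := B.repr z 1
  set v := B.repr z 2
  have hzr : z = x • t 0 + y • t 1 + v • t 2 := hrep z
  have hgz : g z = v • t 0 + (x - v) • t 1 + (y + v) • t 2 := by
    conv_lhs => rw [hzr]
    rw [map_add, map_add, map_smul, map_smul, map_smul, h01, h12, hg2]
    module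
  rw [hz] at hgz
  have hxv : x = v := by
    have := congrArg (fun m => B.repr m 0) hgz
    simpa [hr0, hr1, hr2, map_add, map_smul] using this
  have hyv : y = x - v := by
    have := congrArg (fun m => B.repr m 1) hgz
    simpa [hr0, hr1, hr2, map_add, map_smul] using this
  rw [hxv, sub_self] at hyv
  refine ⟨v • t 0, ?_⟩
  rw [map_smul, map_smul, h01, h12, hzr, hyv, hxv]
  module

theorem unit_one {n : ℕ} (δ ε : ZMod (2 ^ n)) (h1 : δ * ε = 1) (h3 : δ ^ 4 = δ) : δ = 1 := by
  let u : (ZMod (2 ^ n))ˣ := ⟨δ, ε, h1, by rw [mul_comm]; exact h1⟩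
  have hu4 : u ^ 4 = u := Units.ext h3
  have hu3 : u ^ 3 = 1 := by
    have : u ^ 3 * u = 1 * u := by rw [← pow_succ, one_mul]; exact hu4
    exact mul_right_cancel this
  have hup : u ^ (Nat.totient (2 ^ n)) = 1 := ZMod.pow_totient u
  have hd : orderOf u ∣ 1 := by
    have hco : Nat.Coprime 3 (Nat.totient (2 ^ n)) := by
      rcases Nat.eq_zero_or_pos n with h0 | h0
      · subst h0; simp
      · rw [Nat.totient_prime_pow Nat.prime_two h0]
        simp only [Nat.add_one_sub_one, mul_one]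
        exact Nat.Coprime.pow_right _ (by norm_num)
    rw [← hco]
    exact Nat.dvd_gcd (orderOf_dvd_of_pow_eq_one hu3) (orderOf_dvd_of_pow_eq_one hup)
  have hu : u = 1 := by
    rw [← orderOf_eq_one_iff]; exact Nat.dvd_one.mp hd
  exact congrArg Units.val hu

end Alg


section Grp

variable {G : Type*} [Group G] {E : Subgroup G}

/-- transvections with the same centre and axis agree on `E`. -/
theorem tv_unique {s s' c f : G} (hE : Big E) (h : Tv E s c f) (h' : Tv E s' c f) :
    s⁻¹ * s' ∈ Subgroup.centralizer (E : Set G) := by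
  have key : ∀ x ∈ E, s * x * s⁻¹ = s' * x * s'⁻¹ := by
    intro x hx
    by_cases h1 : x = 1
    · subst h1; simp
    by_cases h2 : x = c
    · rw [h2, h.sc, h'.sc]
    by_cases h3 : x = f
    · rw [h3, h.sf, h'.sf]
    by_cases h4 : x = c * f
    · rw [h4]
      calc s * (c * f) * s⁻¹ = (s * c * s⁻¹) * (s * f * s⁻¹) := by group
        _ = (s' * c * s'⁻¹) * (s' * f * s'⁻¹) := by rw [h.sc, h.sf, h'.sc, h'.sf]
        _ = _ := by group
    · rw [h.sx x hx h1 h2 h3 h4, h'.sx x hx h1 h2 h3 h4]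
  rw [Subgroup.mem_centralizer_iff]
  intro x hx
  have h1 := key x hx
  calc x * (s⁻¹ * s') = s⁻¹ * (s * x * s⁻¹) * s' := by group
    _ = s⁻¹ * (s' * x * s'⁻¹) * s' := by rw [h1]
    _ = s⁻¹ * s' * x := by group

/-- package an additive action as a linear one. -/
noncomputable def actOf {A : Type*} [AddCommGroup A] {n : ℕ} [Module (ZMod n) A] (c : G → A →+ A)
    (h1 : ∀ a, c 1 a = a) (hm : ∀ x y a, c (x * y) a = c x (c y a)) : G →* (A →ₗ[ZMod n] A) where
  toFun x := AddMonoidHom.toZModLinearMap n (c x)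
  map_one' := by
    apply LinearMap.ext; intro a; exact h1 a
  map_mul' := by
    intro x y
    apply LinearMap.ext; intro a; exact hm x y a

/-- the main computation, with `C_G(E)` presented as an additive group `A`. -/
theorem main_core [Finite G] (hE : Big E) (h8 : Nat.card E = 8) (h2 : TTr E)
    {A : Type*} [AddCommGroup A] {k : ℕ} (hk : 1 ≤ k) [Module (ZMod (2 ^ k)) A]
    (ι : A → G) (hadd : ∀ a b, ι (a + b) = ι a * ι b) (hinj : Function.Injective ι)
    (hι : ∀ x, (∃ a, ι a = x) ↔ x ∈ Subgroup.centralizer (E : Set G))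
    (act : G →* (A →ₗ[ZMod (2 ^ k)] A)) (hact : ∀ x a, ι (act x a) = x * ι a * x⁻¹)
    (hroot : ∀ e ∈ E, ∃ a, ι ((2 ^ (k - 1)) • a) = e) : False := by
  classical
  have h0 : ι 0 = 1 := by
    have := hadd 0 0
    rw [add_zero] at this
    exact (mul_eq_left.mp this.symm)
  have hnsmul : ∀ (n : ℕ) a, ι (n • a) = ι a ^ n := by
    intro n a
    induction n with
    | zero => rw [zero_smul, h0, pow_zero]
    | succ n ih => rw [succ_nsmul, hadd, ih, pow_succ]
  have hneg : ∀ a, ι (-a) = (ι a)⁻¹ := by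
    intro a
    rw [eq_inv_iff_mul_eq_one, ← hadd, neg_add_cancel, h0]
  have hTE : ∀ x, x ∈ E → x ∈ Subgroup.centralizer (E : Set G) := by
    intro x hx
    rw [Subgroup.mem_centralizer_iff]
    intro y hy
    exact comm hE hy hx
  have hT : ∀ x y, x ∈ Subgroup.centralizer (E : Set G) → y ∈ Subgroup.centralizer (E : Set G) →
      x * y = y * x := by
    intro x y hx hy
    obtain ⟨a, rfl⟩ := (hι x).mpr hx
    obtain ⟨b, rfl⟩ := (hι y).mpr hy
    rw [← hadd, add_comm, hadd]
  -- the socle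
  have hsocE : ∀ a : A, 2 • a = 0 ↔ ι a ∈ E := by
    intro a
    constructor
    · intro h
      apply hE.inv
      rw [← hadd, ← two_smul ℕ, h, h0]
    · intro h
      apply hinj
      rw [two_smul, hadd, hE.sq _ h, h0]
  have hcard : Nat.card {m : A // 2 • m = 0} = 8 := by
    rw [← h8]
    refine Nat.card_congr (Equiv.ofBijective (fun m => (⟨ι m.1, (hsocE _).mp m.2⟩ : E)) ⟨?_, ?_⟩)
    · intro a b h
      exact Subtype.ext (hinj (congrArg Subtype.val h))
    · rintro ⟨x, hx⟩
      obtain ⟨a, rfl⟩ := (hι x).mpr (hTE x hx)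
      exact ⟨⟨a, (hsocE a).mpr hx⟩, rfl⟩
  haveI hfin : Finite {m : A // 2 • m = 0} := Nat.finite_of_card_ne_zero (by rw [hcard]; norm_num)
  -- basis of the socle
  have pick : ∀ S : Finset A, S.card ≤ 4 → ∃ m : A, 2 • m = 0 ∧ m ∉ S := by
    intro S hS
    by_contra hcon
    push Not at hcon
    have h3 : Nat.card {m : A // 2 • m = 0} ≤ Nat.card S :=
      Nat.card_le_card_of_injective (fun m => (⟨m.1, hcon m.1 m.2⟩ : S)) (fun a b h =>
        Subtype.ext (by simpa using h))
    rw [hcard, Nat.card_eq_fintype_card, Fintype.card_coe] at h3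
    omega
  obtain ⟨e1, he1, he1'⟩ := pick {0} (by rw [Finset.card_singleton]; norm_num)
  obtain ⟨e2, he2, he2'⟩ := pick {0, e1} (le_trans Finset.card_le_two (by norm_num))
  obtain ⟨e3, he3, he3'⟩ := pick {0, e1, e2, e1 + e2} Finset.card_le_four
  simp only [Finset.mem_singleton, Finset.mem_insert, not_or] at he1' he2' he3'
  obtain ⟨h20, h21⟩ := he2'
  obtain ⟨h30, h31, h32, h312⟩ := he3'
  have hne : ∀ {a b : A}, a ≠ b → ι a ≠ ι b := fun h h' => h (hinj h')
  have hne0 : ∀ {a : A}, a ≠ 0 → ι a ≠ 1 := fun h h' => h (hinj (by rw [h', h0]))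
  -- transvections
  obtain ⟨a1, ha1⟩ := exists_tv hE h8 h2 (ι e1) ((hsocE _).mp he1) (ι e3) ((hsocE _).mp he3)
    (hne0 he1') (hne0 h30) (hne (Ne.symm h31))
  obtain ⟨a2, ha2⟩ := exists_tv hE h8 h2 (ι e2) ((hsocE _).mp he2) (ι e1) ((hsocE _).mp he1)
    (hne0 h20) (hne0 he1') (hne h21)
  -- action on the basis
  have act_eq : ∀ x a b, x * ι a * x⁻¹ = ι b → act x a = b := by
    intro x a b h
    apply hinj
    rw [hact, h]
  have hn1 : -e1 = e1 := by rw [two_smul] at he1; exact neg_eq_of_add_eq_zero_left he1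
  have hn2 : -e2 = e2 := by rw [two_smul] at he2; exact neg_eq_of_add_eq_zero_left he2
  have a1e1 : act a1 e1 = e1 := act_eq _ _ _ ha1.sc
  have a1e3 : act a1 e3 = e3 := act_eq _ _ _ ha1.sf
  have a1e2 : act a1 e2 = e2 + e1 := by
    apply act_eq
    rw [hadd]
    apply ha1.sx _ ((hsocE _).mp he2) (hne0 h20) (hne h21) (hne (Ne.symm h32))
    rw [← hadd]
    apply hne
    intro h
    apply h312
    rw [h, ← add_assoc, ← two_smul ℕ, he1, zero_add]
  have a2e2 : act a2 e2 = e2 := act_eq _ _ _ ha2.sc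
  have a2e1 : act a2 e1 = e1 := act_eq _ _ _ ha2.sf
  have a2e3 : act a2 e3 = e3 + e2 := by
    apply act_eq
    rw [hadd]
    apply ha2.sx _ ((hsocE _).mp he3) (hne0 h30) (hne h32) (hne h31)
    rw [← hadd]
    apply hne
    intro h
    apply h312
    rw [h, add_comm]
  set g := a1 * a2 with hg
  have hmul : ∀ x y a, act (x * y) a = act x (act y a) := by
    intro x y a; rw [map_mul]; rfl
  have ge1 : act g e1 = e1 := by rw [hg, hmul, a2e1, a1e1]
  have ge2 : act g e2 = e2 + e1 := by rw [hg, hmul, a2e2, a1e2]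
  have ge3 : act g e3 = e3 + e2 + e1 := by rw [hg, hmul, a2e3, map_add, a1e3, a1e2, add_assoc]
  have gge1 : act (g * g) e1 = e1 := by rw [hmul, ge1, ge1]
  have gge2 : act (g * g) e2 = e2 := by
    rw [hmul, ge2, map_add, ge2, ge1, add_assoc, ← two_smul ℕ e1, he1, add_zero]
  have gge3 : act (g * g) e3 = e3 + e1 := by
    rw [hmul, ge3, map_add, map_add, ge3, ge2, ge1]
    calc e3 + e2 + e1 + (e2 + e1) + e1 = e3 + e1 + (2 • e2 + 2 • e1) := by rw [two_smul, two_smul]; abel
      _ = e3 + e1 := by rw [he1, he2, add_zero, add_zero]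
  have hsp8 := span8 he1 he2 he3 he1' h20 h21 h30 h31 h32 h312 hcard
  have red : ∀ (x : A), 2 • x = 0 → ∀ n : ℕ, n • x = (n % 2) • x := by
    intro x hx n
    conv_lhs => rw [← Nat.div_add_mod n 2, add_smul, mul_comm, mul_smul, hx, smul_zero, zero_add]
  -- `g²` is a transvection
  have htv : Tv E (g * g) (ι e1) (ι e2) := by
    refine ⟨(hsocE _).mp he1, (hsocE _).mp he2, hne0 he1', hne0 h20, hne (Ne.symm h21), ?_, ?_, ?_⟩
    · rw [← hact, gge1]
    · rw [← hact, gge2]
    · intro x hx x1 x2 x3 x4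
      obtain ⟨a, rfl⟩ := (hι x).mpr (hTE x hx)
      obtain ⟨i, j, l, hm⟩ := hsp8 a ((hsocE a).mpr hx)
      rw [← hact, ← hadd]
      congr 1
      rw [hm, map_add, map_add, map_nsmul, map_nsmul, map_nsmul, gge1, gge2, gge3]
      have hl : l % 2 = 1 := by
        by_contra hl
        have hl0 : l % 2 = 0 := by omega
        rw [red e3 he3 l, hl0, zero_smul, add_zero, red e1 he1 i, red e2 he2 j] at hm
        rcases Nat.mod_two_eq_zero_or_one i with hi | hi <;>
          rcases Nat.mod_two_eq_zero_or_one j with hj | hj <;> rw [hi, hj] at hm <;>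
          simp only [zero_smul, one_smul, zero_add, add_zero] at hm
        · exact x1 (by rw [hm, h0])
        · exact x3 (by rw [hm])
        · exact x2 (by rw [hm])
        · exact x4 (by rw [hm, hadd])
      have hle : l • e1 = e1 := by rw [red e1 he1, hl, one_smul]
      rw [smul_add, hle]
      abel
  -- determinants
  have hD1 : ∀ t ∈ Subgroup.centralizer (E : Set G), act t = 1 := by
    intro t ht
    ext a
    apply hinj
    rw [hact]
    have := hT t (ι a) ht ((hι _).mp ⟨a, rfl⟩)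
    rw [this]; simp
  let D : G →* ZMod (2 ^ k) := LinearMap.det.comp act
  have hDt : ∀ t ∈ Subgroup.centralizer (E : Set G), D t = 1 := by
    intro t ht
    change LinearMap.det (act t) = 1
    rw [hD1 t ht, map_one]
  have hDD : ∀ {s c f s' c' f' : G}, Tv E s c f → Tv E s' c' f' → D s = D s' := by
    intro s c f s' c' f' hs hs'
    obtain ⟨x, hx1, hx2⟩ := h2 c hs.cE f hs.fE c' hs'.cE f' hs'.fE hs.c1 hs.f1 hs.ne hs'.c1 hs'.f1 hs'.ne
    have h3 := hs.conj hE x
    rw [hx1, hx2] at h3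
    have h4 := tv_unique hE h3 hs'
    have h5 : s' = (x * s * x⁻¹) * ((x * s * x⁻¹)⁻¹ * s') := by group
    rw [h5, map_mul, hDt _ h4, mul_one, map_mul, map_mul, mul_comm (D x), mul_assoc, ← map_mul,
      mul_inv_cancel, map_one, mul_one]
  have hδ : D a1 = 1 := by
    apply unit_one (D a1) (D a1⁻¹)
    · rw [← map_mul, mul_inv_cancel, map_one]
    · have h3 := hDD ha1 htv
      have h4 := hDD ha1 ha2
      rw [hg, map_mul, map_mul, ← h4] at h3
      rw [eq_comm]
      calc D a1 = D a1 * D a1 * (D a1 * D a1) := h3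
        _ = D a1 ^ 4 := by ring
  have hdetg : LinearMap.det (act g) = 1 := by
    change D g = 1
    rw [hg, map_mul, ← hDD ha1 ha2, hδ, one_mul]
  -- the basis
  obtain ⟨t0, ht0⟩ := hroot (ι e3) ((hsocE _).mp he3)
  have ht0' := hinj ht0
  have hg4 : g * g * (g * g) ∈ Subgroup.centralizer (E : Set G) := by
    rw [Subgroup.mem_centralizer_iff]
    intro x hx
    obtain ⟨a, rfl⟩ := (hι x).mpr (hTE x hx)
    obtain ⟨i, j, l, hm⟩ := hsp8 a ((hsocE a).mpr hx)
    have h3 : act (g * g * (g * g)) a = a := by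
      have q1 : act (g * g * (g * g)) e1 = e1 := by rw [hmul, gge1, gge1]
      have q2 : act (g * g * (g * g)) e2 = e2 := by rw [hmul, gge2, gge2]
      have q3 : act (g * g * (g * g)) e3 = e3 := by
        rw [hmul, gge3, map_add, gge1, gge3, add_assoc e3, ← two_smul ℕ e1, he1, add_zero]
      rw [hm, map_add, map_add, map_nsmul, map_nsmul, map_nsmul, q1, q2, q3]
    have h4 := hact (g * g * (g * g)) a
    rw [h3, eq_mul_inv_iff_mul_eq] at h4
    exact h4
  let t : Fin 3 → A := ![t0, act g t0, act g (act g t0)]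
  have ht0e : (2 ^ (k - 1)) • t 0 = e3 := ht0'
  have ht1e : (2 ^ (k - 1)) • t 1 = e3 + e2 + e1 := by
    change (2 ^ (k - 1)) • act g t0 = _
    rw [← map_nsmul, ht0', ge3]
  have ht2e : (2 ^ (k - 1)) • t 2 = e3 + e1 := by
    change (2 ^ (k - 1)) • act g (act g t0) = _
    rw [← map_nsmul, ← map_nsmul, ht0', ← hmul, gge3]
  have hli : LinearIndependent (ZMod (2 ^ k)) t := by
    apply lin_ind hk t
    intro a ha
    rw [Fin.sum_univ_three, ht0e, ht1e, ht2e] at ha
    have h3 : (a 1 + a 2) • e1 + (a 1) • e2 + (a 0 + a 1 + a 2) • e3 = 0 := by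
      rw [← ha]; simp only [smul_add, add_smul]; abel
    obtain ⟨d1, d2, d3⟩ := ind8 he1 he2 he3 he1' h20 h21 h30 h31 h32 h312 _ _ _ h3
    intro i
    fin_cases i <;> simp only [Fin.zero_eta, Fin.mk_one, Fin.reduceFinMk, Fin.isValue] <;> omega
  have hsp : ⊤ ≤ Submodule.span (ZMod (2 ^ k)) (Set.range t) := by
    apply spans hk t
    intro m hm
    obtain ⟨i, j, l, hm'⟩ := hsp8 m hm
    refine ⟨![i + l, j, i + j], ?_⟩
    rw [Fin.sum_univ_three, ht0e, ht1e, ht2e, hm']
    simp only [Fin.isValue, Matrix.cons_val_zero, Matrix.cons_val_one, Matrix.cons_val]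
    have c1 : ∀ n : ℕ, n • e3 + n • e3 = 0 := fun n => by
      rw [← two_smul ℕ, smul_comm, he3, smul_zero]
    have c2 : ∀ n : ℕ, n • e1 + n • e1 = 0 := fun n => by
      rw [← two_smul ℕ, smul_comm, he1, smul_zero]
    simp only [smul_add, add_smul]
    calc i • e1 + j • e2 + l • e3 = i • e1 + j • e2 + l • e3 + (i • e3 + i • e3) + (j • e3 + j • e3)
          + (j • e1 + j • e1) := by rw [c1, c1, c2, add_zero, add_zero, add_zero]
      _ = _ := by abel
  have hmul4 : act g (act g (act g (act g (t 0)))) = t 0 := by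
    have h3 : act g (act g (act g (act g (t 0)))) = act (g * g * (g * g)) (t 0) := by
      rw [hmul (g * g) (g * g), hmul g g, hmul g g]
    rw [h3, hD1 _ hg4]; rfl
  obtain ⟨z, hz⟩ := (hι _).mpr hg4
  have hgz : act g z = z := by
    apply hinj
    rw [hact, hz]; group
  obtain ⟨w, hw⟩ := fixed_norm t hli hsp (act g) rfl rfl hdetg hmul4 z hgz
  -- an involution outside
  have hinv : (g * g * (ι w)⁻¹) * (g * g * (ι w)⁻¹) = 1 := by
    have h3 : ι z = ι w * (g * g * ι w * (g * g)⁻¹) := by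
      conv_lhs => rw [hw]
      rw [hadd, ← hmul, hact]
    have h4 : g * g * (g * g) = ι w * (g * g * ι w * (g * g)⁻¹) := by rw [← hz]; exact h3
    have h5 := hT _ (ι w) hg4 ((hι _).mp ⟨w, rfl⟩)
    calc (g * g * (ι w)⁻¹) * (g * g * (ι w)⁻¹)
        = (g * g * (ι w)⁻¹ * (g * g)⁻¹) * ((g * g * (g * g)) * (ι w)⁻¹) := by simp [mul_assoc]
      _ = (g * g * (ι w)⁻¹ * (g * g)⁻¹) * ((ι w)⁻¹ * (g * g * (g * g))) := by
          congr 1
          rw [eq_inv_mul_iff_mul_eq, ← mul_assoc, ← h5, mul_assoc, mul_inv_cancel, mul_one]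
      _ = (g * g * (ι w)⁻¹ * (g * g)⁻¹) * ((ι w)⁻¹ * (ι w * (g * g * ι w * (g * g)⁻¹))) := by rw [← h4]
      _ = 1 := by group
  have hmem := hTE _ (hE.inv _ hinv)
  have hgg : g * g ∈ Subgroup.centralizer (E : Set G) := by
    have h3 : g * g = (g * g * (ι w)⁻¹) * ι w := by group
    rw [h3]
    exact Subgroup.mul_mem _ hmem ((hι _).mp ⟨w, rfl⟩)
  have h3 := hD1 _ hgg
  rw [h3] at gge3
  have h4 : e3 = e3 + e1 := gge3
  exact he1' (by simpa using h4.symm)

theorem b_ab_aux [Finite G] (hE : Big E) (h8 : Nat.card E = 8) (h2 : TTr E)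
    {T : Type*} [CommGroup T] [Finite T] (hT : IsPGroup 2 T) (ι : T →* G)
    (hinj : Function.Injective ι) (hι : ∀ x, (∃ a, ι a = x) ↔ x ∈ Subgroup.centralizer (E : Set G))
    (c : G → T →* T) (hc : ∀ x a, ι (c x a) = x * ι a * x⁻¹) : False := by
  classical
  have hTE : ∀ x, x ∈ E → x ∈ Subgroup.centralizer (E : Set G) := by
    intro x hx
    rw [Subgroup.mem_centralizer_iff]
    intro y hy
    exact comm hE hy hx
  -- the exponent
  obtain ⟨k, hk⟩ : ∃ k, Monoid.exponent T = 2 ^ k := by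
    have h3 := (IsPGroup.iff_card.mp hT)
    obtain ⟨n, hn⟩ := h3
    have h4 : Monoid.exponent T ∣ 2 ^ n := by rw [← hn]; exact Group.exponent_dvd_nat_card
    obtain ⟨k, -, hk⟩ := (Nat.dvd_prime_pow Nat.prime_two).mp h4
    exact ⟨k, hk⟩
  obtain ⟨e, he, he1⟩ : ∃ e ∈ E, e ≠ 1 := by
    by_contra hcon
    push Not at hcon
    have : E = ⊥ := by
      rw [eq_bot_iff]; intro x hx; rw [Subgroup.mem_bot]; exact hcon x hx
    rw [this, Subgroup.card_bot] at h8
    omega
  have hk1 : 1 ≤ k := by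
    by_contra hlt
    have h0 : k = 0 := by omega
    rw [h0, pow_zero, Monoid.exp_eq_one_iff] at hk
    obtain ⟨a, ha⟩ := (hι e).mpr (hTE e he)
    exact he1 (by rw [← ha, hk.elim a 1, map_one])
  have hpow : ∀ t : T, t ^ 2 ^ k = 1 := fun t => by rw [← hk]; exact Monoid.pow_exponent_eq_one t
  letI : Module (ZMod (2 ^ k)) (Additive T) := AddCommGroup.zmodModule (fun x => by
    apply Additive.toMul.injective
    rw [toMul_nsmul, toMul_zero]
    exact hpow _)
  obtain ⟨t₁, ht₁⟩ : ∃ t : T, t ^ 2 ^ (k - 1) ≠ 1 := by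
    by_contra hcon
    push Not at hcon
    have h3 := Monoid.exponent_dvd_of_forall_pow_eq_one hcon
    rw [hk] at h3
    have h4 := Nat.le_of_dvd (by positivity) h3
    have h5 : 2 ^ (k - 1) < 2 ^ k := Nat.pow_lt_pow_right (by norm_num) (by omega)
    omega
  have hroot : ∀ e ∈ E, ∃ a : T, ι (a ^ 2 ^ (k - 1)) = e := by
    intro e he
    by_cases h1 : e = 1
    · exact ⟨1, by rw [one_pow, h1, map_one]⟩
    have h3 : ι (t₁ ^ 2 ^ (k - 1)) ∈ E := by
      apply hE.inv
      rw [← map_mul, ← pow_two, ← pow_mul, ← pow_succ, show k - 1 + 1 = k by omega, hpow, map_one]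
    obtain ⟨x, hx⟩ : ∃ x : G, x * ι (t₁ ^ 2 ^ (k - 1)) * x⁻¹ = e := by
      have h4 : ι (t₁ ^ 2 ^ (k - 1)) ≠ 1 := fun h => ht₁ (hinj (by rw [h, map_one]))
      -- choose second points
      have hsec : ∀ a ∈ E, a ≠ 1 → ∃ b ∈ E, b ≠ 1 ∧ b ≠ a := by
        intro a ha ha1
        by_contra hcon
        push Not at hcon
        have h1 : (E : Set G) ⊆ {1, a} := by
          intro x hx
          by_cases hx1 : x = 1
          · left; exact hx1
          · right; exact hcon x hx hx1
        have h3 := Set.ncard_le_ncard h1 (Set.toFinite _)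
        have h4 : (E : Set G).ncard = 8 := by rw [← h8]; rfl
        have h5 : ({1, a} : Set G).ncard ≤ 2 := by
          refine le_trans (Set.ncard_insert_le _ _) ?_
          rw [Set.ncard_singleton]
        omega
      obtain ⟨b, hb, hb1, hba⟩ := hsec _ h3 h4
      obtain ⟨b', hb', hb1', hba'⟩ := hsec _ he h1
      obtain ⟨x, hx, -⟩ := h2 _ h3 b hb e he b' hb' h4 hb1 (Ne.symm hba) h1 hb1' (Ne.symm hba')
      exact ⟨x, hx⟩
    refine ⟨c x t₁, ?_⟩
    rw [← hx, map_pow, map_pow, hc, conj_pow]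
  refine main_core hE h8 h2 (A := Additive T) (k := k) hk1 (fun a => ι (Additive.toMul a))
    (fun a b => by rw [toMul_add, map_mul]) (fun a b h => Additive.toMul.injective (hinj h))
    (fun x => ⟨?_, ?_⟩)
    (actOf (fun x => MonoidHom.toAdditive (c x)) (fun a => ?_) (fun x y a => ?_))
    (fun x a => ?_) (fun e he => ?_)
  · rintro ⟨a, rfl⟩
    exact (hι _).mp ⟨_, rfl⟩
  · intro hx
    obtain ⟨a, ha⟩ := (hι x).mpr hx
    exact ⟨Additive.ofMul a, ha⟩
  · apply Additive.toMul.injective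
    apply hinj
    change ι (c 1 (Additive.toMul a)) = _
    rw [hc]; group
  · apply Additive.toMul.injective
    apply hinj
    change ι (c (x * y) (Additive.toMul a)) = ι (c x (c y (Additive.toMul a)))
    rw [hc, hc, hc]; group
  · exact hc x _
  · obtain ⟨a, ha⟩ := hroot e he
    exact ⟨Additive.ofMul a, ha⟩

/-- **Piece B-AB.** -/
theorem b_ab [Finite G] (hE : Big E) (h8 : Nat.card E = 8) (h2 : TTr E)
    (hT : IsPGroup 2 (Subgroup.centralizer (E : Set G)))
    (hab : ∀ x ∈ Subgroup.centralizer (E : Set G), ∀ y ∈ Subgroup.centralizer (E : Set G),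
      x * y = y * x) : False := by
  haveI := hE.nor
  haveI hTn : (Subgroup.centralizer (E : Set G)).Normal := inferInstance
  letI : CommGroup (Subgroup.centralizer (E : Set G)) :=
    { (inferInstance : Group (Subgroup.centralizer (E : Set G))) with
      mul_comm := fun a b => Subtype.ext (hab a a.2 b b.2) }
  refine b_ab_aux hE h8 h2 (T := Subgroup.centralizer (E : Set G)) hT
    (Subgroup.centralizer (E : Set G)).subtype Subtype.val_injective (fun x => ⟨?_, ?_⟩)
    (fun x => (MulAut.conjNormal x : MulAut (Subgroup.centralizer (E : Set G))).toMonoidHom)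
    (fun x a => rfl)
  · rintro ⟨a, rfl⟩; exact a.2
  · intro hx; exact ⟨⟨x, hx⟩, rfl⟩

end Grp

end H29.PyrAB
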