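import Mathlib.GroupTheory.Sylow
import Mathlib.GroupTheory.PGroup
import Mathlib.Algebra.BigOperators.Group.Finset.Basic
import Mathlib.Tactic

/-! # Sylow numbers of subgroups containing a Sylow subgroup (S4181)

Elementary proof, by the "unfixable set" trick. -/

set_option autoImplicit false

namespace H29.SylNum

open scoped BigOperators Classical Pointwise

variable {G : Type*} [Group G]

/-- conjugate subgroup -/
def cj (g : G) (K : Subgroup G) : Subgroup G := K.map (MulAut.conj g).toMonoidHom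

theorem mem_cj {g x : G} {K : Subgroup G} : x ∈ cj g K ↔ g⁻¹ * x * g ∈ K := by
  unfold cj
  rw [Subgroup.mem_map]
  constructor
  · rintro ⟨y, hy, rfl⟩
    have : g⁻¹ * ((MulAut.conj g).toMonoidHom y) * g = y := by
      simp [MulAut.conj_apply]; group
    rw [this]; exact hy
  · intro h
    refine ⟨g⁻¹ * x * g, h, ?_⟩
    simp [MulAut.conj_apply]; group

theorem cj_one (K : Subgroup G) : cj 1 K = K := by
  ext x; rw [mem_cj]; simp

theorem cj_mul (g h : G) (K : Subgroup G) : cj (g * h) K = cj g (cj h K) := by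
  ext x; rw [mem_cj, mem_cj, mem_cj]
  have : (g * h)⁻¹ * x * (g * h) = h⁻¹ * (g⁻¹ * x * g) * h := by group
  rw [this]

theorem cj_inv_cj (g : G) (K : Subgroup G) : cj g⁻¹ (cj g K) = K := by
  rw [← cj_mul, inv_mul_cancel, cj_one]

theorem cj_cj_inv (g : G) (K : Subgroup G) : cj g (cj g⁻¹ K) = K := by
  rw [← cj_mul, mul_inv_cancel, cj_one]

theorem cj_mono {g : G} {K L : Subgroup G} (h : K ≤ L) : cj g K ≤ cj g L :=
  Subgroup.map_mono h

theorem cj_le_iff {g : G} {K L : Subgroup G} : cj g K ≤ cj g L ↔ K ≤ L := by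
  constructor
  · intro h
    have := cj_mono (g := g⁻¹) h
    rwa [cj_inv_cj, cj_inv_cj] at this
  · exact cj_mono

theorem cj_injective (g : G) : Function.Injective (cj g) := by
  intro K L h
  rw [← cj_inv_cj g K, h, cj_inv_cj]

theorem cj_inf (g : G) (K L : Subgroup G) : cj g (K ⊓ L) = cj g K ⊓ cj g L := by
  ext x; simp only [mem_cj, Subgroup.mem_inf]

theorem cj_of_mem {g : G} {K : Subgroup G} (h : g ∈ K) : cj g K = K := by
  ext x; rw [mem_cj]
  constructor
  · intro hx
    have := K.mul_mem (K.mul_mem h hx) (K.inv_mem h)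
    have h2 : g * (g⁻¹ * x * g) * g⁻¹ = x := by group
    rwa [h2] at this
  · intro hx
    exact K.mul_mem (K.mul_mem (K.inv_mem h) hx) h

theorem cj_index (g : G) (K : Subgroup G) : (cj g K).index = K.index :=
  Subgroup.index_map_equiv K (MulAut.conj g)

theorem cj_card (g : G) (K : Subgroup G) : Nat.card (cj g K) = Nat.card K :=
  (Nat.card_congr (K.equivMapOfInjective _ (MulAut.conj g).injective).toEquiv).symm

/-- subgroup generated by the `p`-elements -/
def res (p : ℕ) (K : Subgroup G) : Subgroup G :=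
  Subgroup.closure {g : G | g ∈ K ∧ ∃ k : ℕ, orderOf g = p ^ k}

variable (p : ℕ)

theorem res_le (K : Subgroup G) : res p K ≤ K := by
  unfold res
  rw [Subgroup.closure_le]
  exact fun g hg => hg.1

theorem res_mono {K L : Subgroup G} (h : K ≤ L) : res p K ≤ res p L :=
  Subgroup.closure_mono (fun _ hg => ⟨h hg.1, hg.2⟩)

theorem res_res (K : Subgroup G) : res p (res p K) = res p K := by
  apply le_antisymm (res_le p _)
  conv_lhs => rw [res]
  rw [Subgroup.closure_le]
  intro g hg
  exact Subgroup.subset_closure ⟨Subgroup.subset_closure hg, hg.2⟩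

theorem orderOf_conj (g x : G) : orderOf (g * x * g⁻¹) = orderOf x := by
  have := orderOf_injective (MulAut.conj g).toMonoidHom (MulAut.conj g).injective x
  simpa [MulAut.conj_apply] using this

theorem cj_res_le (g : G) (K : Subgroup G) : cj g (res p K) ≤ res p (cj g K) := by
  unfold cj
  rw [Subgroup.map_le_iff_le_comap]
  conv_lhs => rw [res]
  rw [Subgroup.closure_le]
  rintro x ⟨hx, k, hk⟩
  apply Subgroup.subset_closure
  refine ⟨Subgroup.mem_map_of_mem _ hx, k, ?_⟩
  have := orderOf_conj g x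
  simpa [MulAut.conj_apply, hk] using this

theorem cj_res (g : G) (K : Subgroup G) : cj g (res p K) = res p (cj g K) := by
  apply le_antisymm (cj_res_le p g K)
  have h := cj_res_le p g⁻¹ (cj g K)
  rw [cj_inv_cj] at h
  have := cj_mono (g := g) h
  rwa [cj_cj_inv] at this

variable [Finite G] [Fact p.Prime]

theorem mem_of_normalizes {K : Subgroup G} (hK : ¬ p ∣ K.index) {x : G} {k : ℕ} (hx : orderOf x = p ^ k)
    (hn : cj x K = K) : x ∈ K := by
  have hpp : p.Prime := Fact.out
  set N := Subgroup.normalizer (K : Set G) with hN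
  have hxN : x ∈ N := by
    rw [hN, Subgroup.mem_normalizer_iff]
    intro h
    constructor
    · intro hh
      have : x * h * x⁻¹ ∈ cj x K := by
        rw [mem_cj]
        have : x⁻¹ * (x * h * x⁻¹) * x = h := by group
        rw [this]; exact hh
      rwa [hn] at this
    · intro hh
      have hh' : x * h * x⁻¹ ∈ cj x K := by rw [hn]; exact hh
      rw [mem_cj] at hh'
      have : x⁻¹ * (x * h * x⁻¹) * x = h := by group
      rwa [this] at hh'
  have hnorm : (K.subgroupOf N).Normal := by rw [hN]; infer_instance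
  let xb : N ⧸ K.subgroupOf N := QuotientGroup.mk (⟨x, hxN⟩ : N)
  have h1 : orderOf xb ∣ p ^ k := by
    apply orderOf_dvd_of_pow_eq_one
    change (QuotientGroup.mk ((⟨x, hxN⟩ : N) ^ (p ^ k)) : N ⧸ K.subgroupOf N) = 1
    have : (⟨x, hxN⟩ : N) ^ (p ^ k) = 1 := Subtype.ext (by
      rw [← hx]; simp [pow_orderOf_eq_one x])
    rw [this]; rfl
  have h2 : orderOf xb ∣ K.index := by
    have h3 : orderOf xb ∣ Nat.card (N ⧸ K.subgroupOf N) := orderOf_dvd_natCard xb
    have h4 : Nat.card (N ⧸ K.subgroupOf N) = K.relIndex N := rfl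
    rw [h4] at h3
    exact h3.trans (Subgroup.relIndex_dvd_index_of_le Subgroup.le_normalizer)
  have h3 : Nat.Coprime (p ^ k) K.index := Nat.Coprime.pow_left k ((Nat.Prime.coprime_iff_not_dvd hpp).mpr hK)
  have h4 : orderOf xb = 1 := Nat.eq_one_of_dvd_coprimes h3 h1 h2
  rw [orderOf_eq_one_iff, QuotientGroup.eq_one_iff] at h4
  exact Subgroup.mem_subgroupOf.mp h4

theorem sylow_le_of_normalizes {K : Subgroup G} (hK : ¬ p ∣ K.index) (Q : Sylow p G)
    (hn : ∀ x ∈ (Q : Subgroup G), cj x K = K) : (Q : Subgroup G) ≤ K := by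
  intro x hx
  obtain ⟨k, hk⟩ := IsPGroup.iff_orderOf.mp Q.isPGroup' ⟨x, hx⟩
  rw [Subgroup.orderOf_mk] at hk
  exact mem_of_normalizes p hK hk (hn x hx)

theorem sylow_le_res {K : Subgroup G} (Q : Sylow p G) : (Q : Subgroup G) ≤ res p K ↔ (Q : Subgroup G) ≤ K := by
  constructor
  · exact fun h => h.trans (res_le p K)
  · intro h x hx
    obtain ⟨k, hk⟩ := IsPGroup.iff_orderOf.mp Q.isPGroup' ⟨x, hx⟩
    rw [Subgroup.orderOf_mk] at hk
    exact Subgroup.subset_closure ⟨h hx, k, hk⟩

theorem exists_sylow_le {K : Subgroup G} (hK : ¬ p ∣ K.index) : ∃ Q : Sylow p G, (Q : Subgroup G) ≤ K := by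
  have hpp : p.Prime := Fact.out
  obtain ⟨P⟩ := (inferInstance : Nonempty (Sylow p K))
  have hQp : IsPGroup p ((P : Subgroup K).map K.subtype) := P.isPGroup'.map K.subtype
  have hQi : ¬ p ∣ ((P : Subgroup K).map K.subtype).index := by
    rw [Subgroup.index_map_subtype, hpp.dvd_mul]
    rintro (h | h)
    · exact P.not_dvd_index h
    · exact hK h
  exact ⟨hQp.toSylow hQi, Subgroup.map_subtype_le _⟩

theorem not_dvd_of_sylow_le {K : Subgroup G} (Q : Sylow p G) (h : (Q : Subgroup G) ≤ K) : ¬ p ∣ K.index := by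
  intro hd
  exact Q.not_dvd_index (hd.trans (Subgroup.index_dvd_of_le h))

theorem res_index {K : Subgroup G} (hK : ¬ p ∣ K.index) : ¬ p ∣ (res p K).index := by
  obtain ⟨Q, hQ⟩ := exists_sylow_le p hK
  exact not_dvd_of_sylow_le p Q ((sylow_le_res p Q).mpr hQ)

/-- two Sylow subgroups of `G` inside `N` are conjugate in `N` -/
theorem exists_conj {N : Subgroup G} (P Q : Sylow p G) (hP : (P : Subgroup G) ≤ N) (hQ : (Q : Subgroup G) ≤ N) :
    ∃ n ∈ N, cj n (P : Subgroup G) = Q := by
  obtain ⟨n, hn⟩ := MulAction.exists_smul_eq N (P.subtype hP) (Q.subtype hQ)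
  refine ⟨n, n.2, ?_⟩
  have hco : ((Q.subtype hQ : Sylow p N) : Subgroup N) = MulAut.conj n • ((P.subtype hP : Sylow p N) : Subgroup N) := by
    rw [← hn]; exact Sylow.coe_subgroup_smul
  have key : ∀ x : N, (x : G) ∈ (Q : Subgroup G) ↔ (n : G)⁻¹ * x * n ∈ (P : Subgroup G) := by
    intro x
    have h1 : x ∈ ((Q.subtype hQ : Sylow p N) : Subgroup N) ↔ x ∈ MulAut.conj n • ((P.subtype hP : Sylow p N) : Subgroup N) := by
      rw [hco]
    rw [Subgroup.mem_pointwise_smul_iff_inv_smul_mem, Sylow.coe_subtype, Sylow.coe_subtype, Subgroup.mem_subgroupOf,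
      Subgroup.mem_subgroupOf] at h1
    simpa [MulAut.smul_def] using h1
  ext x
  constructor
  · intro hx
    rw [mem_cj] at hx
    have hxN : x ∈ N := by
      have h1 := N.mul_mem (N.mul_mem n.2 (hP hx)) (N.inv_mem n.2)
      have h2 : (n : G) * ((n : G)⁻¹ * x * n) * (n : G)⁻¹ = x := by group
      rwa [h2] at h1
    exact (key ⟨x, hxN⟩).mpr hx
  · intro hx
    rw [mem_cj]
    exact (key ⟨x, hQ hx⟩).mp hx

noncomputable local instance instFintypeSub : Fintype (Subgroup G) := Fintype.ofFinite _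

/-- the local weight -/
noncomputable def c (P : Sylow p G) (K : Subgroup G) : ℤ :=
  ((p : ℤ) - 1) - (if (P : Subgroup G) ≤ K then (2 * (p : ℤ) - 1) else 0)

theorem c_of_le {P : Sylow p G} {K : Subgroup G} (h : (P : Subgroup G) ≤ K) : c p P K = -(p : ℤ) := by
  unfold c; rw [if_pos h]; ring

theorem c_of_not_le {P : Sylow p G} {K : Subgroup G} (h : ¬ (P : Subgroup G) ≤ K) : c p P K = (p : ℤ) - 1 := by
  unfold c; rw [if_neg h]; ring

theorem c_congr {P : Sylow p G} {K L : Subgroup G} (h : (P : Subgroup G) ≤ K ↔ (P : Subgroup G) ≤ L) :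
    c p P K = c p P L := by
  unfold c; simp only [h]

theorem c_cj {P Q : Sylow p G} {n : G} (h : cj n (P : Subgroup G) = Q) (K : Subgroup G) :
    c p Q (cj n K) = c p P K := by
  unfold c
  rw [← h, cj_le_iff]

/-- good subgroups of `N` -/
def Good (N K : Subgroup G) : Prop := K ≤ N ∧ K ≠ N ∧ res p K = K ∧ ¬ p ∣ K.index

def Claim (N : Subgroup G) : Prop :=
  ∀ w : Subgroup G → ℕ, (∀ K, w K ≠ 0 → Good p N K) → (∀ n ∈ N, ∀ K, w (cj n K) = w K) →
    ∀ P : Sylow p G, (P : Subgroup G) ≤ N →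
      (0 ≤ ∑ K : Subgroup G, (w K : ℤ) * c p P K) ∧
      ∀ B : Finset (Subgroup G), (∀ K ∈ B, w K ≠ 0) → (∀ Q : Sylow p G, ∃ K ∈ B, ¬ (Q : Subgroup G) ≤ K) →
        ∀ r : ℕ, B.card ≤ r → r ≤ p → (p : ℤ) * ((p : ℤ) - r) ≤ ∑ K : Subgroup G, (w K : ℤ) * c p P K

theorem dvd_card_of_no_fix (P : Sylow p G) (T : Finset (Subgroup G))
    (hcl : ∀ x ∈ (P : Subgroup G), ∀ K ∈ T, cj x K ∈ T)
    (hno : ∀ K ∈ T, ¬ ∀ x ∈ (P : Subgroup G), cj x K = K) : p ∣ T.card := by
  let act : MulAction (P : Subgroup G) T :=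
    { smul := fun x K => ⟨cj (x : G) K.1, hcl x x.2 K.1 K.2⟩
      one_smul := fun K => Subtype.ext (cj_one K.1)
      mul_smul := fun x y K => Subtype.ext (cj_mul (x : G) y K.1) }
  have h1 := IsPGroup.card_modEq_card_fixedPoints (p := p) P.isPGroup' T
  have h2 : IsEmpty (MulAction.fixedPoints (P : Subgroup G) T) := by
    constructor
    rintro ⟨K, hK⟩
    apply hno K.1 K.2
    intro x hx
    have := hK ⟨x, hx⟩
    exact congrArg Subtype.val this
  have h3 : Nat.card (MulAction.fixedPoints (P : Subgroup G) T) = 0 := Nat.card_of_isEmpty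
  rw [h3] at h1
  have h4 : Nat.card T = T.card := by rw [Nat.card_eq_fintype_card, Fintype.card_coe]
  rw [h4] at h1
  exact (Nat.modEq_zero_iff_dvd).mp h1

theorem key {N : Subgroup G} (IH : ∀ M, Good p N M → Claim p M) (S : Finset (Subgroup G))
    (hgood : ∀ K ∈ S, Good p N K) (hcl : ∀ n ∈ N, ∀ K ∈ S, cj n K ∈ S)
    {M : Subgroup G} (hM : M ∈ S) (hmax : ∀ K ∈ S, M ≤ K → K = M)
    (B : Finset (Subgroup G)) (hBS : B ⊆ S) (hMB : M ∈ B)
    (hB : ∀ Q : Sylow p G, ∃ K ∈ B, ¬ (Q : Subgroup G) ≤ K) (r : ℕ) (hr : B.card ≤ r) (hrp : r ≤ p)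
    (P : Sylow p G) (hP : (P : Subgroup G) ≤ M) :
    (p : ℤ) * ((p : ℤ) - r) ≤ ∑ K ∈ S, c p P K := by
  have hpp : p.Prime := Fact.out
  have hp2 : (2 : ℤ) ≤ p := by exact_mod_cast hpp.two_le
  have hMg := hgood M hM
  set S1 := (S.erase M).filter (fun K => ¬ p ∣ (M ⊓ K).index) with hS1
  set S2 := (S.erase M).filter (fun K => ¬ ¬ p ∣ (M ⊓ K).index) with hS2
  have hMN : M ≤ N := hMg.1
  -- decomposition
  have hdec : ∑ K ∈ S, c p P K = c p P M + (∑ K ∈ S1, c p P K + ∑ K ∈ S2, c p P K) := by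
    rw [hS1, hS2, Finset.sum_filter_add_sum_filter_not, Finset.add_sum_erase _ _ hM]
  have hcM : c p P M = -(p : ℤ) := c_of_le p hP
  -- S2
  have hS2c : ∀ K ∈ S2, ¬ (P : Subgroup G) ≤ K := by
    intro K hK h
    rw [hS2, Finset.mem_filter] at hK
    exact hK.2 (not_dvd_of_sylow_le p P (le_inf hP h))
  have hS2s : ∑ K ∈ S2, c p P K = (S2.card : ℤ) * ((p : ℤ) - 1) := by
    rw [Finset.sum_congr rfl (fun K hK => c_of_not_le p (hS2c K hK)), Finset.sum_const, nsmul_eq_mul]
  have hMcl : ∀ x ∈ M, ∀ K ∈ S.erase M, cj x K ∈ S.erase M := by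
    intro x hx K hK
    rw [Finset.mem_erase] at hK ⊢
    refine ⟨fun h => hK.1 ?_, hcl x (hMN hx) K hK.2⟩
    apply cj_injective x
    rw [h, cj_of_mem hx]
  have hind : ∀ x ∈ M, ∀ K, (M ⊓ cj x K).index = (M ⊓ K).index := by
    intro x hx K
    rw [← cj_index x (M ⊓ K), cj_inf, cj_of_mem hx]
  have hS2d : p ∣ S2.card := by
    apply dvd_card_of_no_fix p P
    · intro x hx K hK
      rw [hS2, Finset.mem_filter] at hK ⊢
      refine ⟨hMcl x (hP hx) K hK.1, ?_⟩
      rw [hind x (hP hx)]; exact hK.2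
    · intro K hK hfix
      have hKS : K ∈ S := by
        rw [hS2, Finset.mem_filter] at hK; exact Finset.mem_of_mem_erase hK.1
      exact hS2c K hK (sylow_le_of_normalizes p (hgood K hKS).2.2.2 P hfix)
  -- S1
  let φ : Subgroup G → Subgroup G := fun K => res p (M ⊓ K)
  let w1 : Subgroup G → ℕ := fun L => (S1.filter (fun K => φ K = L)).card
  have hφP : ∀ K, (P : Subgroup G) ≤ K ↔ (P : Subgroup G) ≤ φ K := by
    intro K
    rw [sylow_le_res]
    exact ⟨fun h => le_inf hP h, fun h => h.trans inf_le_right⟩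
  have hS1s : ∑ K ∈ S1, c p P K = ∑ L : Subgroup G, (w1 L : ℤ) * c p P L := by
    rw [← Finset.sum_fiberwise S1 φ (fun K => c p P K)]
    apply Finset.sum_congr rfl
    intro L _
    rw [Finset.sum_congr rfl (g := fun _ => c p P L), Finset.sum_const, nsmul_eq_mul]
    intro K hK
    rw [Finset.mem_filter] at hK
    rw [← hK.2]
    exact c_congr p (hφP K)
  have hφgood : ∀ K ∈ S1, Good p M (φ K) := by
    intro K hK
    rw [hS1, Finset.mem_filter, Finset.mem_erase] at hK
    refine ⟨(res_le p _).trans inf_le_left, ?_, res_res p _, res_index p hK.2⟩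
    intro h
    have h1 : M ≤ K := by
      rw [← h]; exact (res_le p _).trans inf_le_right
    exact hK.1.1 (hmax K hK.1.2 h1)
  have hcl1 := IH M hMg w1 (by
    intro L hL
    obtain ⟨K, hK⟩ := Finset.card_ne_zero.mp hL
    rw [Finset.mem_filter] at hK
    rw [← hK.2]; exact hφgood K hK.1) (by
    intro n hn L
    show (S1.filter (fun K => φ K = cj n L)).card = (S1.filter (fun K => φ K = L)).card
    symm
    apply Finset.card_bij (fun K _ => cj n K)
    · intro K hK
      rw [Finset.mem_filter] at hK ⊢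
      have hK1 := hK.1
      rw [hS1, Finset.mem_filter] at hK1 ⊢
      refine ⟨⟨hMcl n hn K hK1.1, ?_⟩, ?_⟩
      · rw [hind n hn]; exact hK1.2
      · show res p (M ⊓ cj n K) = cj n L
        rw [← hK.2]
        show res p (M ⊓ cj n K) = cj n (res p (M ⊓ K))
        rw [cj_res, cj_inf, cj_of_mem hn]
    · intro K _ K' _ h
      exact cj_injective n h
    · intro K hK
      rw [Finset.mem_filter] at hK
      have hK1 := hK.1
      rw [hS1, Finset.mem_filter] at hK1
      refine ⟨cj n⁻¹ K, ?_, cj_cj_inv n K⟩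
      rw [Finset.mem_filter, hS1, Finset.mem_filter]
      refine ⟨⟨hMcl _ (M.inv_mem hn) K hK1.1, ?_⟩, ?_⟩
      · rw [hind _ (M.inv_mem hn)]; exact hK1.2
      · show res p (M ⊓ cj n⁻¹ K) = L
        have h2 : res p (M ⊓ K) = cj n L := hK.2
        apply cj_injective n
        rw [← h2, cj_res, cj_inf, cj_of_mem hn, cj_cj_inv]) P hP
  -- an element of B other than M
  obtain ⟨K0, hK0B, hK0⟩ := hB P
  have hK0M : K0 ≠ M := by rintro rfl; exact hK0 hP
  have hr2 : 2 ≤ r := by
    refine le_trans ?_ hr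
    have h1 : ({M, K0} : Finset (Subgroup G)) ⊆ B := by
      intro K hK
      rw [Finset.mem_insert, Finset.mem_singleton] at hK
      rcases hK with rfl | rfl
      · exact hMB
      · exact hK0B
    have h2 := Finset.card_le_card h1
    rwa [Finset.card_pair hK0M.symm] at h2
  rw [hdec, hcM, hS1s, hS2s]
  by_cases hS2e : S2 = ∅
  · -- everything in S1
    have hBS1 : ∀ K ∈ B, K ≠ M → K ∈ S1 := by
      intro K hK hne
      have h1 : K ∈ S.erase M := Finset.mem_erase.mpr ⟨hne, hBS hK⟩
      by_contra h2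
      have h3 : K ∈ S2 := by
        rw [hS2, Finset.mem_filter]
        refine ⟨h1, fun h4 => h2 ?_⟩
        rw [hS1, Finset.mem_filter]
        exact ⟨h1, h4⟩
      rw [hS2e] at h3
      exact absurd h3 (Finset.notMem_empty K)
    have h1 := hcl1.2 ((B.erase M).image φ) (by
      intro L hL
      obtain ⟨K, hK, rfl⟩ := Finset.mem_image.mp hL
      rw [Finset.mem_erase] at hK
      apply Finset.card_ne_zero.mpr
      exact ⟨K, Finset.mem_filter.mpr ⟨hBS1 K hK.2 hK.1, rfl⟩⟩) (by
      intro Q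
      by_cases hQM : (Q : Subgroup G) ≤ M
      · obtain ⟨K, hK, hQK⟩ := hB Q
        have hKM : K ≠ M := by rintro rfl; exact hQK hQM
        refine ⟨φ K, Finset.mem_image_of_mem φ (Finset.mem_erase.mpr ⟨hKM, hK⟩), ?_⟩
        intro h
        exact hQK (h.trans ((res_le p _).trans inf_le_right))
      · refine ⟨φ K0, Finset.mem_image_of_mem φ (Finset.mem_erase.mpr ⟨hK0M, hK0B⟩), ?_⟩
        intro h
        exact hQM (h.trans ((res_le p _).trans inf_le_left))) (r - 1) (by
      refine Finset.card_image_le.trans ?_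
      rw [Finset.card_erase_of_mem hMB]
      omega) (by omega)
    rw [hS2e, Finset.card_empty]
    have h2 : ((r - 1 : ℕ) : ℤ) = (r : ℤ) - 1 := by
      rw [Nat.cast_sub (by omega)]; simp
    rw [h2] at h1
    push_cast
    nlinarith [h1]
  · have h1 : (p : ℤ) ≤ (S2.card : ℤ) := by
      have : p ≤ S2.card := Nat.le_of_dvd (Finset.card_pos.mpr (Finset.nonempty_iff_ne_empty.mpr hS2e)) hS2d
      exact_mod_cast this
    have h2 := hcl1.1
    have h3 : (2 : ℤ) ≤ r := by exact_mod_cast hr2
    nlinarith [mul_le_mul_of_nonneg_right h1 (by linarith : (0 : ℤ) ≤ (p : ℤ) - 1), mul_le_mul_of_nonneg_left h3 (by linarith : (0 : ℤ) ≤ (p : ℤ))]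

/-- the `N`-conjugacy closure of a set of subgroups -/
noncomputable def cls (N : Subgroup G) (B : Finset (Subgroup G)) : Finset (Subgroup G) :=
  Finset.univ.filter (fun L => ∃ K ∈ B, ∃ n ∈ N, cj n K = L)

theorem mem_cls {N : Subgroup G} {B : Finset (Subgroup G)} {L : Subgroup G} :
    L ∈ cls N B ↔ ∃ K ∈ B, ∃ n ∈ N, cj n K = L := by
  unfold cls; simp

theorem subset_cls {N : Subgroup G} {B : Finset (Subgroup G)} : B ⊆ cls N B := by
  intro K hK
  rw [mem_cls]
  exact ⟨K, hK, 1, N.one_mem, cj_one K⟩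

theorem cls_closed {N : Subgroup G} {B : Finset (Subgroup G)} {n : G} (hn : n ∈ N) {K : Subgroup G}
    (hK : K ∈ cls N B) : cj n K ∈ cls N B := by
  rw [mem_cls] at hK ⊢
  obtain ⟨L, hL, m, hm, rfl⟩ := hK
  exact ⟨L, hL, n * m, N.mul_mem hn hm, cj_mul n m L⟩

theorem cls_closed_iff {N : Subgroup G} {B : Finset (Subgroup G)} {n : G} (hn : n ∈ N) {K : Subgroup G} :
    cj n K ∈ cls N B ↔ K ∈ cls N B := by
  constructor
  · intro h
    have := cls_closed (N.inv_mem hn) h
    rwa [cj_inv_cj] at this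
  · exact cls_closed hn

theorem good_cj {N K : Subgroup G} {n : G} (hn : n ∈ N) (h : Good p N K) : Good p N (cj n K) := by
  obtain ⟨h1, h2, h3, h4⟩ := h
  refine ⟨?_, ?_, ?_, ?_⟩
  · rw [← cj_of_mem hn]; exact cj_mono h1
  · intro h
    apply h2
    apply cj_injective n
    rw [h, cj_of_mem hn]
  · rw [← cj_res, h3]
  · rw [cj_index]; exact h4

theorem exists_unfix {N M : Subgroup G} (hN : res p N = N) (hM : Good p N M) :
    ∃ B : Finset (Subgroup G), M ∈ B ∧ B ⊆ cls N {M} ∧ B.card ≤ p ∧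
      ∀ Q : Sylow p G, ∃ K ∈ B, ¬ (Q : Subgroup G) ≤ K := by
  have hpp : p.Prime := Fact.out
  obtain ⟨hMN, hMne, hMr, hMi⟩ := hM
  -- a p-element moving M
  obtain ⟨x, hxN, ⟨k, hk⟩, hxM⟩ : ∃ x ∈ N, (∃ k : ℕ, orderOf x = p ^ k) ∧ cj x M ≠ M := by
    by_contra hcon
    push Not at hcon
    apply hMne
    apply le_antisymm hMN
    rw [← hN]
    unfold res
    rw [Subgroup.closure_le]
    rintro x ⟨hx, k, hk⟩
    exact mem_of_normalizes p hMi hk (hcon x hx ⟨k, hk⟩)
  have hex : ∃ i : ℕ, cj (x ^ (p ^ i)) M = M := ⟨k, by rw [← hk, pow_orderOf_eq_one, cj_one]⟩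
  have hspec := Nat.find_spec hex
  have hpos : Nat.find hex ≠ 0 := by
    intro h0
    rw [h0, pow_zero, pow_one] at hspec
    exact hxM hspec
  set i := Nat.find hex with hi
  have hmin : cj (x ^ (p ^ (i - 1))) M ≠ M := Nat.find_min hex (by omega)
  set y := x ^ (p ^ (i - 1)) with hy
  have hyp : cj (y ^ p) M = M := by
    rw [hy, ← pow_mul, ← pow_succ, Nat.sub_add_cancel (by omega)]; exact hspec
  have hyN : y ∈ N := N.pow_mem hxN _
  obtain ⟨l, hl⟩ : ∃ l : ℕ, orderOf y = p ^ l := by
    have h1 : orderOf y ∣ p ^ k := by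
      rw [← hk]; exact orderOf_pow_dvd _
    obtain ⟨l, _, hl⟩ := (Nat.dvd_prime_pow hpp).mp h1
    exact ⟨l, hl⟩
  have hmod : ∀ j : ℕ, cj (y ^ j) M = cj (y ^ (j % p)) M := by
    intro j
    conv_lhs => rw [← Nat.mod_add_div j p]
    rw [pow_add, cj_mul, pow_mul]
    congr 1
    generalize j / p = q
    induction q with
    | zero => rw [pow_zero, cj_one]
    | succ q ih => rw [pow_succ, cj_mul, hyp, ih]
  refine ⟨(Finset.range p).image (fun j => cj (y ^ j) M), ?_, ?_, ?_, ?_⟩
  · rw [Finset.mem_image]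
    exact ⟨0, Finset.mem_range.mpr hpp.pos, by rw [pow_zero, cj_one]⟩
  · intro K hK
    rw [Finset.mem_image] at hK
    obtain ⟨j, _, rfl⟩ := hK
    rw [mem_cls]
    exact ⟨M, Finset.mem_singleton_self M, y ^ j, N.pow_mem hyN j, rfl⟩
  · refine Finset.card_image_le.trans ?_
    rw [Finset.card_range]
  · intro Q
    by_contra hcon
    push Not at hcon
    have hQ : ∀ j : ℕ, (Q : Subgroup G) ≤ cj (y ^ j) M := by
      intro j
      rw [hmod]
      exact hcon _ (Finset.mem_image.mpr ⟨j % p, Finset.mem_range.mpr (Nat.mod_lt _ hpp.pos), rfl⟩)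
    let D : Subgroup G := ⨅ z : Subgroup.zpowers y, cj (z : G) M
    have hD : ∀ g, g ∈ D ↔ ∀ z ∈ Subgroup.zpowers y, z⁻¹ * g * z ∈ M := by
      intro g
      simp only [D, Subgroup.mem_iInf, mem_cj]
      constructor
      · intro h z hz; exact h ⟨z, hz⟩
      · intro h z; exact h z z.2
    have hQD : (Q : Subgroup G) ≤ D := by
      intro g hg
      rw [hD]
      intro z hz
      rw [mem_zpowers_iff_mem_range_orderOf, Finset.mem_image] at hz
      obtain ⟨j, _, rfl⟩ := hz
      exact mem_cj.mp (hQ j hg)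
    have hyD : y ∈ D := by
      apply mem_of_normalizes p (not_dvd_of_sylow_le p Q hQD) hl
      ext g
      rw [mem_cj, hD, hD]
      constructor
      · intro h z hz
        have h1 := h (y⁻¹ * z) (Subgroup.mul_mem _ (Subgroup.inv_mem _ (Subgroup.mem_zpowers y)) hz)
        have h2 : (y⁻¹ * z)⁻¹ * (y⁻¹ * g * y) * (y⁻¹ * z) = z⁻¹ * g * z := by group
        rwa [h2] at h1
      · intro h z hz
        have h1 := h (y * z) (Subgroup.mul_mem _ (Subgroup.mem_zpowers y) hz)
        have h2 : (y * z)⁻¹ * g * (y * z) = z⁻¹ * (y⁻¹ * g * y) * z := by group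
        rwa [h2] at h1
    have hyM : y ∈ M := by
      have := (hD y).mp hyD 1 (Subgroup.one_mem _)
      simpa using this
    exact hmin (cj_of_mem hyM)

theorem sum_indep {N : Subgroup G} (S : Finset (Subgroup G)) (hcl : ∀ n ∈ N, ∀ K ∈ S, cj n K ∈ S)
    (P Q : Sylow p G) (hP : (P : Subgroup G) ≤ N) (hQ : (Q : Subgroup G) ≤ N) :
    ∑ K ∈ S, c p P K = ∑ K ∈ S, c p Q K := by
  obtain ⟨n, hn, hnP⟩ := exists_conj p P Q hP hQ
  apply Finset.sum_bij (fun K _ => cj n K)
  · intro K hK; exact hcl n hn K hK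
  · intro K _ L _ h; exact cj_injective n h
  · intro K hK
    exact ⟨cj n⁻¹ K, hcl _ (N.inv_mem hn) K hK, cj_cj_inv n K⟩
  · intro K _
    rw [c_cj p hnP]

theorem class_nonneg {N : Subgroup G} (IH : ∀ M, Good p N M → Claim p M) (hN : res p N = N)
    {M : Subgroup G} (hM : Good p N M) (P : Sylow p G) (hP : (P : Subgroup G) ≤ N) :
    0 ≤ ∑ K ∈ cls N {M}, c p P K := by
  obtain ⟨B, hMB, hBS, hBc, hB⟩ := exists_unfix p hN hM
  obtain ⟨Q, hQ⟩ := exists_sylow_le p hM.2.2.2
  have hcl : ∀ n ∈ N, ∀ K ∈ cls N {M}, cj n K ∈ cls N {M} := fun n hn K hK => cls_closed hn hK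
  rw [sum_indep p _ hcl P Q hP (hQ.trans hM.1)]
  have h1 := key p IH (cls N {M}) (by
      intro K hK
      rw [mem_cls] at hK
      obtain ⟨L, hL, n, hn, rfl⟩ := hK
      rw [Finset.mem_singleton] at hL
      rw [hL]; exact good_cj p hn hM) hcl (hBS hMB) (by
      intro K hK hMK
      rw [mem_cls] at hK
      obtain ⟨L, hL, n, hn, rfl⟩ := hK
      rw [Finset.mem_singleton] at hL
      rw [hL] at hMK ⊢
      exact (Subgroup.eq_of_le_of_card_ge hMK (cj_card n M).le).symm) B hBS hMB hB p hBc le_rfl Q hQ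
  simpa using h1

theorem weight_nonneg {N : Subgroup G} (IH : ∀ M, Good p N M → Claim p M) (hN : res p N = N)
    (P : Sylow p G) (hP : (P : Subgroup G) ≤ N) :
    ∀ m : ℕ, ∀ w : Subgroup G → ℕ, ∑ K : Subgroup G, w K = m → (∀ K, w K ≠ 0 → Good p N K) →
      (∀ n ∈ N, ∀ K, w (cj n K) = w K) → 0 ≤ ∑ K : Subgroup G, (w K : ℤ) * c p P K := by
  intro m
  induction m using Nat.strong_induction_on with
  | _ m ih =>
    intro w hw hgood hinv
    by_cases h0 : ∀ K, w K = 0
    · apply le_of_eq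
      symm
      apply Finset.sum_eq_zero
      intro K _
      rw [h0 K]; simp
    · push Not at h0
      obtain ⟨K0, hK0⟩ := h0
      set S := cls N {K0} with hS
      have hwS : ∀ K ∈ S, w K = w K0 := by
        intro K hK
        rw [hS, mem_cls] at hK
        obtain ⟨L, hL, n, hn, rfl⟩ := hK
        rw [Finset.mem_singleton] at hL
        rw [hL, hinv n hn]
      let w' : Subgroup G → ℕ := fun K => if K ∈ S then w K - 1 else w K
      have hw'w : ∀ K, w K = w' K + (if K ∈ S then 1 else 0) := by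
        intro K
        by_cases hK : K ∈ S
        · simp only [w', if_pos hK]
          have := hwS K hK
          omega
        · simp only [w', if_neg hK, add_zero]
      have hsum : ∑ K : Subgroup G, w K = ∑ K : Subgroup G, w' K + S.card := by
        rw [Finset.sum_congr rfl (fun K _ => hw'w K), Finset.sum_add_distrib]
        congr 1
        rw [Finset.sum_ite_mem, Finset.univ_inter, Finset.sum_const, smul_eq_mul, mul_one]
      have hSpos : 0 < S.card := Finset.card_pos.mpr ⟨K0, subset_cls (Finset.mem_singleton_self K0)⟩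
      have h1 := ih (∑ K : Subgroup G, w' K) (by omega) w' rfl (by
        intro K hK
        apply hgood K
        intro h
        apply hK
        have := hw'w K
        omega) (by
        intro n hn K
        have h2 : cj n K ∈ S ↔ K ∈ S := cls_closed_iff hn
        simp only [w', h2, hinv n hn K])
      have h2 : ∑ K : Subgroup G, (w K : ℤ) * c p P K =
          ∑ K : Subgroup G, (w' K : ℤ) * c p P K + ∑ K ∈ S, c p P K := by
        rw [show ∑ K ∈ S, c p P K = ∑ K : Subgroup G, (if K ∈ S then c p P K else 0) by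
          rw [Finset.sum_ite_mem, Finset.univ_inter], ← Finset.sum_add_distrib]
        apply Finset.sum_congr rfl
        intro K _
        rw [hw'w K]
        by_cases hK : K ∈ S
        · simp only [if_pos hK]; push_cast; ring
        · simp only [if_neg hK]; push_cast; ring
      rw [h2]
      have h3 := class_nonneg p IH hN (hgood K0 hK0) P hP
      rw [← hS] at h3
      linarith

theorem claim_of_res : ∀ m : ℕ, ∀ N : Subgroup G, Nat.card N = m → res p N = N → Claim p N := by
  intro m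
  induction m using Nat.strong_induction_on with
  | _ m ih =>
    intro N hNm hN w hgood hinv P hP
    have IH : ∀ M, Good p N M → Claim p M := by
      intro M hM
      apply ih (Nat.card M) _ M rfl hM.2.2.1
      rw [← hNm]
      by_contra h
      push Not at h
      exact hM.2.1 (Subgroup.eq_of_le_of_card_ge hM.1 h)
    refine ⟨weight_nonneg p IH hN P hP _ w rfl hgood hinv, ?_⟩
    intro B hwB hB r hr hrp
    have hBne : B.Nonempty := by
      obtain ⟨K, hK, _⟩ := hB P
      exact ⟨K, hK⟩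
    obtain ⟨M, hMB, hMmax⟩ := Finset.exists_max_image B (fun K => Nat.card K) hBne
    have hMg : Good p N M := hgood M (hwB M hMB)
    set S := cls N B with hS
    have hwS : ∀ K ∈ S, w K ≠ 0 := by
      intro K hK
      rw [hS, mem_cls] at hK
      obtain ⟨L, hL, n, hn, rfl⟩ := hK
      rw [hinv n hn]
      exact hwB L hL
    let w' : Subgroup G → ℕ := fun K => if K ∈ S then w K - 1 else w K
    have hw'w : ∀ K, w K = w' K + (if K ∈ S then 1 else 0) := by
      intro K
      by_cases hK : K ∈ S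
      · simp only [w', if_pos hK]
        have := hwS K hK
        omega
      · simp only [w', if_neg hK, add_zero]
    have h1 := weight_nonneg p IH hN P hP _ w' rfl (by
        intro K hK
        apply hgood K
        intro h
        apply hK
        have := hw'w K
        omega) (by
        intro n hn K
        have h2 : cj n K ∈ S ↔ K ∈ S := cls_closed_iff hn
        simp only [w', h2, hinv n hn K])
    have h2 : ∑ K : Subgroup G, (w K : ℤ) * c p P K =
          ∑ K : Subgroup G, (w' K : ℤ) * c p P K + ∑ K ∈ S, c p P K := by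
      rw [show ∑ K ∈ S, c p P K = ∑ K : Subgroup G, (if K ∈ S then c p P K else 0) by
        rw [Finset.sum_ite_mem, Finset.univ_inter], ← Finset.sum_add_distrib]
      apply Finset.sum_congr rfl
      intro K _
      rw [hw'w K]
      by_cases hK : K ∈ S
      · simp only [if_pos hK]; push_cast; ring
      · simp only [if_neg hK]; push_cast; ring
    obtain ⟨Q, hQ⟩ := exists_sylow_le p hMg.2.2.2
    have hcl : ∀ n ∈ N, ∀ K ∈ S, cj n K ∈ S := fun n hn K hK => cls_closed hn hK
    have h3 := key p IH S (fun K hK => hgood K (hwS K hK)) hcl (subset_cls hMB) (by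
      intro K hK hMK
      rw [hS, mem_cls] at hK
      obtain ⟨L, hL, n, hn, rfl⟩ := hK
      refine (Subgroup.eq_of_le_of_card_ge hMK ?_).symm
      rw [cj_card]
      exact hMmax L hL) B subset_cls hMB hB r hr hrp Q hQ
    rw [sum_indep p S hcl Q P (hQ.trans hMg.1) hP] at h3
    rw [h2]
    linarith

/-- **Sylow numbers**: if `G` is generated by its `p`-elements and `M < G` is generated by its
`p`-elements and contains a Sylow `p`-subgroup, then `(2p-1) ν(M) ≤ (p-1) ν(G)`. -/
theorem sylow_count (hG : res p (⊤ : Subgroup G) = ⊤) {M : Subgroup G} (hM : Good p ⊤ M) :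
    (2 * (p : ℤ) - 1) * (Nat.card {Q : Sylow p G // (Q : Subgroup G) ≤ M} : ℤ) ≤
      ((p : ℤ) - 1) * (Nat.card (Sylow p G) : ℤ) := by
  set S := cls (⊤ : Subgroup G) {M} with hS
  have hnn : ∀ Q : Sylow p G, 0 ≤ ∑ K ∈ S, c p Q K := fun Q =>
    class_nonneg p (fun M hM => claim_of_res p _ M rfl hM.2.2.1) hG hM Q le_top
  have : Fintype (Sylow p G) := Fintype.ofFinite _
  have h1 : 0 ≤ ∑ Q : Sylow p G, ∑ K ∈ S, c p Q K := Finset.sum_nonneg (fun Q _ => hnn Q)
  rw [Finset.sum_comm] at h1
  have h2 : ∀ K ∈ S, ∑ Q : Sylow p G, c p Q K =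
      ((p : ℤ) - 1) * (Nat.card (Sylow p G) : ℤ) -
        (2 * (p : ℤ) - 1) * (Nat.card {Q : Sylow p G // (Q : Subgroup G) ≤ M} : ℤ) := by
    intro K hK
    unfold c
    rw [Finset.sum_sub_distrib, Finset.sum_const, nsmul_eq_mul, ← Finset.sum_filter, Finset.sum_const, nsmul_eq_mul,
      Finset.card_univ, ← Nat.card_eq_fintype_card]
    have h3 : (Finset.univ.filter (fun Q : Sylow p G => (Q : Subgroup G) ≤ K)).card =
        Nat.card {Q : Sylow p G // (Q : Subgroup G) ≤ M} := by
      rw [hS, mem_cls] at hK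
      obtain ⟨L, hL, n, _, rfl⟩ := hK
      rw [Finset.mem_singleton] at hL
      subst hL
      rw [Nat.card_eq_fintype_card, Fintype.card_subtype]
      symm
      apply Finset.card_bij (fun Q _ => n • Q)
      · intro Q hQ
        rw [Finset.mem_filter] at hQ ⊢
        refine ⟨Finset.mem_univ _, ?_⟩
        rw [Sylow.coe_subgroup_smul]
        intro x hx
        rw [Subgroup.mem_pointwise_smul_iff_inv_smul_mem] at hx
        rw [mem_cj]
        apply hQ.2
        simpa [MulAut.smul_def] using hx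
      · intro Q _ Q' _ h
        exact smul_left_cancel n h
      · intro Q hQ
        rw [Finset.mem_filter] at hQ
        refine ⟨n⁻¹ • Q, ?_, smul_inv_smul n Q⟩
        rw [Finset.mem_filter]
        refine ⟨Finset.mem_univ _, ?_⟩
        rw [Sylow.coe_subgroup_smul]
        intro x hx
        rw [Subgroup.mem_pointwise_smul_iff_inv_smul_mem] at hx
        have h4 : n * x * n⁻¹ ∈ (Q : Subgroup G) := by simpa [MulAut.smul_def] using hx
        have h5 := hQ.2 h4
        rw [mem_cj] at h5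
        have h6 : n⁻¹ * (n * x * n⁻¹) * n = x := by group
        rwa [h6] at h5
    rw [h3]; ring
  rw [Finset.sum_congr rfl h2, Finset.sum_const, nsmul_eq_mul] at h1
  have hSpos : (0 : ℤ) < S.card := by
    exact_mod_cast Finset.card_pos.mpr ⟨M, subset_cls (Finset.mem_singleton_self M)⟩
  have h3 := nonneg_of_mul_nonneg_right h1 hSpos
  linarith

end H29.SylNum
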