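import Cfsg.Prelude.Def_Local
import Cfsg.Agent.S0017
import Cfsg.Agent.S0657
import Cfsg.Agent.Lib.H26.SolvBal
import Cfsg.Agent.Lib.H26.TransferPow
import Cfsg.Agent.Lib.H29.Gen
import Cfsg.Agent.Lib.H3.ThompFact
import Cfsg.Agent.Lib.H30.PStab2

/-!
Thompson's theorem on groups all of whose 2-generated subgroups are solvable: general lemmas.
-/

set_option autoImplicit false

open Cfsg Subgroup

namespace H29.TwoGen

universe u

section General

variable {H : Type u} [Group H] [Finite H] {p : ℕ} [hp : Fact p.Prime]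

theorem dvd_orderOf_mk_iff (N : Subgroup H) [N.Normal] (hN : (Nat.card N).Coprime p) (x : H) :
    p ∣ orderOf (QuotientGroup.mk' N x) ↔ p ∣ orderOf x := by
  constructor
  · intro h
    exact h.trans (orderOf_map_dvd _ x)
  · intro h
    by_contra hcon
    set m := orderOf (QuotientGroup.mk' N x) with hm
    have h1 : x ^ m ∈ N := by
      rw [← QuotientGroup.ker_mk' N, MonoidHom.mem_ker, map_pow, hm, pow_orderOf_eq_one]
    have h2 : orderOf (x ^ m) ∣ Nat.card N := by
      have := orderOf_dvd_natCard (⟨x ^ m, h1⟩ : N)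
      rwa [Subgroup.orderOf_mk] at this
    have h3 : orderOf x ∣ m * Nat.card N := by
      apply orderOf_dvd_of_pow_eq_one
      rw [pow_mul]
      exact orderOf_dvd_iff_pow_eq_one.mp h2
    have h4 : p ∣ m * Nat.card N := h.trans h3
    rcases hp.out.dvd_mul.mp h4 with h5 | h5
    · exact hcon h5
    · exact (Nat.Prime.coprime_iff_not_dvd hp.out).mp hN.symm h5

theorem coprime_core : (Nat.card (pPrimeCore p H)).Coprime p := H1.Cores.coprime_card_pPrimeCore p

/-- a `p`-element with trivial image mod a normal `p'`-subgroup is trivial -/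
theorem eq_one_of_mem {N : Subgroup H} (hN : (Nat.card N).Coprime p) {x : H}
    (hx : IsPGroup p (zpowers x)) (h : x ∈ N) : x = 1 := by
  have h1 : Nat.card (zpowers x) ∣ Nat.card N := Subgroup.card_dvd_of_le (by rwa [zpowers_le])
  obtain ⟨n, hn⟩ := IsPGroup.iff_card.mp hx
  rw [hn] at h1
  have h2 : (p ^ n).Coprime (Nat.card N) := Nat.Coprime.pow_left n hN.symm
  have h3 : p ^ n = 1 := Nat.Coprime.eq_one_of_dvd h2 h1
  rw [h3, Nat.card_zpowers] at hn
  exact orderOf_eq_one_iff.mp hn

theorem isPGroup_zpowers_of {x : H} (hx : orderOf x = p) : IsPGroup p (zpowers x) := by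
  rw [IsPGroup.iff_card]
  exact ⟨1, by rw [Nat.card_zpowers, hx, pow_one]⟩

theorem isPGroup_zpowers_of_pow {x : H} {k : ℕ} (hx : orderOf x = p ^ k) : IsPGroup p (zpowers x) := by
  rw [IsPGroup.iff_card]
  exact ⟨k, by rw [Nat.card_zpowers, hx]⟩

/-- Sylow's theorem in `N P`. -/
theorem exists_conj_mem (N P : Subgroup H) [hNn : N.Normal] (hN : (Nat.card N).Coprime p) (hP : IsPGroup p P)
    {c : H} (hc : IsPGroup p (zpowers c)) (hcm : c ∈ N ⊔ P) : ∃ h ∈ N, h * c * h⁻¹ ∈ P := by
  set M := N ⊔ P with hM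
  have hPM : P ≤ M := le_sup_right
  have hNM : N ≤ M := le_sup_left
  have hidx : ¬ p ∣ (P.subgroupOf M).index := by
    intro hd
    have h1 : P.relIndex M ∣ Nat.card N := by
      have h2 := Subgroup.card_mul_index (P.subgroupOf M)
      have h2' : Nat.card (P.subgroupOf M) = Nat.card P :=
        Nat.card_congr (Subgroup.subgroupOfEquivOfLe hPM).toEquiv
      have h3 : Nat.card M ∣ Nat.card P * Nat.card N := by
        rw [hM, sup_comm]
        exact H1.Cores.card_sup_dvd_mul P N
      rw [← h2, h2'] at h3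
      exact Nat.dvd_of_mul_dvd_mul_left Nat.card_pos h3
    exact (Nat.Prime.coprime_iff_not_dvd hp.out).mp hN.symm (hd.trans h1)
  have hPp : IsPGroup p (P.subgroupOf M) := hP.comap_of_injective M.subtype M.subtype_injective
  let S : Sylow p M := hPp.toSylow hidx
  have hcp : IsPGroup p (zpowers (⟨c, hcm⟩ : M)) := by
    rw [IsPGroup.iff_card] at hc ⊢
    simpa [Nat.card_zpowers, Subgroup.orderOf_mk] using hc
  obtain ⟨Q, hQ⟩ := hcp.exists_le_sylow
  obtain ⟨g, hg⟩ := MulAction.exists_smul_eq M Q S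
  have h1 : g * ⟨c, hcm⟩ * g⁻¹ ∈ (S : Subgroup M) := by
    rw [← hg, Sylow.coe_subgroup_smul]
    have h2 : (⟨c, hcm⟩ : M) ∈ (Q : Subgroup M) := hQ (mem_zpowers _)
    have h3 := Subgroup.smul_mem_pointwise_smul (⟨c, hcm⟩ : M) (MulAut.conj g) (Q : Subgroup M) h2
    simpa [MulAut.smul_def, MulAut.conj_apply] using h3
  have h2 : (g : H) * c * (g : H)⁻¹ ∈ P := h1
  have hgM : (g : H) ∈ P ⊔ N := by rw [sup_comm]; exact g.2
  obtain ⟨x, hx, h, hh, hxh⟩ := Subgroup.mem_sup_of_normal_right.mp hgM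
  refine ⟨h, hh, ?_⟩
  rw [← hxh] at h2
  have h3 : x⁻¹ * (x * h * c * (x * h)⁻¹) * x ∈ P := P.mul_mem (P.mul_mem (P.inv_mem hx) h2) hx
  have h4 : x⁻¹ * (x * h * c * (x * h)⁻¹) * x = h * c * h⁻¹ := by group
  rwa [h4] at h3

theorem abelian_normal_le (hs : Group.IsSolvable H) (hp5 : 5 ≤ p) (S : Sylow p H) (A : Subgroup H)
    (hA : A ≤ (S : Subgroup H)) (hAc : IsMulCommutative A)
    (hAn : (S : Subgroup H) ≤ normalizer (A : Set H)) : A ≤ pPrimePCore p H := by
  set K := pPrimeCore p H with hK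
  let f := QuotientGroup.mk' K
  have hf : Function.Surjective f := QuotientGroup.mk'_surjective K
  have hO : pPrimeCore p (H ⧸ K) = ⊥ := H1.Cores.pPrimeCore_quotient_pPrimeCore p
  have hCle : centralizer (pCore p (H ⧸ K) : Set (H ⧸ K)) ≤ pCore p (H ⧸ K) :=
    H26.SolvBal.centralizer_pCore_quotient_le_of_isSolvable hs
  have hPp := H1.Cores.isPGroup_pCore (G := H ⧸ K) p
  rw [pPrimePCore, ← map_le_iff_le_comap]
  by_cases hb : pCore p (H ⧸ K) = ⊥
  · refine le_trans ?_ hCle
    rw [hb]
    intro x _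
    rw [mem_centralizer_iff]
    intro y hy
    rw [Subgroup.mem_bot.mp hy, one_mul, mul_one]
  · have hst : IsPStable p (H ⧸ K) := by
      by_contra hns
      have hlt : pPrimeCore p H < pPrimePCore p H := by
        refine lt_of_le_of_ne ?_ ?_
        · intro x hx
          show f x ∈ pCore p (H ⧸ K)
          have : f x = 1 := by
            rw [← MonoidHom.mem_ker, QuotientGroup.ker_mk']; exact hx
          rw [this]; exact one_mem _
        · intro heq
          apply hb
          rw [eq_bot_iff]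
          intro y hy
          obtain ⟨x, rfl⟩ := hf y
          have h1 : x ∈ pPrimePCore p H := hy
          rw [← heq] at h1
          rw [Subgroup.mem_bot, ← MonoidHom.mem_ker, QuotientGroup.ker_mk']
          exact h1
      obtain ⟨K', L, hL, -, he⟩ := Cfsg.Agent.S0657.result (G := H) (p := p) (by omega) hlt hns
      exact H3.ThompFact.not_involves_of_solvable (by omega) hs (fun h => by omega) ⟨K', L, hL, he⟩
    obtain ⟨_, _, h3⟩ := hst
    have hPle : pCore p (H ⧸ K) ≤ (S : Subgroup H).map f :=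
      H1.Cores.pCore_le_sylow (S.mapSurjective hf)
    have hAS : A.map f ≤ (S : Subgroup H).map f := map_mono hA
    have hSp : IsPGroup p ((S : Subgroup H).map f) := S.isPGroup'.map f
    have hcomm : ⁅A.map f, A.map f⁆ = ⊥ := by
      rw [← Subgroup.map_commutator, Subgroup.commutator_self_eq_bot_iff.2 hAc, Subgroup.map_bot]
    have hnorm : pCore p (H ⧸ K) ≤ normalizer ((A.map f : Subgroup _) : Set _) := by
      refine hPle.trans ?_
      rw [Subgroup.le_normalizer_iff_commutator_le_left, ← Subgroup.map_commutator]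
      exact Subgroup.map_mono (Subgroup.le_normalizer_iff_commutator_le_left.1 hAn)
    have hnn : (pCore p (H ⧸ K)).Normal := inferInstance
    have h4 := h3 (A.map f) (pCore p (H ⧸ K)) (hSp.to_le hAS) hPp
      (fun a _ x hx => hnn.conj_mem x hx a) (by
        intro x hx
        show (QuotientGroup.mk' (pPrimeCore p (H ⧸ K))) x ∈ pCore p ((H ⧸ K) ⧸ pPrimeCore p (H ⧸ K))
        exact H1.Cores.map_pCore_le p _ (QuotientGroup.mk'_surjective _) ⟨x, hx, rfl⟩) (by
        rw [hO, bot_sup_eq]; exact hnn) (by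
        rw [eq_bot_iff]
        have h1 : ⁅pCore p (H ⧸ K), A.map f⁆ ≤ A.map f := le_normalizer_iff_commutator_le_right.1 hnorm
        calc ⁅⁅pCore p (H ⧸ K), A.map f⁆, A.map f⁆ ≤ ⁅A.map f, A.map f⁆ := commutator_mono h1 le_rfl
          _ = ⊥ := hcomm
          _ ≤ ⊥ := le_rfl)
    set Nn := normalizer ((pCore p (H ⧸ K) : Subgroup _) : Set (H ⧸ K)) with hNn
    have hCp : IsPGroup p ((centralizer (pCore p (H ⧸ K) : Set (H ⧸ K))).subgroupOf Nn) :=
      (hPp.to_le hCle).comap_of_injective Nn.subtype Nn.subtype_injective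
    have h5 := H30.PStab2.le_pCore_of_map_le p _ _ hCp h4
    have hNtop : Nn = ⊤ := by rw [hNn]; exact normalizer_eq_top _
    have hNnn : Nn.Normal := by rw [hNtop]; infer_instance
    have h6 : A.map f ≤ (pCore p Nn).map Nn.subtype := by
      intro a ha
      exact ⟨⟨a, by rw [hNtop]; trivial⟩, h5 ha, rfl⟩
    refine h6.trans ?_
    have h7 : (pCore p Nn).map Nn.subtype = Nn ⊓ pCore p (H ⧸ K) := H1.Cores.map_subtype_pCore p Nn
    rw [h7]
    exact inf_le_right

end General

end H29.TwoGen
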