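import Cfsg.Agent.Lib.H29.TwoGen1
import Cfsg.Agent.Lib.H29.SylNum

/-!
Thompson's theorem on groups all of whose 2-generated subgroups are solvable: the minimal situation.
-/

set_option autoImplicit false

open Cfsg Subgroup

namespace H29.TwoGen

universe u

/-- minimal situation. -/
structure Ctx (G : Type u) [Group G] : Prop where
  simple : IsSimpleGroup G
  prop : ∀ H : Subgroup G, H ≠ ⊤ → Group.IsSolvable H
  two : ∀ a b : G, closure ({a, b} : Set G) ≠ ⊤

variable {G : Type u} [Group G] [Finite G] {p : ℕ} [hp : Fact p.Prime]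

omit [Finite G] in
theorem Ctx.centralizer_ne_top (c : Ctx G) {a : G} (ha : a ≠ 1) : centralizer ({a} : Set G) ≠ ⊤ := by
  haveI := c.simple
  intro h
  have h1 : a ∈ center G := by
    rw [mem_center_iff]
    intro g
    have : g ∈ centralizer ({a} : Set G) := by rw [h]; trivial
    exact mem_centralizer_singleton_iff.mp this
  rcases (inferInstance : (center G).Normal).eq_bot_or_eq_top with h2 | h2
  · rw [h2, mem_bot] at h1
    exact ha h1
  · -- commutative
    have hcomm : ∀ x y : G, x * y = y * x := fun x y => by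
      have : y ∈ center G := by rw [h2]; trivial
      exact mem_center_iff.mp this x
    have hn : (zpowers a).Normal := ⟨fun x hx g => by rw [hcomm g x, mul_assoc, mul_inv_cancel, mul_one]; exact hx⟩
    rcases hn.eq_bot_or_eq_top with h3 | h3
    · exact ha (zpowers_eq_bot.mp h3)
    · apply c.two a a
      rw [Set.pair_eq_singleton, ← zpowers_eq_closure, h3]

/-- the stabilizer trick. -/
theorem Ctx.eq_one_of_inv (c : Ctx G) (hpd : p ∣ Nat.card G) {x : G}
    (hx : ∀ g : G, ¬ p ∣ orderOf g → ¬ p ∣ orderOf (g * x)) : x = 1 := by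
  haveI := c.simple
  by_contra hx1
  have hN : normalClosure ({x} : Set G) = ⊤ := by
    rcases (inferInstance : (normalClosure ({x} : Set G)).Normal).eq_bot_or_eq_top with h | h
    · exact absurd (by simpa using (h ▸ subset_normalClosure (Set.mem_singleton x) : x ∈ (⊥ : Subgroup G))) hx1
    · exact h
  have key : ∀ y ∈ normalClosure ({x} : Set G), ∀ g : G, ¬ p ∣ orderOf g → ¬ p ∣ orderOf (g * y) := by
    intro y hy
    refine closure_induction (p := fun y _ => ∀ g : G, ¬ p ∣ orderOf g → ¬ p ∣ orderOf (g * y)) ?_ ?_ ?_ ?_ hy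
    · intro z hz g hg
      obtain ⟨w, hw, hwz⟩ := Group.mem_conjugatesOfSet_iff.mp hz
      rw [Set.mem_singleton_iff.mp hw] at hwz
      obtain ⟨k, hk⟩ := isConj_iff.mp hwz
      have h1 : g * z = k * ((k⁻¹ * g * k) * x) * k⁻¹ := by rw [← hk]; group
      have h2 : orderOf (g * z) = orderOf ((k⁻¹ * g * k) * x) := by
        rw [h1]; exact SylNum.orderOf_conj k _
      rw [h2]
      apply hx
      have h3 : orderOf (k⁻¹ * g * k) = orderOf g := by
        have := SylNum.orderOf_conj k⁻¹ g
        rwa [inv_inv] at this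
      rwa [h3]
    · intro g hg
      rwa [mul_one]
    · intro y z _ _ hy hz g hg
      rw [← mul_assoc]
      exact hz _ (hy _ hg)
    · intro y _ hy g hg
      have hpow : ∀ n : ℕ, ∀ g : G, ¬ p ∣ orderOf g → ¬ p ∣ orderOf (g * y ^ n) := by
        intro n
        induction n with
        | zero => intro g hg; rwa [pow_zero, mul_one]
        | succ n ih =>
          intro g hg
          rw [pow_succ, ← mul_assoc]
          exact hy _ (ih g hg)
      have h1 : y⁻¹ = y ^ (orderOf y - 1) := by
        rw [inv_eq_iff_mul_eq_one, ← pow_succ']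
        rw [Nat.sub_add_cancel (orderOf_pos y), pow_orderOf_eq_one]
      rw [h1]
      exact hpow _ g hg
  obtain ⟨y, hy⟩ := exists_prime_orderOf_dvd_card' p hpd
  have h1 := key y (by rw [hN]; trivial) 1 (by rw [orderOf_one]; exact hp.out.one_lt.ne' ∘ Nat.dvd_one.mp)
  rw [one_mul, hy] at h1
  exact h1 dvd_rfl

omit [Finite G] in
theorem mem_zpowers_mul {v x : G} (hc : Commute v x) (hcop : (orderOf v).Coprime (orderOf x)) :
    v ∈ zpowers (v * x) ∧ x ∈ zpowers (v * x) := by
  obtain ⟨a, ha1, ha2⟩ := Nat.chineseRemainder hcop 1 0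
  obtain ⟨b, hb1, hb2⟩ := Nat.chineseRemainder hcop 0 1
  constructor
  · have h1 : (v * x) ^ a = v := by
      rw [hc.mul_pow]
      have e1 : v ^ a = v := by
        conv_rhs => rw [← pow_one v]
        exact pow_eq_pow_iff_modEq.mpr ha1
      have e2 : x ^ a = 1 := by
        rw [← pow_zero x]
        exact pow_eq_pow_iff_modEq.mpr ha2
      rw [e1, e2, mul_one]
    rw [← h1]
    conv_rhs => rw [h1]
    exact ⟨a, by simp [h1]⟩
  · have h1 : (v * x) ^ b = x := by
      rw [hc.mul_pow]
      have e1 : v ^ b = 1 := by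
        rw [← pow_zero v]
        exact pow_eq_pow_iff_modEq.mpr hb1
      have e2 : x ^ b = x := by
        conv_rhs => rw [← pow_one x]
        exact pow_eq_pow_iff_modEq.mpr hb2
      rw [e1, e2, one_mul]
    exact ⟨b, by simp [h1]⟩

/-- `O_{p'}(C(v)) = 1` for `p`-elements `v ≠ 1`. -/
theorem Ctx.core_centralizer (c : Ctx G) (hpd : p ∣ Nat.card G) {v : G} (hv1 : v ≠ 1)
    (hv : IsPGroup p (zpowers v)) : pPrimeCore p (centralizer ({v} : Set G)) = ⊥ := by
  set C := centralizer ({v} : Set G) with hC
  set D := (pPrimeCore p C).map C.subtype with hD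
  rw [eq_bot_iff]
  intro x' hx'
  have hDcard : (Nat.card D).Coprime p := by
    rw [hD, card_map_of_injective C.subtype_injective]
    exact coprime_core
  have hxD : (x' : G) ∈ D := ⟨x', hx', rfl⟩
  obtain ⟨x, hxC⟩ := x'
  simp only at hxD
  have hcvx : Commute v x := (mem_centralizer_singleton_iff.mp hxC).symm
  obtain ⟨k, hk⟩ := IsPGroup.iff_card.mp hv
  rw [Nat.card_zpowers] at hk
  have hox : orderOf x ∣ Nat.card D := by
    have := orderOf_dvd_natCard (⟨x, hxD⟩ : D)
    rwa [Subgroup.orderOf_mk] at this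
  have hcop : (orderOf v).Coprime (orderOf x) := by
    rw [hk]
    exact Nat.Coprime.pow_left k (Nat.Coprime.coprime_dvd_right hox hDcard.symm)
  have hx1 : x = 1 := by
    apply c.eq_one_of_inv hpd
    intro g hg
    set H := closure ({v * x, g} : Set G) with hH
    have hHt : H ≠ ⊤ := c.two _ _
    have hvx : v * x ∈ H := subset_closure (by simp)
    have hgH : g ∈ H := subset_closure (by simp)
    have hle : zpowers (v * x) ≤ H := by rwa [zpowers_le]
    have hvH : v ∈ H := hle (mem_zpowers_mul hcvx hcop).1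
    have hxH : x ∈ H := hle (mem_zpowers_mul hcvx hcop).2
    have hs : Group.IsSolvable H := c.prop H hHt
    have hcent : ∀ z : H, z ∈ centralizer (zpowers (⟨v, hvH⟩ : H) : Set H) → (z : G) ∈ C := by
      intro z hz
      rw [hC, mem_centralizer_singleton_iff]
      have := mem_centralizer_iff.1 hz ⟨v, hvH⟩ (mem_zpowers _)
      exact (congrArg Subtype.val this).symm
    have h1 : D.subgroupOf H ≤ pPrimeCore p H := by
      apply H26.SolvBal.le_pPrimeCore_of_isSolvable hs (P := zpowers (⟨v, hvH⟩ : H))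
      · rw [IsPGroup.iff_card]
        exact ⟨k, by rw [Nat.card_zpowers, Subgroup.orderOf_mk, hk]⟩
      · have h2 : Nat.card ↥(D.subgroupOf H) ∣ Nat.card ↥D := by
          have h3 : Nat.card ↥(D.subgroupOf H) = Nat.card ↥((D.subgroupOf H).map H.subtype) :=
            (card_map_of_injective H.subtype_injective).symm
          rw [h3]
          exact card_dvd_of_le (by rw [subgroupOf_map_subtype]; exact inf_le_left)
        exact Nat.Coprime.coprime_dvd_left h2 hDcard
      · intro d hd
        have hdC : (d : G) ∈ C := by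
          obtain ⟨e, _, he⟩ := (hd : (d : G) ∈ D)
          have he' : (e : G) = (d : G) := he
          rw [← he']; exact e.2
        rw [mem_centralizer_iff]
        rintro _ ⟨n, rfl⟩
        have h2 := mem_centralizer_singleton_iff.1 hdC
        have h3 : Commute (⟨v, hvH⟩ : ↥H) d := Subtype.ext h2.symm
        exact h3.zpow_left n
      · intro z hz
        rw [mem_normalizer_iff]
        have hzC := hcent z hz
        have key : ∀ y ∈ C, ∀ d ∈ D, y * d * y⁻¹ ∈ D := by
          rintro y hy _ ⟨d, hd, rfl⟩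
          exact ⟨_, (inferInstance : (pPrimeCore p C).Normal).conj_mem d hd ⟨y, hy⟩, rfl⟩
        intro d
        constructor
        · intro hd
          exact key z hzC d hd
        · intro hd
          have h4 : (z : G)⁻¹ * ((z * d * z⁻¹ : H) : G) * (z : G)⁻¹⁻¹ ∈ D :=
            key (z : G)⁻¹ (C.inv_mem hzC) _ (hd : ((z * d * z⁻¹ : H) : G) ∈ D)
          have h5 : (z : G)⁻¹ * ((z * d * z⁻¹ : H) : G) * (z : G)⁻¹⁻¹ = (d : G) := by
            push_cast; group
          rw [h5] at h4
          exact h4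
    have h6 : (⟨x, hxH⟩ : H) ∈ pPrimeCore p H := h1 hxD
    have h7 : QuotientGroup.mk' (pPrimeCore p H) (⟨g, hgH⟩ * ⟨x, hxH⟩) =
        QuotientGroup.mk' (pPrimeCore p H) ⟨g, hgH⟩ := by
      rw [map_mul]
      have : QuotientGroup.mk' (pPrimeCore p H) ⟨x, hxH⟩ = 1 := by
        rw [← MonoidHom.mem_ker, QuotientGroup.ker_mk']; exact h6
      rw [this, mul_one]
    have h8 := dvd_orderOf_mk_iff (p := p) (pPrimeCore p H) coprime_core ((⟨g, hgH⟩ : H) * ⟨x, hxH⟩)
    have h9 := dvd_orderOf_mk_iff (p := p) (pPrimeCore p H) coprime_core (⟨g, hgH⟩ : H)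
    rw [h7, h9] at h8
    have h10 : orderOf (⟨g, hgH⟩ : H) = orderOf g := Subgroup.orderOf_mk _ _
    have h11 : orderOf ((⟨g, hgH⟩ : H) * ⟨x, hxH⟩) = orderOf (g * x) := Subgroup.orderOf_mk _ _
    rw [h10, h11] at h8
    exact fun h => hg (h8.mpr h)
  rw [mem_bot]
  exact Subtype.ext hx1

end H29.TwoGen
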