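import Cfsg.Agent.Lib.H29.TwoGen2

/-!
Thompson's theorem on groups all of whose 2-generated subgroups are solvable: strongly closed sets.
-/

set_option autoImplicit false

open Cfsg Subgroup

namespace H29.TwoGen

universe u

/-- a strongly closed set of elements of order `p`. -/
structure KSet (p : ℕ) {G : Type u} [Group G] (K : Set G) : Prop where
  ord : ∀ a ∈ K, orderOf a = p
  conj : ∀ a ∈ K, ∀ g : G, g * a * g⁻¹ ∈ K
  pow : ∀ a ∈ K, ∀ n : ℕ, a ^ n ≠ 1 → a ^ n ∈ K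
  comm : ∀ P : Subgroup G, IsPGroup p P → ∀ a ∈ K, ∀ b ∈ K, a ∈ P → b ∈ P →
    Commute a b ∧ (a * b ≠ 1 → a * b ∈ K)

section KLem

variable {G : Type u} [Group G] [Finite G] {p : ℕ} [hp : Fact p.Prime] {K : Set G} (hK : KSet p K)

include hK

omit [Finite G] in
theorem KSet.ne_one {a : G} (ha : a ∈ K) : a ≠ 1 := by
  rintro rfl
  have := hK.ord 1 ha
  rw [orderOf_one] at this
  exact hp.out.one_lt.ne this

omit [Finite G] in
theorem KSet.isPGroup {a : G} (ha : a ∈ K) : IsPGroup p (zpowers a) := by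
  rw [IsPGroup.iff_orderOf]
  intro x
  have h1 : orderOf x ∣ p := by
    rw [← hK.ord a ha, ← Nat.card_zpowers a]
    exact _root_.orderOf_dvd_natCard x
  rcases (Nat.dvd_prime hp.out).mp h1 with h | h
  · exact ⟨0, by rw [h, pow_zero]⟩
  · exact ⟨1, by rw [h, pow_one]⟩

omit [Finite G] in
theorem KSet.inv_mem {a : G} (ha : a ∈ K) : a⁻¹ ∈ K := by
  have h1 : a⁻¹ = a ^ (p - 1) := by
    rw [inv_eq_iff_mul_eq_one, ← pow_succ', Nat.sub_add_cancel hp.out.one_lt.le, ← hK.ord a ha,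
      pow_orderOf_eq_one]
  rw [h1]
  apply hK.pow a ha
  rw [← h1]
  exact inv_ne_one.mpr (hK.ne_one ha)

omit [Finite G] in
theorem KSet.zpow_mem {a : G} (ha : a ∈ K) {x : G} (hx : x ∈ zpowers a) (hx1 : x ≠ 1) : x ∈ K := by
  obtain ⟨n, rfl⟩ := mem_zpowers_iff.mp hx
  rcases n with n | n
  · simp only [Int.ofNat_eq_natCast, zpow_natCast] at hx1 ⊢
    exact hK.pow a ha n hx1
  · rw [zpow_negSucc] at hx1 ⊢
    apply hK.inv_mem
    apply hK.pow a ha
    simpa using hx1

omit [Finite G] in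
theorem KSet.mul_mem {a b : G} (ha : a ∈ K) (hb : b ∈ K) (h : Commute a b) (h1 : a * b ≠ 1) : a * b ∈ K := by
  have hP : IsPGroup p ((zpowers a ⊔ zpowers b : Subgroup G)) := by
    apply IsPGroup.to_sup_of_normal_right' (hK.isPGroup ha) (hK.isPGroup hb)
    rw [zpowers_le, mem_normalizer_iff]
    intro x
    have key : ∀ y ∈ zpowers b, Commute a y := by
      rintro y ⟨n, rfl⟩
      exact h.zpow_right n
    constructor
    · intro hx
      rw [(key x hx).eq, mul_assoc, mul_inv_cancel, mul_one]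
      exact hx
    · intro hx
      have h2 := (key _ hx).eq
      have h3 : x = a * x * a⁻¹ := by
        have h4 : a * (a * x * a⁻¹) = a * x := by rw [h2]; group
        exact (mul_left_cancel h4).symm
      rw [h3]
      exact hx
  exact (hK.comm _ hP a ha b hb (mem_sup_left (mem_zpowers _)) (mem_sup_right (mem_zpowers _))).2 h1

end KLem

section Main

variable {G : Type u} [Group G] [Finite G] {p : ℕ} [hp : Fact p.Prime] {K : Set G}

omit [Finite G] in
theorem isPGroup_map_subtype {H : Subgroup G} {P : Subgroup H} (hP : IsPGroup p P) :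
    IsPGroup p (P.map H.subtype) := hP.map _

/-- elements of `K` in a proper subgroup `H` lie in `O_{p',p}(H)`. -/
theorem mem_pPrimePCore (c : Ctx G) (hK : KSet p K) (hp5 : 5 ≤ p) {H : Subgroup G} (hH : H ≠ ⊤) {a : G}
    (ha : a ∈ K) (haH : a ∈ H) : (⟨a, haH⟩ : H) ∈ pPrimePCore p H := by
  have hs := c.prop H hH
  have h1 : IsPGroup p (zpowers (⟨a, haH⟩ : H)) := by
    rw [IsPGroup.iff_card]
    exact ⟨1, by rw [Nat.card_zpowers, Subgroup.orderOf_mk, hK.ord a ha, pow_one]⟩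
  obtain ⟨S, hS⟩ := h1.exists_le_sylow
  have hSp : IsPGroup p ((S : Subgroup H).map H.subtype) := isPGroup_map_subtype S.isPGroup'
  let B : Subgroup H :=
    { carrier := {x | x ∈ (S : Subgroup H) ∧ (x = 1 ∨ (x : G) ∈ K)}
      one_mem' := ⟨one_mem _, Or.inl rfl⟩
      mul_mem' := by
        rintro x y ⟨hx, hx'⟩ ⟨hy, hy'⟩
        refine ⟨mul_mem hx hy, ?_⟩
        rcases hx' with rfl | hx'
        · simpa using hy'
        rcases hy' with rfl | hy'
        · right; simpa using hx'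
        by_cases h : x * y = 1
        · exact Or.inl h
        · right
          have h2 := (hK.comm _ hSp _ hx' _ hy' ⟨x, hx, rfl⟩ ⟨y, hy, rfl⟩).2
          apply h2
          intro h3
          exact h (Subtype.ext h3)
      inv_mem' := by
        rintro x ⟨hx, hx'⟩
        refine ⟨inv_mem hx, ?_⟩
        rcases hx' with rfl | hx'
        · left; simp
        · right; exact hK.inv_mem hx' }
  have hB : B ≤ pPrimePCore p H := by
    apply abelian_normal_le hs hp5 S B (fun x hx => hx.1)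
    · refine ⟨⟨?_⟩⟩
      rintro ⟨x, hx, hx'⟩ ⟨y, hy, hy'⟩
      apply Subtype.ext
      show x * y = y * x
      rcases hx' with rfl | hx'
      · simp
      rcases hy' with rfl | hy'
      · simp
      exact Subtype.ext (hK.comm _ hSp _ hx' _ hy' ⟨x, hx, rfl⟩ ⟨y, hy, rfl⟩).1.eq
    · intro s hs
      have key : ∀ s ∈ (S : Subgroup H), ∀ x ∈ B, s * x * s⁻¹ ∈ B := by
        rintro s hs x ⟨hx, hx'⟩
        refine ⟨mul_mem (mul_mem hs hx) (inv_mem hs), ?_⟩
        rcases hx' with rfl | hx'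
        · left; simp
        · right; exact hK.conj _ hx' _
      rw [mem_normalizer_iff]
      intro x
      refine ⟨key s hs x, fun h => ?_⟩
      have := key s⁻¹ (inv_mem hs) _ h
      have h5 : s⁻¹ * (s * x * s⁻¹) * s⁻¹⁻¹ = x := by group
      rwa [h5] at this
  exact hB ⟨hS (mem_zpowers _), Or.inr ha⟩

/-- commuting is transitive on `K`. -/
theorem comm_trans (c : Ctx G) (hK : KSet p K) (hp5 : 5 ≤ p) {a b d : G}
    (ha : a ∈ K) (hb : b ∈ K) (hd : d ∈ K) (hab : Commute a b) (had : Commute a d) : Commute b d := by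
  have ha1 := hK.ne_one ha
  have hpd : p ∣ Nat.card G := by rw [← hK.ord a ha]; exact orderOf_dvd_natCard a
  have hC := c.centralizer_ne_top ha1
  set C := centralizer ({a} : Set G) with hCdef
  have hbC : b ∈ C := mem_centralizer_singleton_iff.mpr hab.eq.symm
  have hdC : d ∈ C := mem_centralizer_singleton_iff.mpr had.eq.symm
  have hcore : pPrimeCore p C = ⊥ := c.core_centralizer hpd ha1 (hK.isPGroup ha)
  have h1 := mem_pPrimePCore c hK hp5 hC hb hbC
  have h2 := mem_pPrimePCore c hK hp5 hC hd hdC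
  have hPp : IsPGroup p (pPrimePCore p C) := by
    rw [pPrimePCore]
    apply IsPGroup.comap_of_ker_isPGroup (H1.Cores.isPGroup_pCore p)
    rw [QuotientGroup.ker_mk', hcore]
    exact IsPGroup.of_bot
  exact (hK.comm _ (isPGroup_map_subtype hPp) b hb d hd ⟨_, h1, rfl⟩ ⟨_, h2, rfl⟩).1

/-- the abelian subgroup attached to `a`. -/
def AA (c : Ctx G) (hK : KSet p K) (hp5 : 5 ≤ p) {a : G} (ha : a ∈ K) : Subgroup G where
  carrier := {x | x = 1 ∨ (x ∈ K ∧ Commute x a)}
  one_mem' := Or.inl rfl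
  mul_mem' := by
    rintro x y (rfl | ⟨hx, hxa⟩) (rfl | ⟨hy, hya⟩)
    · left; simp
    · right; simpa using ⟨hy, hya⟩
    · right; simpa using ⟨hx, hxa⟩
    · by_cases h : x * y = 1
      · exact Or.inl h
      · right
        exact ⟨hK.mul_mem hx hy (comm_trans c hK hp5 ha hx hy hxa.symm hya.symm) h, hxa.mul_left hya⟩
  inv_mem' := by
    rintro x (rfl | ⟨hx, hxa⟩)
    · left; simp
    · right; exact ⟨hK.inv_mem hx, hxa.inv_left⟩

theorem mem_AA (c : Ctx G) (hK : KSet p K) (hp5 : 5 ≤ p) {a : G} (ha : a ∈ K) {x : G} :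
    x ∈ AA c hK hp5 ha ↔ x = 1 ∨ (x ∈ K ∧ Commute x a) := Iff.rfl

theorem AA_comm (c : Ctx G) (hK : KSet p K) (hp5 : 5 ≤ p) {a : G} (ha : a ∈ K) {x y : G}
    (hx : x ∈ AA c hK hp5 ha) (hy : y ∈ AA c hK hp5 ha) : Commute x y := by
  rcases hx with rfl | ⟨hx, hxa⟩
  · exact Commute.one_left _
  rcases hy with rfl | ⟨hy, hya⟩
  · exact Commute.one_right _
  exact comm_trans c hK hp5 ha hx hy hxa.symm hya.symm

theorem AA_isPGroup (c : Ctx G) (hK : KSet p K) (hp5 : 5 ≤ p) {a : G} (ha : a ∈ K) :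
    IsPGroup p (AA c hK hp5 ha) := by
  intro x
  obtain ⟨x, hx⟩ := x
  refine ⟨1, ?_⟩
  apply Subtype.ext
  show x ^ p ^ 1 = 1
  rw [pow_one]
  rcases hx with rfl | ⟨hx, -⟩
  · simp
  · rw [← hK.ord x hx, pow_orderOf_eq_one]

/-- the normalizer of `AA`. -/
theorem mem_norm_AA (c : Ctx G) (hK : KSet p K) (hp5 : 5 ≤ p) {a : G} (ha : a ∈ K) {g : G} :
    g ∈ normalizer (AA c hK hp5 ha : Set G) ↔ Commute (g * a * g⁻¹) a := by
  have haA : a ∈ AA c hK hp5 ha := Or.inr ⟨ha, Commute.refl a⟩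
  constructor
  · intro h
    exact AA_comm c hK hp5 ha ((mem_normalizer_iff.mp h a).mp haA) haA
  · intro h
    have hga := hK.conj a ha g
    have key : ∀ x ∈ AA c hK hp5 ha, g * x * g⁻¹ ∈ AA c hK hp5 ha := by
      rintro x (rfl | ⟨hx, hxa⟩)
      · left; simp
      · right
        refine ⟨hK.conj x hx g, ?_⟩
        apply comm_trans c hK hp5 hga (hK.conj x hx g) ha _ h
        show (g * a * g⁻¹) * (g * x * g⁻¹) = (g * x * g⁻¹) * (g * a * g⁻¹)
        have : (g * a * g⁻¹) * (g * x * g⁻¹) = g * (a * x) * g⁻¹ := by group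
        rw [this, ← hxa.eq]; group
    rw [mem_normalizer_iff]
    intro x
    refine ⟨key x, fun h2 => ?_⟩
    -- finiteness
    have hmap : (AA c hK hp5 ha).map (MulAut.conj g).toMonoidHom = AA c hK hp5 ha := by
      apply Subgroup.eq_of_le_of_card_ge
      · rintro _ ⟨y, hy, rfl⟩
        exact key y hy
      · rw [card_map_of_injective (MulAut.conj g).injective]
    rw [← hmap] at h2
    obtain ⟨y, hy, hyx⟩ := h2
    have h3 : g * y * g⁻¹ = g * x * g⁻¹ := hyx
    have h4 : y = x := by simpa using h3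
    rwa [← h4]

theorem norm_K (c : Ctx G) (hK : KSet p K) (hp5 : 5 ≤ p) {a : G} (ha : a ∈ K) {x : G} (hx : x ∈ K)
    (hxn : x ∈ normalizer (AA c hK hp5 ha : Set G)) : Commute x a := by
  have hP : IsPGroup p ((zpowers x ⊔ AA c hK hp5 ha : Subgroup G)) := by
    apply IsPGroup.to_sup_of_normal_right' (hK.isPGroup hx) (AA_isPGroup c hK hp5 ha)
    rwa [zpowers_le]
  exact (hK.comm _ hP x hx a ha (mem_sup_left (mem_zpowers _))
    (mem_sup_right (Or.inr ⟨ha, Commute.refl a⟩))).1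

theorem cent_le_norm (c : Ctx G) (hK : KSet p K) (hp5 : 5 ≤ p) {a : G} (ha : a ∈ K) {x : G} (hx : x ∈ K)
    (hxa : Commute x a) : centralizer ({x} : Set G) ≤ normalizer (AA c hK hp5 ha : Set G) := by
  intro g hg
  rw [mem_norm_AA]
  have hgx : g * x * g⁻¹ = x := by
    rw [mem_centralizer_singleton_iff.mp hg, mul_assoc, mul_inv_cancel, mul_one]
  have h1 : Commute (g * x * g⁻¹) (g * a * g⁻¹) := by
    show (g * x * g⁻¹) * (g * a * g⁻¹) = (g * a * g⁻¹) * (g * x * g⁻¹)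
    have : (g * x * g⁻¹) * (g * a * g⁻¹) = g * (x * a) * g⁻¹ := by group
    rw [this, hxa.eq]; group
  rw [hgx] at h1
  exact comm_trans c hK hp5 hx (hK.conj a ha g) ha h1 hxa

/-- (E2). -/
theorem exists_comm_conj (c : Ctx G) (hK : KSet p K) (hp5 : 5 ≤ p) {H : Subgroup G} (hH : H ≠ ⊤) {a b : G}
    (ha : a ∈ K) (haH : a ∈ H) (hb : b ∈ K) (hbH : b ∈ H) :
    ∃ h : H, h ∈ pPrimeCore p H ∧ Commute ((h : G) * b * (h : G)⁻¹) a := by
  have h1 : IsPGroup p (zpowers (⟨a, haH⟩ : H)) := by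
    rw [IsPGroup.iff_card]
    exact ⟨1, by rw [Nat.card_zpowers, Subgroup.orderOf_mk, hK.ord a ha, pow_one]⟩
  have h1b : IsPGroup p (zpowers (⟨b, hbH⟩ : H)) := by
    rw [IsPGroup.iff_card]
    exact ⟨1, by rw [Nat.card_zpowers, Subgroup.orderOf_mk, hK.ord b hb, pow_one]⟩
  obtain ⟨S, hS⟩ := h1.exists_le_sylow
  have haL := mem_pPrimePCore c hK hp5 hH ha haH
  have hbL := mem_pPrimePCore c hK hp5 hH hb hbH
  set P := (S : Subgroup H) ⊓ pPrimePCore p H with hP
  have hPp : IsPGroup p P := S.isPGroup'.to_le inf_le_left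
  have hf := QuotientGroup.mk'_surjective (pPrimeCore p H)
  have hbP : (⟨b, hbH⟩ : H) ∈ pPrimeCore p H ⊔ P := by
    have h2 : QuotientGroup.mk' (pPrimeCore p H) ⟨b, hbH⟩ ∈ pCore p (H ⧸ pPrimeCore p H) := hbL
    have h3 : pCore p (H ⧸ pPrimeCore p H) ≤ (S : Subgroup H).map (QuotientGroup.mk' (pPrimeCore p H)) :=
      H1.Cores.pCore_le_sylow (S.mapSurjective hf)
    obtain ⟨s, hs, hsb⟩ := h3 h2
    have h4 : (⟨b, hbH⟩ : H) * s⁻¹ ∈ pPrimeCore p H := by
      rw [← QuotientGroup.ker_mk' (pPrimeCore p H), MonoidHom.mem_ker, map_mul, map_inv, hsb, mul_inv_cancel]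
    have h5 : s ∈ P := by
      refine ⟨hs, ?_⟩
      show QuotientGroup.mk' (pPrimeCore p H) s ∈ pCore p (H ⧸ pPrimeCore p H)
      rw [hsb]; exact h2
    have h6 : (⟨b, hbH⟩ : H) = (⟨b, hbH⟩ * s⁻¹) * s := by group
    rw [h6]
    exact mul_mem (mem_sup_left h4) (mem_sup_right h5)
  obtain ⟨h, hh, hhb⟩ := exists_conj_mem (pPrimeCore p H) P coprime_core hPp h1b hbP
  refine ⟨h, hh, ?_⟩
  exact (hK.comm _ (isPGroup_map_subtype hPp) _ (hK.conj b hb h) a ha ⟨_, hhb, rfl⟩
    ⟨⟨a, haH⟩, ⟨hS (mem_zpowers _), haL⟩, rfl⟩).1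

end Main

end H29.TwoGen
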