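import Cfsg.Agent.Lib.H29.TwoGen3

/-!
Thompson's theorem on groups all of whose 2-generated subgroups are solvable: the structure of `⟨a, g⟩`.
-/

set_option autoImplicit false

open Cfsg Subgroup

namespace H29.TwoGen

universe u

variable {G : Type u} [Group G] [Finite G] {p : ℕ} [hp : Fact p.Prime] {K : Set G}

theorem mem_zpowers_of_comm (c : Ctx G) (hK : KSet p K) (hp5 : 5 ≤ p) {H : Subgroup G} (hH : H ≠ ⊤) {a b : G}
    (ha : a ∈ K) (haH : a ∈ H) (hb : b ∈ K) (hbH : b ∈ H) (hba : Commute b a)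
    (hn : ¬ H ≤ normalizer (AA c hK hp5 ha : Set G)) : b ∈ zpowers a := by
  by_contra hbz
  apply hn
  set O := (pPrimeCore p H).map H.subtype with hO
  have haA : a ∈ AA c hK hp5 ha := Or.inr ⟨ha, Commute.refl a⟩
  have hbA : b ∈ AA c hK hp5 ha := Or.inr ⟨hb, hba⟩
  set B := zpowers a ⊔ zpowers b with hB
  have hBA : B ≤ AA c hK hp5 ha := sup_le (by rwa [zpowers_le]) (by rwa [zpowers_le])
  have hBH : B ≤ H := sup_le (by rwa [zpowers_le]) (by rwa [zpowers_le])
  have hBc : IsMulCommutative B := by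
    refine ⟨⟨?_⟩⟩
    rintro ⟨x, hx⟩ ⟨y, hy⟩
    exact Subtype.ext (AA_comm c hK hp5 ha (hBA hx) (hBA hy)).eq
  have hBp : IsPGroup p B := (AA_isPGroup c hK hp5 ha).to_le hBA
  have hBn : ¬ IsCyclic B := by
    intro hcyc
    obtain ⟨⟨g, hgB⟩, hg⟩ := hcyc.exists_generator
    have hcard : Nat.card B = orderOf g := by
      rw [← orderOf_eq_card_of_forall_mem_zpowers hg, Subgroup.orderOf_mk]
    have hog : orderOf g ∣ p := by
      rcases hBA hgB with rfl | ⟨h, -⟩
      · rw [orderOf_one]; exact one_dvd _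
      · rw [hK.ord g h]
    have hle : zpowers a ≤ B := le_sup_left
    have heq : zpowers a = B := by
      apply Subgroup.eq_of_le_of_card_ge hle
      rw [hcard, Nat.card_zpowers, hK.ord a ha]
      exact Nat.le_of_dvd hp.out.pos hog
    apply hbz
    rw [heq]
    exact mem_sup_right (mem_zpowers b)
  have hOcard : (Nat.card O).Coprime p := by
    rw [hO, card_map_of_injective H.subtype_injective]; exact coprime_core
  have hcop : (Nat.card B).Coprime (Nat.card O) := by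
    obtain ⟨k, hk⟩ := IsPGroup.iff_card.mp hBp
    rw [hk]
    exact Nat.Coprime.pow_left k hOcard.symm
  have hHO : H ≤ normalizer (O : Set G) := by
    have key : ∀ y ∈ H, ∀ d ∈ O, y * d * y⁻¹ ∈ O := by
      rintro y hy _ ⟨d, hd, rfl⟩
      exact ⟨_, (inferInstance : (pPrimeCore p H).Normal).conj_mem d hd ⟨y, hy⟩, rfl⟩
    intro y hy
    rw [mem_normalizer_iff]
    intro x
    refine ⟨key y hy x, fun h => ?_⟩
    have := key y⁻¹ (inv_mem hy) _ h
    have h5 : y⁻¹ * (y * x * y⁻¹) * y⁻¹⁻¹ = x := by group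
    rwa [h5] at this
  have hON : O ≤ normalizer (AA c hK hp5 ha : Set G) := by
    refine Gen.le_of_cent hBc hBn (hBH.trans hHO) hcop ?_
    intro x hx hx1
    refine inf_le_right.trans ?_
    rcases hBA hx with h | ⟨hxK, hxa⟩
    · exact absurd h hx1
    · exact cent_le_norm c hK hp5 ha hxK hxa
  intro h hh
  rw [mem_norm_AA]
  have hbK := hK.conj a ha h
  have hbH' : h * a * h⁻¹ ∈ H := mul_mem (mul_mem hh haH) (inv_mem hh)
  obtain ⟨o, ho, hoc⟩ := exists_comm_conj c hK hp5 hH ha haH hbK hbH'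
  have hoN : (o : G) ∈ normalizer (AA c hK hp5 ha : Set G) := hON ⟨o, ho, rfl⟩
  have h1 : (o : G) * (h * a * h⁻¹) * (o : G)⁻¹ ∈ AA c hK hp5 ha := Or.inr ⟨hK.conj _ hbK _, hoc⟩
  have h2 := (mem_normalizer_iff.mp hoN (h * a * h⁻¹)).mpr h1
  exact AA_comm c hK hp5 ha h2 haA

theorem mk_mem_zpowers (c : Ctx G) (hK : KSet p K) (hp5 : 5 ≤ p) {H : Subgroup G} (hH : H ≠ ⊤) {a b : G}
    (ha : a ∈ K) (haH : a ∈ H) (hb : b ∈ K) (hbH : b ∈ H)
    (hn : ¬ H ≤ normalizer (AA c hK hp5 ha : Set G)) :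
    QuotientGroup.mk' (pPrimeCore p H) ⟨b, hbH⟩ ∈ zpowers (QuotientGroup.mk' (pPrimeCore p H) ⟨a, haH⟩) := by
  obtain ⟨o, ho, hoc⟩ := exists_comm_conj c hK hp5 hH ha haH hb hbH
  have h1 := mem_zpowers_of_comm c hK hp5 hH ha haH (hK.conj b hb o)
    (mul_mem (mul_mem o.2 hbH) (inv_mem o.2)) hoc hn
  obtain ⟨n, hn⟩ := mem_zpowers_iff.mp h1
  have h2 : (⟨a, haH⟩ : H) ^ n = o * ⟨b, hbH⟩ * o⁻¹ := by
    apply Subtype.ext
    push_cast
    exact hn
  have h3 : QuotientGroup.mk' (pPrimeCore p H) o = 1 := by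
    rw [← MonoidHom.mem_ker, QuotientGroup.ker_mk']; exact ho
  have h4 := congrArg (QuotientGroup.mk' (pPrimeCore p H)) h2
  rw [map_zpow, map_mul, map_mul, map_inv, h3, one_mul, inv_one, mul_one] at h4
  exact ⟨n, h4⟩

/-- the condition: the `p`-elements of `⟨g⟩` are in `K ∪ 1`. -/
def Good (p : ℕ) (K : Set G) (g : G) : Prop := ∀ d ∈ zpowers g, IsPGroup p (zpowers d) → d = 1 ∨ d ∈ K

omit [Finite G] hp in
theorem closure_pair_top (a g : G) (ha : a ∈ closure ({a, g} : Set G)) (hg : g ∈ closure ({a, g} : Set G)) :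
    closure ({⟨a, ha⟩, ⟨g, hg⟩} : Set (closure ({a, g} : Set G))) = ⊤ := by
  have h := Subgroup.closure_closure_coe_preimage (k := ({a, g} : Set G))
  rw [← h]
  congr 1
  ext x
  simp only [Set.mem_insert_iff, Set.mem_singleton_iff, Set.mem_preimage]
  constructor
  · rintro (rfl | rfl) <;> simp
  · rintro (h | h)
    · exact Or.inl (Subtype.ext h)
    · exact Or.inr (Subtype.ext h)

/-- Lemma M. -/
theorem main_struct (c : Ctx G) (hK : KSet p K) (hp5 : 5 ≤ p) {a g : G} (ha : a ∈ K)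
    (haH : a ∈ closure ({a, g} : Set G)) (hgood : Good p K g)
    (hn : g ∉ normalizer (AA c hK hp5 ha : Set G)) :
    ∀ d : closure ({a, g} : Set G), IsPGroup p (zpowers (d : G)) →
      QuotientGroup.mk' (pPrimeCore p (closure ({a, g} : Set G))) d ∈
        zpowers (QuotientGroup.mk' (pPrimeCore p (closure ({a, g} : Set G))) ⟨a, haH⟩) := by
  set H := closure ({a, g} : Set G) with hHdef
  have hH : H ≠ ⊤ := c.two a g
  have hgH : g ∈ H := subset_closure (by simp)
  have hnle : ¬ H ≤ normalizer (AA c hK hp5 ha : Set G) := fun h => hn (h hgH)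
  set O := pPrimeCore p H with hO
  set π := QuotientGroup.mk' O with hπ
  have hπs : Function.Surjective π := QuotientGroup.mk'_surjective O
  set Z := zpowers (π ⟨a, haH⟩) with hZ
  have hZn : Z.Normal := by
    refine ⟨fun x hx y => ?_⟩
    obtain ⟨h, rfl⟩ := hπs y
    obtain ⟨n, rfl⟩ := mem_zpowers_iff.mp hx
    have h1 : π h * (π ⟨a, haH⟩) ^ n * (π h)⁻¹ = (π h * π ⟨a, haH⟩ * (π h)⁻¹) ^ n := by
      rw [conj_zpow]
    rw [h1]
    apply zpow_mem
    have h2 := mk_mem_zpowers c hK hp5 hH ha haH (hK.conj a ha h) (mul_mem (mul_mem h.2 haH) (inv_mem h.2)) hnle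
    have h3 : (⟨(h : G) * a * (h : G)⁻¹, mul_mem (mul_mem h.2 haH) (inv_mem h.2)⟩ : H) = h * ⟨a, haH⟩ * h⁻¹ := rfl
    rw [h3, map_mul, map_mul, map_inv] at h2
    exact h2
  set φ := (QuotientGroup.mk' Z).comp π with hφ
  have hφs : Function.Surjective φ := (QuotientGroup.mk'_surjective Z).comp hπs
  have hφ1 : ∀ x : H, φ x = 1 ↔ π x ∈ Z := by
    intro x
    rw [hφ, MonoidHom.comp_apply, ← MonoidHom.mem_ker, QuotientGroup.ker_mk']
  have hφa : φ ⟨a, haH⟩ = 1 := by rw [hφ1]; exact mem_zpowers _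
  -- decomposition of `g`
  obtain ⟨u, v, huv, ⟨k, hk⟩, hv⟩ := H26.TransferPow.exists_pPart p g
  have hgu : φ (⟨g, hgH⟩ ^ u) = 1 := by
    have hgood' := hgood (g ^ u) ⟨u, by simp⟩ (isPGroup_zpowers_of_pow hk)
    rcases hgood' with h | h
    · have : (⟨g, hgH⟩ : H) ^ u = 1 := Subtype.ext (by push_cast; exact h)
      rw [this, map_one]
    · rw [hφ1]
      exact mk_mem_zpowers c hK hp5 hH ha haH h (pow_mem hgH u) hnle
  have hgv : φ ⟨g, hgH⟩ = φ (⟨g, hgH⟩ ^ v) := by
    have h1 : (⟨g, hgH⟩ : H) = ⟨g, hgH⟩ ^ u * ⟨g, hgH⟩ ^ v := Subtype.ext (by push_cast; exact huv)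
    conv_lhs => rw [h1]
    rw [map_mul, hgu, one_mul]
  have hord : (orderOf (φ ⟨g, hgH⟩)).Coprime p := by
    rw [hgv]
    refine Nat.Coprime.coprime_dvd_left ?_ hv
    refine (orderOf_map_dvd φ _).trans ?_
    have : orderOf ((⟨g, hgH⟩ : H) ^ v) = orderOf (g ^ v) := by
      rw [← Subgroup.orderOf_coe]; simp
    rw [this]
  have htop : zpowers (φ ⟨g, hgH⟩) = ⊤ := by
    have h1 := congrArg (Subgroup.map φ) (closure_pair_top a g haH hgH)
    rw [MonoidHom.map_closure, Set.image_pair, hφa, Subgroup.map_top_of_surjective φ hφs] at h1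
    rw [zpowers_eq_closure, ← h1]
    apply le_antisymm
    · exact closure_mono (by simp)
    · rw [closure_le]
      rintro x (rfl | rfl)
      · exact one_mem _
      · exact subset_closure rfl
  intro d hd
  rw [← hφ1]
  have h1 : φ d ∈ zpowers (φ ⟨g, hgH⟩) := by rw [htop]; trivial
  have h2 : orderOf (φ d) ∣ orderOf (φ ⟨g, hgH⟩) := by
    have := Subgroup.orderOf_dvd_natCard _ h1
    rwa [Nat.card_zpowers] at this
  obtain ⟨k', hk'⟩ := IsPGroup.iff_card.mp hd
  rw [Nat.card_zpowers] at hk'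
  have h3 : orderOf (φ d) ∣ p ^ k' := by
    refine (orderOf_map_dvd φ d).trans ?_
    rw [← hk', Subgroup.orderOf_coe]
  rw [← orderOf_eq_one_iff]
  exact Nat.Coprime.eq_one_of_dvd (Nat.Coprime.coprime_dvd_left h2 (Nat.Coprime.pow_right k' hord)) h3

/-- all nontrivial `p`-elements of `⟨a, g⟩` are in `K`. -/
theorem mem_K_of_struct (c : Ctx G) (hK : KSet p K) (hp5 : 5 ≤ p) {a g : G} (ha : a ∈ K) (hgood : Good p K g)
    (hn : g ∉ normalizer (AA c hK hp5 ha : Set G)) {d : G} (hdH : d ∈ closure ({a, g} : Set G))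
    (hd : IsPGroup p (zpowers d)) : d = 1 ∨ d ∈ K := by
  set H := closure ({a, g} : Set G) with hHdef
  have haH : a ∈ H := subset_closure (by simp)
  have h1 := main_struct c hK hp5 ha haH hgood hn ⟨d, hdH⟩ hd
  have hPp : IsPGroup p (zpowers (⟨a, haH⟩ : H)) := by
    rw [IsPGroup.iff_card]
    exact ⟨1, by rw [Nat.card_zpowers, Subgroup.orderOf_mk, hK.ord a ha, pow_one]⟩
  have hdp : IsPGroup p (zpowers (⟨d, hdH⟩ : H)) := by
    rw [IsPGroup.iff_card] at hd ⊢
    simpa [Nat.card_zpowers, Subgroup.orderOf_mk] using hd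
  have h2 : (⟨d, hdH⟩ : H) ∈ pPrimeCore p H ⊔ zpowers ⟨a, haH⟩ := by
    obtain ⟨n, hn⟩ := mem_zpowers_iff.mp h1
    have h3 : (⟨d, hdH⟩ : H) * ((⟨a, haH⟩ : H) ^ n)⁻¹ ∈ pPrimeCore p H := by
      rw [← QuotientGroup.ker_mk' (pPrimeCore p H), MonoidHom.mem_ker, map_mul, map_inv, map_zpow, hn,
        mul_inv_cancel]
    have h4 : (⟨d, hdH⟩ : H) = (⟨d, hdH⟩ * ((⟨a, haH⟩ : H) ^ n)⁻¹) * (⟨a, haH⟩ : H) ^ n := by group
    rw [h4]
    exact mul_mem (mem_sup_left h3) (mem_sup_right (zpow_mem (mem_zpowers _) n))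
  obtain ⟨o, -, ho⟩ := exists_conj_mem (pPrimeCore p H) (zpowers ⟨a, haH⟩) coprime_core hPp hdp h2
  have h5 : (o : G) * d * (o : G)⁻¹ ∈ zpowers a := by
    obtain ⟨n, hn⟩ := mem_zpowers_iff.mp ho
    exact ⟨n, by simpa using congrArg Subtype.val hn⟩
  by_cases hd1 : d = 1
  · exact Or.inl hd1
  · right
    have h6 : (o : G) * d * (o : G)⁻¹ ≠ 1 := by
      intro h
      apply hd1
      have : d = (o : G)⁻¹ * ((o : G) * d * (o : G)⁻¹) * o := by group
      rw [this, h]; group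
    have h7 := hK.conj _ (hK.zpow_mem ha h5 h6) (o : G)⁻¹
    have h8 : (o : G)⁻¹ * ((o : G) * d * (o : G)⁻¹) * (o : G)⁻¹⁻¹ = d := by group
    rwa [h8] at h7

/-- the stabilizer trick for the set of good elements. -/
theorem good_mul (c : Ctx G) (hK : KSet p K) (hp5 : 5 ≤ p) {a g : G} (ha : a ∈ K) (hgood : Good p K g) :
    Good p K (g * a) := by
  intro d hd hdp
  by_cases hn : g ∈ normalizer (AA c hK hp5 ha : Set G)
  · set A := AA c hK hp5 ha with hA
    set M := normalizer (A : Set G) with hM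
    have haA : a ∈ A := Or.inr ⟨ha, Commute.refl a⟩
    have hAM : A ≤ M := le_normalizer
    have hgaM : g * a ∈ M := mul_mem hn (hAM haA)
    have hdM : d ∈ M := (zpowers_le.mpr hgaM) hd
    set f := QuotientGroup.mk' (A.subgroupOf M) with hf
    have hf1 : ∀ x : M, f x = 1 ↔ (x : G) ∈ A := by
      intro x
      rw [hf, ← MonoidHom.mem_ker, QuotientGroup.ker_mk']; rfl
    obtain ⟨u, v, huv, ⟨k, hk⟩, hv⟩ := H26.TransferPow.exists_pPart p g
    have hgu : f (⟨g, hn⟩ ^ u) = 1 := by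
      rw [hf1]
      show g ^ u ∈ A
      rcases hgood (g ^ u) ⟨u, by simp⟩ (isPGroup_zpowers_of_pow hk) with h | h
      · rw [h]; exact one_mem _
      · exact Or.inr ⟨h, norm_K c hK hp5 ha h (pow_mem hn u)⟩
    have hgv : f ⟨g, hn⟩ = f (⟨g, hn⟩ ^ v) := by
      have h1 : (⟨g, hn⟩ : M) = ⟨g, hn⟩ ^ u * ⟨g, hn⟩ ^ v := Subtype.ext (by push_cast; exact huv)
      conv_lhs => rw [h1]
      rw [map_mul, hgu, one_mul]
    have hord : (orderOf (f ⟨g, hn⟩)).Coprime p := by
      rw [hgv]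
      refine Nat.Coprime.coprime_dvd_left ?_ hv
      refine (orderOf_map_dvd f _).trans ?_
      have : orderOf ((⟨g, hn⟩ : M) ^ v) = orderOf (g ^ v) := by
        rw [← Subgroup.orderOf_coe]; simp
      rw [this]
    obtain ⟨n, hn'⟩ := mem_zpowers_iff.mp hd
    have h1 : f ⟨d, hdM⟩ = (f ⟨g, hn⟩) ^ n := by
      have h2 : (⟨d, hdM⟩ : M) = (⟨g, hn⟩ * ⟨a, hAM haA⟩) ^ n := Subtype.ext (by push_cast; exact hn'.symm)
      rw [h2, map_zpow, map_mul, (hf1 ⟨a, hAM haA⟩).mpr haA, mul_one]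
    obtain ⟨k', hk'⟩ := IsPGroup.iff_card.mp hdp
    rw [Nat.card_zpowers] at hk'
    have h3 : orderOf (f ⟨d, hdM⟩) ∣ p ^ k' := by
      refine (orderOf_map_dvd f _).trans ?_
      rw [← hk', Subgroup.orderOf_mk]
    have h4 : orderOf (f ⟨d, hdM⟩) ∣ orderOf (f ⟨g, hn⟩) := by
      have h6 : f ⟨d, hdM⟩ ∈ zpowers (f ⟨g, hn⟩) := ⟨n, h1.symm⟩
      have := Subgroup.orderOf_dvd_natCard _ h6
      rwa [Nat.card_zpowers] at this
    have h5 : f ⟨d, hdM⟩ = 1 := by
      rw [← orderOf_eq_one_iff]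
      exact Nat.Coprime.eq_one_of_dvd (Nat.Coprime.coprime_dvd_left h4 (Nat.Coprime.pow_right k' hord)) h3
    rw [hf1] at h5
    rcases h5 with h | ⟨h, -⟩
    · exact Or.inl h
    · exact Or.inr h
  · apply mem_K_of_struct c hK hp5 ha hgood hn _ hdp
    have h1 : g * a ∈ closure ({a, g} : Set G) :=
      mul_mem (subset_closure (by simp)) (subset_closure (by simp))
    exact (zpowers_le.mpr h1) hd

/-- all nontrivial `p`-elements are in `K`. -/
theorem closure_K (c : Ctx G) (hK : KSet p K) (hne : K.Nonempty) : closure K = ⊤ := by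
  haveI := c.simple
  have hn : (closure K).Normal := by
    refine ⟨fun x hx g => ?_⟩
    have h1 : (closure K).map (MulAut.conj g).toMonoidHom ≤ closure K := by
      rw [MonoidHom.map_closure, closure_le]
      rintro _ ⟨y, hy, rfl⟩
      exact subset_closure (hK.conj y hy g)
    exact h1 ⟨x, hx, rfl⟩
  rcases hn.eq_bot_or_eq_top with h | h
  · obtain ⟨a, ha⟩ := hne
    exfalso
    apply hK.ne_one ha
    have : a ∈ closure K := subset_closure ha
    rwa [h, mem_bot] at this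
  · exact h

theorem all_mem (c : Ctx G) (hK : KSet p K) (hp5 : 5 ≤ p) (hne : K.Nonempty) {x : G}
    (hx : IsPGroup p (zpowers x)) (hx1 : x ≠ 1) : x ∈ K := by
  have key : ∀ y ∈ closure K, ∀ g : G, Good p K g → Good p K (g * y) := by
    intro y hy
    refine closure_induction (p := fun y _ => ∀ g : G, Good p K g → Good p K (g * y)) ?_ ?_ ?_ ?_ hy
    · intro a ha g hg
      exact good_mul c hK hp5 ha hg
    · intro g hg; rwa [mul_one]
    · intro y z _ _ hy hz g hg
      rw [← mul_assoc]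
      exact hz _ (hy _ hg)
    · intro y _ hy g hg
      have hpow : ∀ n : ℕ, ∀ g : G, Good p K g → Good p K (g * y ^ n) := by
        intro n
        induction n with
        | zero => intro g hg; rwa [pow_zero, mul_one]
        | succ n ih =>
          intro g hg
          rw [pow_succ, ← mul_assoc]
          exact hy _ (ih g hg)
      have h1 : y⁻¹ = y ^ (orderOf y - 1) := by
        rw [inv_eq_iff_mul_eq_one, ← pow_succ']
        rw [Nat.sub_add_cancel (orderOf_pos y), pow_orderOf_eq_one]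
      rw [h1]
      exact hpow _ g hg
  have h1 : Good p K (1 : G) := by
    intro d hd _
    left
    simpa using hd
  have h2 := key x (by rw [closure_K c hK hne]; trivial) 1 h1
  rw [one_mul] at h2
  rcases h2 x (mem_zpowers x) hx with h | h
  · exact absurd h hx1
  · exact h

end H29.TwoGen
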