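import Cfsg.Agent.Lib.H29.TwoGen4

/-!
Thompson's theorem on groups all of whose 2-generated subgroups are solvable: the affine plane argument.
-/

set_option autoImplicit false

open Cfsg Subgroup

namespace H29.TwoGen

universe u

section Plane

variable {F : Type*} [Field F]

/-- two points of `R` determine a line inside `R`. -/
theorem line_of_two (R : F → F → Prop)
    (hl : ∀ i j u v : F, (u ≠ 0 ∨ v ≠ 0) → (∀ t, R (i + t * u) (j + t * v)) ∨ (∃! t, R (i + t * u) (j + t * v)))
    {i j i' j' : F} (h : R i j) (h' : R i' j') (hne : i' - i ≠ 0 ∨ j' - j ≠ 0) (t : F) :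
    R (i + t * (i' - i)) (j + t * (j' - j)) := by
  rcases hl i j _ _ hne with h1 | ⟨s, -, hs⟩
  · exact h1 t
  · exfalso
    have e0 := hs 0 (by simpa using h)
    have e1 := hs 1 (by
      show R (i + 1 * (i' - i)) (j + 1 * (j' - j))
      rw [one_mul, one_mul, add_sub_cancel, add_sub_cancel]; exact h')
    rw [← e1] at e0
    exact zero_ne_one e0

theorem plane_contra (h2 : (2 : F) ≠ 0) (R : F → F → Prop) (h0 : ¬ R 0 0)
    (hl : ∀ i j u v : F, (u ≠ 0 ∨ v ≠ 0) → (∀ t, R (i + t * u) (j + t * v)) ∨ (∃! t, R (i + t * u) (j + t * v))) :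
    False := by
  have hex : ∀ u v : F, (u ≠ 0 ∨ v ≠ 0) → ∃! t, R (t * u) (t * v) := by
    intro u v huv
    rcases hl 0 0 u v huv with h | h
    · exfalso; apply h0; simpa using h 0
    · simpa using h
  obtain ⟨i0, hi0, hi⟩ := hex 1 0 (Or.inl one_ne_zero)
  obtain ⟨j0, hj0, hj⟩ := hex 0 1 (Or.inr one_ne_zero)
  simp only [mul_one, mul_zero] at hi0 hi hj0 hj
  have hi0' : i0 ≠ 0 := by rintro rfl; exact h0 hi0
  have hj0' : j0 ≠ 0 := by rintro rfl; exact h0 hj0
  obtain ⟨s, hs0, hs⟩ := hex (-i0) j0 (Or.inl (neg_ne_zero.mpr hi0'))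
  have hs0' : s ≠ 0 := by rintro rfl; apply h0; simpa using hs0
  by_cases hs1 : s = -1
  · subst hs1
    have e := line_of_two R hl hj0 hs0 (Or.inl (by simpa using hi0')) (1 / 2)
    have e1 : (0 : F) + 1 / 2 * (-1 * -i0 - 0) = i0 / 2 := by ring
    have e2 : j0 + 1 / 2 * (-1 * j0 - j0) = 0 := by field_simp; ring
    rw [e1, e2] at e
    have e3 := hi _ e
    have e4 : i0 = 0 := by
      rw [div_eq_iff h2] at e3
      linear_combination -e3
    exact hi0' e4
  · have hs2 : s + 1 ≠ 0 := fun h => hs1 (eq_neg_of_add_eq_zero_left h)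
    have e := line_of_two R hl hi0 hs0 (Or.inr (by simpa using ⟨hs0', hj0'⟩)) (1 / (s + 1))
    have e1 : i0 + 1 / (s + 1) * (s * -i0 - i0) = 0 := by field_simp; ring
    have e2 : (0 : F) + 1 / (s + 1) * (s * j0 - 0) = s / (s + 1) * j0 := by ring
    rw [e1, e2] at e
    have e3 := hj _ e
    have e4 : s / (s + 1) = 1 := by
      apply mul_right_cancel₀ hj0'
      rw [e3, one_mul]
    rw [div_eq_one_iff_eq hs2] at e4
    have : (1 : F) = 0 := by linear_combination -e4
    exact one_ne_zero this

end Plane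

variable {G : Type u} [Group G] [Finite G] {p : ℕ} [hp : Fact p.Prime] {K : Set G}

/-- the line lemma. -/
theorem line_lemma (c : Ctx G) (hK : KSet p K) (hp5 : 5 ≤ p)
    (hall : ∀ x : G, IsPGroup p (zpowers x) → x ≠ 1 → x ∈ K) {a g : G} (ha : a ∈ K)
    (hn : g ∉ normalizer (AA c hK hp5 ha : Set G)) :
    (∀ n : ℕ, ¬ p ∣ orderOf (a ^ n * g)) ∨ ∃ j : ℕ, ∀ n : ℕ, ¬ p ∣ orderOf (a ^ n * g) ↔ p ∣ n + j := by
  have hgood : Good p K g := by
    intro d _ hd
    by_cases hd1 : d = 1
    · exact Or.inl hd1
    · exact Or.inr (hall d hd hd1)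
  have haH : a ∈ closure ({a, g} : Set G) := subset_closure (by simp)
  have hM := main_struct c hK hp5 ha haH hgood hn
  set H := closure ({a, g} : Set G) with hHdef
  have hgH : g ∈ H := subset_closure (by simp)
  set O := pPrimeCore p H with hO
  set π := QuotientGroup.mk' O with hπ
  have hπs : Function.Surjective π := QuotientGroup.mk'_surjective O
  set A : H := ⟨a, haH⟩ with hA
  set g' : H := ⟨g, hgH⟩ with hg'
  have hoA : orderOf (π A) = p := by
    have h1 : orderOf (π A) ∣ p := by
      refine (orderOf_map_dvd π A).trans ?_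
      rw [hA, Subgroup.orderOf_mk, hK.ord a ha]
    have h2 : p ∣ orderOf (π A) := by
      rw [dvd_orderOf_mk_iff O coprime_core, hA, Subgroup.orderOf_mk, hK.ord a ha]
    exact Nat.dvd_antisymm h1 h2
  have hreg : ∀ x : H, p ∣ orderOf (π x) ↔ p ∣ orderOf (x : G) := by
    intro x
    rw [dvd_orderOf_mk_iff O coprime_core, Subgroup.orderOf_coe]
  by_cases hcom : Commute (π g') (π A)
  · right
    obtain ⟨u, v, huv, ⟨k, hk⟩, hv⟩ := H26.TransferPow.exists_pPart p g
    have hgu : π (g' ^ u) ∈ zpowers (π A) := by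
      apply hM
      have : ((g' ^ u : H) : G) = g ^ u := by simp [hg']
      rw [this]
      exact isPGroup_zpowers_of_pow hk
    have hgv : π (g' ^ v) = 1 := by
      have hcl : closure ({π A, π g'} : Set (H ⧸ O)) = ⊤ := by
        have h1 := congrArg (Subgroup.map π) (closure_pair_top a g haH hgH)
        rw [MonoidHom.map_closure, Set.image_pair, Subgroup.map_top_of_surjective π hπs] at h1
        exact h1
      have hcen : ∀ y : H ⧸ O, Commute (π g') y := by
        intro y
        have hy : y ∈ closure ({π A, π g'} : Set (H ⧸ O)) := by rw [hcl]; trivial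
        refine closure_induction (p := fun y _ => Commute (π g') y) ?_ (Commute.one_right _) ?_ ?_ hy
        · rintro z (rfl | rfl)
          · exact hcom
          · exact Commute.refl _
        · intro y z _ _ hy hz; exact hy.mul_right hz
        · intro y _ hy; exact hy.inv_right
      have hN : (zpowers (π (g' ^ v))).Normal := by
        refine ⟨fun x hx y => ?_⟩
        obtain ⟨m, rfl⟩ := mem_zpowers_iff.mp hx
        have h1 : Commute y ((π (g' ^ v)) ^ m) := by
          rw [map_pow]
          exact ((hcen y).symm.pow_right v).zpow_right m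
        rw [h1.eq, mul_assoc, mul_inv_cancel, mul_one]
        exact hx
      have hcard : (Nat.card (zpowers (π (g' ^ v)))).Coprime p := by
        rw [Nat.card_zpowers]
        refine Nat.Coprime.coprime_dvd_left ?_ hv
        refine (orderOf_map_dvd π _).trans ?_
        have : orderOf (g' ^ v) = orderOf (g ^ v) := by
          rw [← Subgroup.orderOf_coe]; simp [hg']
        rw [this]
      have h2 := H1.Cores.le_pPrimeCore hN hcard
      rw [H1.Cores.pPrimeCore_quotient_pPrimeCore p, le_bot_iff, zpowers_eq_bot] at h2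
      exact h2
    have hgA : π g' ∈ zpowers (π A) := by
      have h1 : g' = g' ^ u * g' ^ v := Subtype.ext (by simp only [hg']; push_cast; exact huv)
      rw [h1, map_mul, hgv, mul_one]
      exact hgu
    obtain ⟨j, hj⟩ := (mem_powers_iff_mem_zpowers.mpr hgA)
    refine ⟨j, fun n => ?_⟩
    have h1 : π (A ^ n * g') = (π A) ^ (n + j) := by
      rw [map_mul, map_pow, pow_add]
      congr 1
      exact hj.symm
    have h2 : ((A ^ n * g' : H) : G) = a ^ n * g := by simp [hA, hg']
    rw [← h2, ← hreg, h1]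
    constructor
    · intro h
      by_contra hd
      apply h
      have hcop : (orderOf (π A)).Coprime (n + j) := by
        rw [hoA]; exact (Nat.Prime.coprime_iff_not_dvd hp.out).mpr hd
      rw [hcop.orderOf_pow, hoA]
    · intro h
      obtain ⟨m, hm⟩ := h
      rw [hm, pow_mul]
      have : (π A) ^ p = 1 := orderOf_dvd_iff_pow_eq_one.mp (dvd_of_eq hoA)
      rw [this, one_pow, orderOf_one]
      exact hp.out.one_lt.ne' ∘ Nat.dvd_one.mp
  · left
    intro n hd
    apply hcom
    set x : H := A ^ n * g' with hx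
    have h2 : (x : G) = a ^ n * g := by simp [hx, hA, hg']
    rw [← h2] at hd
    obtain ⟨u, v, huv, ⟨k, hk⟩, hv⟩ := H26.TransferPow.exists_pPart p (x : G)
    have hu1 : (x : G) ^ u ≠ 1 := by
      intro h
      rw [h, one_mul] at huv
      rw [← huv] at hv
      exact (Nat.Prime.coprime_iff_not_dvd hp.out).mp hv.symm hd
    have hxu : π (x ^ u) ∈ zpowers (π A) := by
      apply hM
      have : ((x ^ u : H) : G) = (x : G) ^ u := by simp
      rw [this]
      exact isPGroup_zpowers_of_pow hk
    have hxu1 : π (x ^ u) ≠ 1 := by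
      intro h
      rw [← MonoidHom.mem_ker, QuotientGroup.ker_mk'] at h
      have h3 : IsPGroup p (zpowers (x ^ u)) := by
        apply isPGroup_zpowers_of_pow (k := k)
        rw [← Subgroup.orderOf_coe]; simpa using hk
      have h4 := eq_one_of_mem coprime_core h3 h
      apply hu1
      have := congrArg Subtype.val h4
      simpa using this
    have hAx : π A ∈ zpowers (π (x ^ u)) := by
      -- zpowers (π A) has prime order
      have hle : zpowers (π (x ^ u)) ≤ zpowers (π A) := by rwa [zpowers_le]
      have hcard : Nat.card (zpowers (π A)) = p := by rw [Nat.card_zpowers, hoA]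
      have h5 : Nat.card (zpowers (π (x ^ u))) ∣ p := (card_dvd_of_le hle).trans (dvd_of_eq hcard)
      rcases (Nat.dvd_prime hp.out).mp h5 with h6 | h6
      · exfalso
        apply hxu1
        rw [← zpowers_eq_bot]
        exact Subgroup.card_eq_one.mp h6
      · have h7 : zpowers (π (x ^ u)) = zpowers (π A) :=
          Subgroup.eq_of_le_of_card_ge hle (by rw [hcard, h6])
        rw [h7]; exact mem_zpowers _
    have h8 : Commute (π x) (π A) := by
      obtain ⟨m, hm⟩ := mem_zpowers_iff.mp hAx
      rw [← hm, map_pow]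
      exact ((Commute.refl (π x)).pow_right u).zpow_right m
    have h9 : π g' = ((π A) ^ n)⁻¹ * π x := by
      rw [hx, map_mul, map_pow]; group
    rw [h9]
    exact (((Commute.refl (π A)).pow_left n).inv_left).mul_left h8

/-- some element of `K` does not commute with `a`. -/
theorem exists_not_comm (c : Ctx G) (hK : KSet p K) {a : G} (ha : a ∈ K) : ∃ b ∈ K, ¬ Commute b a := by
  by_contra hcon
  push Not at hcon
  have h1 : closure K ≤ centralizer ({a} : Set G) := by
    rw [closure_le]
    intro b hb
    exact mem_centralizer_singleton_iff.mpr (hcon b hb).eq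
  rw [closure_K c hK ⟨a, ha⟩] at h1
  exact c.centralizer_ne_top (hK.ne_one ha) (top_le_iff.mp h1)

omit [Finite G] in
theorem pow_val_add {a : G} (ha : orderOf a = p) (i j : ZMod p) : a ^ (i + j).val = a ^ i.val * a ^ j.val := by
  rw [← pow_add, pow_eq_pow_iff_modEq, ha, ZMod.val_add]
  exact Nat.mod_modEq _ _

omit [Finite G] in
theorem pow_val_mul {a : G} (ha : orderOf a = p) (i j : ZMod p) : a ^ (i * j).val = (a ^ j.val) ^ i.val := by
  rw [← pow_mul, pow_eq_pow_iff_modEq, ha, ZMod.val_mul, mul_comm i.val]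
  exact Nat.mod_modEq _ _

/-- the rank of `K` is one. -/
theorem rank_one (c : Ctx G) (hK : KSet p K) (hp5 : 5 ≤ p)
    (hall : ∀ x : G, IsPGroup p (zpowers x) → x ≠ 1 → x ∈ K) {a a' : G} (ha : a ∈ K) (ha' : a' ∈ K)
    (haa : Commute a' a) : a' ∈ zpowers a := by
  by_contra hnz
  obtain ⟨b, hb, hba⟩ := exists_not_comm c hK ha
  haveI : NeZero p := ⟨hp.out.ne_zero⟩
  set E : ZMod p → ZMod p → G := fun i j => a ^ i.val * a' ^ j.val with hE
  have hoa := hK.ord a ha
  have hoa' := hK.ord a' ha'
  have hEadd : ∀ i j i' j', E (i + i') (j + j') = E i' j' * E i j := by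
    intro i j i' j'
    simp only [hE]
    rw [add_comm i i', add_comm j j', pow_val_add hoa, pow_val_add hoa']
    have h1 : Commute (a ^ i.val) (a' ^ j'.val) := (haa.symm.pow_pow _ _)
    calc a ^ i'.val * a ^ i.val * (a' ^ j'.val * a' ^ j.val)
        = a ^ i'.val * (a ^ i.val * a' ^ j'.val) * a' ^ j.val := by group
      _ = a ^ i'.val * (a' ^ j'.val * a ^ i.val) * a' ^ j.val := by rw [h1.eq]
      _ = a ^ i'.val * a' ^ j'.val * (a ^ i.val * a' ^ j.val) := by group
  have hEmul : ∀ t i j : ZMod p, E (t * i) (t * j) = (E i j) ^ t.val := by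
    intro t i j
    simp only [hE]
    rw [pow_val_mul hoa, pow_val_mul hoa']
    have h1 : Commute (a ^ i.val) (a' ^ j.val) := (haa.symm.pow_pow _ _)
    rw [h1.mul_pow]
  have haA : a ∈ AA c hK hp5 ha := Or.inr ⟨ha, Commute.refl a⟩
  have haA' : a' ∈ AA c hK hp5 ha := Or.inr ⟨ha', haa⟩
  have hEA : ∀ i j, E i j ∈ AA c hK hp5 ha := fun i j => mul_mem (pow_mem haA _) (pow_mem haA' _)
  have hE1 : ∀ i j, E i j = 1 → i = 0 ∧ j = 0 := by
    intro i j h
    have hj : j = 0 := by
      by_contra hj
      apply hnz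
      -- a'^j ∈ zpowers a
      have h1 : a' ^ j.val ∈ zpowers a := by
        have : a' ^ j.val = (a ^ i.val)⁻¹ := by
          rw [eq_inv_iff_mul_eq_one]
          have h2 : Commute (a ^ i.val) (a' ^ j.val) := (haa.symm.pow_pow _ _)
          rw [← h2.eq]; exact h
        rw [this]
        exact inv_mem (pow_mem (mem_zpowers _) _)
      have h3 : a' = (a' ^ j.val) ^ (j⁻¹).val := by
        rw [← pow_val_mul hoa', inv_mul_cancel₀ hj]
        rw [ZMod.val_one, pow_one]
      rw [h3]
      exact pow_mem h1 _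
    subst hj
    refine ⟨?_, rfl⟩
    by_contra hi
    have h4 : a ^ i.val = 1 := by simpa [hE] using h
    have h5 : a = (a ^ i.val) ^ (i⁻¹).val := by
      rw [← pow_val_mul hoa, inv_mul_cancel₀ hi, ZMod.val_one, pow_one]
    rw [h4, one_pow] at h5
    exact hK.ne_one ha h5
  have hEK : ∀ i j, (i ≠ 0 ∨ j ≠ 0) → E i j ∈ K := by
    intro i j hij
    rcases hEA i j with h | ⟨h, -⟩
    · have := hE1 i j h
      rcases hij with h' | h'
      · exact absurd this.1 h'
      · exact absurd this.2 h'
    · exact h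
  have hEa : ∀ i j, Commute (E i j) a := fun i j => AA_comm c hK hp5 ha (hEA i j) haA
  -- the plane
  refine plane_contra (F := ZMod p) ?_ (fun i j => ¬ p ∣ orderOf (E i j * b)) ?_ ?_
  · intro h
    have : ((2 : ℕ) : ZMod p) = 0 := by exact_mod_cast h
    rw [ZMod.natCast_eq_zero_iff] at this
    have := Nat.le_of_dvd (by norm_num) this
    omega
  · simp only [hE, not_not]
    rw [ZMod.val_zero, pow_zero, pow_zero, one_mul, one_mul, hK.ord b hb]
  · intro i j u v huv
    have hcK := hEK u v huv
    have hn : E i j * b ∉ normalizer (AA c hK hp5 hcK : Set G) := by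
      intro h
      have h1 : E i j ∈ AA c hK hp5 hcK := by
        rcases hEA i j with h | ⟨h, h'⟩
        · exact Or.inl h
        · exact Or.inr ⟨h, comm_trans c hK hp5 ha h hcK h'.symm (hEa u v).symm⟩
      have h2 : b ∈ normalizer (AA c hK hp5 hcK : Set G) := by
        have h3 : b = (E i j)⁻¹ * (E i j * b) := by group
        rw [h3]
        exact mul_mem (inv_mem (le_normalizer h1)) h
      have h4 := norm_K c hK hp5 hcK hb h2
      exact hba (comm_trans c hK hp5 hcK hb ha h4.symm (hEa u v))
    have hpt : ∀ t : ZMod p, E (i + t * u) (j + t * v) * b = (E u v) ^ t.val * (E i j * b) := by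
      intro t
      rw [hEadd, hEmul, mul_assoc]
    rcases line_lemma c hK hp5 hall hcK hn with h | ⟨m, hm⟩
    · left
      intro t
      rw [hpt]
      exact h _
    · right
      refine ⟨-(m : ZMod p), ?_, ?_⟩
      · show ¬ p ∣ orderOf (E (i + -(m : ZMod p) * u) (j + -(m : ZMod p) * v) * b)
        rw [hpt, hm]
        rw [← ZMod.natCast_eq_zero_iff]
        push_cast
        rw [ZMod.natCast_zmod_val]
        ring
      · intro t ht
        have ht' : ¬ p ∣ orderOf (E (i + t * u) (j + t * v) * b) := ht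
        rw [hpt, hm, ← ZMod.natCast_eq_zero_iff] at ht'
        push_cast at ht'
        rw [ZMod.natCast_zmod_val] at ht'
        linear_combination ht'

end H29.TwoGen
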