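import Cfsg.Agent.Lib.H29.TwoGen5

/-!
Thompson's theorem on groups all of whose 2-generated subgroups are solvable: the final count.
-/

set_option autoImplicit false

open Cfsg Subgroup

namespace H29.TwoGen

universe u

variable {G : Type u} [Group G] [Finite G] {p : ℕ} [hp : Fact p.Prime] {K : Set G}

/-- `C(a) = ⟨a⟩`. -/
theorem centralizer_eq (c : Ctx G) (hK : KSet p K)
    (hall : ∀ x : G, IsPGroup p (zpowers x) → x ≠ 1 → x ∈ K)
    (hrk : ∀ a ∈ K, ∀ b ∈ K, Commute b a → b ∈ zpowers a) {a : G} (ha : a ∈ K) :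
    centralizer ({a} : Set G) ≤ zpowers a := by
  have ha1 := hK.ne_one ha
  have hpd : p ∣ Nat.card G := by rw [← hK.ord a ha]; exact _root_.orderOf_dvd_natCard a
  have hC := c.centralizer_ne_top ha1
  set C := centralizer ({a} : Set G) with hCdef
  have hcore : pPrimeCore p C = ⊥ := c.core_centralizer hpd ha1 (hK.isPGroup ha)
  have hs : Group.IsSolvable C := c.prop C hC
  have h1 := Cfsg.Agent.S0017.result (G := C) p hcore
  have h2 : ∀ x : C, x ∈ pCore p C → (x : G) ∈ zpowers a := by
    intro x hx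
    by_cases hx1 : (x : G) = 1
    · rw [hx1]; exact one_mem _
    · have hxp : IsPGroup p (zpowers (x : G)) := by
        have h3 : IsPGroup p (zpowers x) := (H1.Cores.isPGroup_pCore (G := C) p).to_le (by rwa [zpowers_le])
        rw [IsPGroup.iff_card] at h3 ⊢
        simpa [Nat.card_zpowers, Subgroup.orderOf_coe] using h3
      exact hrk a ha x (hall _ hxp hx1) (mem_centralizer_singleton_iff.mp x.2)
  intro g hg
  have h4 : (⟨g, hg⟩ : C) ∈ centralizer (pCore p C : Set C) := by
    rw [mem_centralizer_iff]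
    intro y hy
    obtain ⟨n, hn⟩ := mem_zpowers_iff.mp (h2 y hy)
    apply Subtype.ext
    show (y : G) * g = g * y
    rw [← hn]
    have : Commute g a := mem_centralizer_singleton_iff.mp hg
    exact (this.zpow_right n).eq.symm
  exact h2 _ (h1 h4)

theorem mem_of_dvd (c : Ctx G) (hK : KSet p K)
    (hall : ∀ x : G, IsPGroup p (zpowers x) → x ≠ 1 → x ∈ K)
    (hrk : ∀ a ∈ K, ∀ b ∈ K, Commute b a → b ∈ zpowers a) {g : G} (hg : p ∣ orderOf g) : g ∈ K := by
  obtain ⟨m, hm⟩ := hg
  have hm0 : m ≠ 0 := by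
    rintro rfl
    rw [mul_zero] at hm
    exact (orderOf_pos g).ne' hm
  have h1 : orderOf (g ^ m) = p := by
    rw [orderOf_pow_of_dvd hm0 (by rw [hm]; exact dvd_mul_left _ _), hm,
      Nat.mul_div_cancel _ (Nat.pos_of_ne_zero hm0)]
  have h2 : g ^ m ≠ 1 := by
    intro h
    rw [h, orderOf_one] at h1
    exact hp.out.one_lt.ne h1
  have h3 : g ^ m ∈ K := hall _ (isPGroup_zpowers_of h1) h2
  have h4 : g ∈ centralizer ({g ^ m} : Set G) := mem_centralizer_singleton_iff.mpr (pow_succ' g m ▸ pow_succ g m ▸ rfl)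
  have h5 := centralizer_eq c hK hall hrk h3 h4
  apply hK.zpow_mem h3 h5
  rintro rfl
  simp at h2

/-- exactly one bad element on each line. -/
theorem exists_unique_bad (c : Ctx G) (hK : KSet p K) (hp5 : 5 ≤ p)
    (hall : ∀ x : G, IsPGroup p (zpowers x) → x ≠ 1 → x ∈ K)
    (hrk : ∀ a ∈ K, ∀ b ∈ K, Commute b a → b ∈ zpowers a) {a b : G} (ha : a ∈ K) (hb : b ∈ K) :
    ∃ j : ℕ, ∀ n : ℕ, a ^ n * b ∉ K ↔ p ∣ n + j := by
  have hiff : ∀ x : G, x ∉ K ↔ ¬ p ∣ orderOf x := by
    intro x
    constructor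
    · intro h hd; exact h (mem_of_dvd c hK hall hrk hd)
    · intro h hx; apply h; rw [hK.ord x hx]
  by_cases hba : Commute b a
  · obtain ⟨j, hj⟩ := mem_powers_iff_mem_zpowers.mpr (hrk a ha b hb hba)
    refine ⟨j, fun n => ?_⟩
    simp only at hj
    rw [hiff, ← hj, ← pow_add]
    constructor
    · intro h
      by_contra hd
      apply h
      have hcop : (orderOf a).Coprime (n + j) := by
        rw [hK.ord a ha]; exact (Nat.Prime.coprime_iff_not_dvd hp.out).mpr hd
      rw [hcop.orderOf_pow, hK.ord a ha]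
    · rintro ⟨m, hm⟩
      rw [hm, pow_mul]
      have : a ^ p = 1 := orderOf_dvd_iff_pow_eq_one.mp (dvd_of_eq (hK.ord a ha))
      rw [this, one_pow, orderOf_one]
      exact hp.out.one_lt.ne' ∘ Nat.dvd_one.mp
  · have hn : b ∉ normalizer (AA c hK hp5 ha : Set G) := fun h => hba (norm_K c hK hp5 ha hb h)
    rcases line_lemma c hK hp5 hall ha hn with h | ⟨j, hj⟩
    · exfalso
      have := h 0
      rw [pow_zero, one_mul, hK.ord b hb] at this
      exact this dvd_rfl
    · refine ⟨j, fun n => ?_⟩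
      rw [hiff, hj]

open Classical in
/-- `K` as a finset. -/
noncomputable def SK (G : Type u) [Group G] [Finite G] (K : Set G) : Finset G :=
  haveI := Fintype.ofFinite G
  Finset.univ.filter (· ∈ K)

omit [Group G] in
theorem mem_SK' {G : Type u} [Group G] [Finite G] {K : Set G} {x : G} : x ∈ SK G K ↔ x ∈ K := by
  simp [SK]

open Classical in
theorem bad_card (c : Ctx G) (hK : KSet p K) (hp5 : 5 ≤ p)
    (hall : ∀ x : G, IsPGroup p (zpowers x) → x ≠ 1 → x ∈ K)
    (hrk : ∀ a ∈ K, ∀ b ∈ K, Commute b a → b ∈ zpowers a) {a : G} (ha : a ∈ K) :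
    (p - 1) * ((SK G K).filter (fun b => a * b ∉ K)).card ≤ (SK G K).card := by
  have hinv : ∀ x : G, x⁻¹ ∈ K ↔ x ∈ K :=
    fun x => ⟨fun h => by simpa using hK.inv_mem h, fun h => hK.inv_mem h⟩
  have hu : ∀ b ∈ K, ∃ j : ℕ, ∀ n : ℕ, a * b ^ n ∉ K ↔ p ∣ n + j := by
    intro b hb
    obtain ⟨j, hj⟩ := exists_unique_bad c hK hp5 hall hrk (hK.inv_mem hb) (hK.inv_mem ha)
    refine ⟨j, fun n => ?_⟩
    rw [← hj, ← hinv (a * b ^ n), mul_inv_rev, inv_pow]
  have hcard : (p - 1) * ((SK G K).filter (fun b => a * b ∉ K)).card =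
      (((SK G K).filter (fun b => a * b ∉ K)) ×ˢ Finset.Ico 1 p).card := by
    rw [Finset.card_product, Nat.card_Ico, mul_comm]
  rw [hcard]
  apply Finset.card_le_card_of_injOn (fun bt => bt.1 ^ bt.2)
  · rintro ⟨b, t⟩ h
    simp only [Finset.coe_product, Set.mem_prod, Finset.mem_coe, Finset.mem_filter, mem_SK',
      Finset.mem_Ico] at h
    obtain ⟨⟨hb, -⟩, ht1, htp⟩ := h
    simp only [Finset.mem_coe, mem_SK']
    apply hK.pow b hb
    intro h1
    rw [← orderOf_dvd_iff_pow_eq_one, hK.ord b hb] at h1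
    have := Nat.le_of_dvd (by omega) h1
    omega
  · rintro ⟨b, t⟩ h ⟨b', t'⟩ h' heq
    simp only [Finset.coe_product, Set.mem_prod, Finset.mem_coe, Finset.mem_filter, mem_SK',
      Finset.mem_Ico] at h h'
    obtain ⟨⟨hb, hbad⟩, ht1, htp⟩ := h
    obtain ⟨⟨hb', hbad'⟩, ht1', htp'⟩ := h'
    simp only at heq
    have hcop : t'.Coprime (orderOf b') := by
      rw [hK.ord b' hb', Nat.coprime_comm, Nat.Prime.coprime_iff_not_dvd hp.out]
      intro hd
      have := Nat.le_of_dvd (by omega) hd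
      omega
    obtain ⟨m, hm⟩ := exists_pow_eq_self_of_coprime hcop
    rw [← heq, ← pow_mul] at hm
    obtain ⟨j, hj⟩ := hu b hb
    have h1 : p ∣ 1 + j := by rw [← hj, pow_one]; exact hbad
    have h2 : p ∣ t * m + j := by rw [← hj, hm]; exact hbad'
    have h3 : t * m ≡ 1 [MOD p] := by
      apply Nat.ModEq.add_right_cancel' j
      exact ((Nat.modEq_zero_iff_dvd.mpr h2)).trans (Nat.modEq_zero_iff_dvd.mpr h1).symm
    have h4 : b' = b := by
      rw [← hm]
      conv_rhs => rw [← pow_one b]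
      rw [pow_eq_pow_iff_modEq, hK.ord b hb]
      exact h3
    subst h4
    have h5 : t ≡ t' [MOD p] := by
      rw [← hK.ord b' hb', ← pow_eq_pow_iff_modEq]; exact heq
    have h6 : t = t' := Nat.ModEq.eq_of_lt_of_lt h5 htp htp'
    rw [h6]

open Classical in
/-- `K³ ⊆ K K`. -/
theorem triple (c : Ctx G) (hK : KSet p K) (hp5 : 5 ≤ p)
    (hall : ∀ x : G, IsPGroup p (zpowers x) → x ≠ 1 → x ∈ K)
    (hrk : ∀ a ∈ K, ∀ b ∈ K, Commute b a → b ∈ zpowers a) {a b d : G} (ha : a ∈ K) (hb : b ∈ K) (hd : d ∈ K) :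
    ∃ y ∈ K, ∃ x ∈ K, a * b * d = y * x := by
  by_contra hcon
  push Not at hcon
  have h1 := bad_card c hK hp5 hall hrk ha
  have h2 := bad_card c hK hp5 hall hrk hb
  have h3 := bad_card c hK hp5 hall hrk hd
  set S := SK G K with hS
  have hsub : S ⊆ S.filter (fun x => d * x ∉ K) ∪ (S.filter (fun x => b * x ∉ K)).image (fun x => d⁻¹ * x) ∪
      (S.filter (fun x => a * x ∉ K)).image (fun x => d⁻¹ * (b⁻¹ * x)) := by
    intro x hx
    have hxK : x ∈ K := mem_SK'.mp hx
    simp only [Finset.mem_union, Finset.mem_filter, Finset.mem_image]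
    by_cases h4 : d * x ∈ K
    · by_cases h5 : b * (d * x) ∈ K
      · right
        refine ⟨b * (d * x), ⟨mem_SK'.mpr h5, fun h6 => ?_⟩, by group⟩
        apply hcon _ h6 x⁻¹ (hK.inv_mem hxK)
        group
      · left; right
        exact ⟨d * x, ⟨mem_SK'.mpr h4, h5⟩, by group⟩
    · left; left
      exact ⟨hx, h4⟩
  have h4 := Finset.card_le_card hsub
  have h5 := Finset.card_union_le (S.filter (fun x => d * x ∉ K) ∪
    (S.filter (fun x => b * x ∉ K)).image (fun x => d⁻¹ * x)) ((S.filter (fun x => a * x ∉ K)).image (fun x => d⁻¹ * (b⁻¹ * x)))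
  have h6 := Finset.card_union_le (S.filter (fun x => d * x ∉ K))
    ((S.filter (fun x => b * x ∉ K)).image (fun x => d⁻¹ * x))
  have h7 := Finset.card_image_le (s := S.filter (fun x => b * x ∉ K)) (f := fun x => d⁻¹ * x)
  have h8 := Finset.card_image_le (s := S.filter (fun x => a * x ∉ K)) (f := fun x => d⁻¹ * (b⁻¹ * x))
  have h9 : 0 < S.card := Finset.card_pos.mpr ⟨a, mem_SK'.mpr ha⟩
  set A := (S.filter (fun x => a * x ∉ K)).card
  set B := (S.filter (fun x => b * x ∉ K)).card
  set D := (S.filter (fun x => d * x ∉ K)).card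
  have h10 : S.card ≤ D + B + A := by omega
  have h11 : (p - 1) * S.card ≤ (p - 1) * (D + B + A) := Nat.mul_le_mul_left _ h10
  have h12 : (p - 1) * (D + B + A) ≤ 3 * S.card := by
    rw [mul_add, mul_add]; omega
  have h13 : 4 * S.card ≤ (p - 1) * S.card := Nat.mul_le_mul_right _ (by omega)
  omega

open Classical in
/-- `G = K K`. -/
theorem eq_KK (c : Ctx G) (hK : KSet p K) (hp5 : 5 ≤ p) (hne : K.Nonempty)
    (hall : ∀ x : G, IsPGroup p (zpowers x) → x ≠ 1 → x ∈ K)
    (hrk : ∀ a ∈ K, ∀ b ∈ K, Commute b a → b ∈ zpowers a) (g : G) : ∃ a ∈ K, ∃ b ∈ K, g = a * b := by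
  have hsimp := c.simple
  obtain ⟨a₀, ha₀⟩ := hne
  let T : Subgroup G :=
    { carrier := {g | ∃ a ∈ K, ∃ b ∈ K, g = a * b}
      one_mem' := ⟨a₀, ha₀, a₀⁻¹, hK.inv_mem ha₀, by group⟩
      mul_mem' := by
        rintro x y ⟨a, ha, b, hb, rfl⟩ ⟨d, hd, e, he, rfl⟩
        obtain ⟨y, hy, x, hx, hyx⟩ := triple c hK hp5 hall hrk ha hb hd
        obtain ⟨y', hy', x', hx', hyx'⟩ := triple c hK hp5 hall hrk hy hx he
        refine ⟨y', hy', x', hx', ?_⟩
        rw [← hyx', ← hyx]; group
      inv_mem' := by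
        rintro x ⟨a, ha, b, hb, rfl⟩
        exact ⟨b⁻¹, hK.inv_mem hb, a⁻¹, hK.inv_mem ha, by group⟩ }
  have hTn : T.Normal := by
    refine ⟨?_⟩
    rintro x ⟨a, ha, b, hb, rfl⟩ g
    exact ⟨g * a * g⁻¹, hK.conj a ha g, g * b * g⁻¹, hK.conj b hb g, by group⟩
  have hT : T = ⊤ := by
    rcases hTn.eq_bot_or_eq_top with h | h
    · exfalso
      have h1 : a₀ * a₀ ∈ T := ⟨a₀, ha₀, a₀, ha₀, rfl⟩
      rw [h, mem_bot, ← pow_two, ← orderOf_dvd_iff_pow_eq_one, hK.ord a₀ ha₀] at h1
      have := Nat.le_of_dvd (by norm_num) h1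
      omega
    · exact h
  have : g ∈ T := by rw [hT]; trivial
  exact this

open Classical in
theorem card_bound (c : Ctx G) (hK : KSet p K) (hp5 : 5 ≤ p) (hne : K.Nonempty)
    (hall : ∀ x : G, IsPGroup p (zpowers x) → x ≠ 1 → x ∈ K)
    (hrk : ∀ a ∈ K, ∀ b ∈ K, Commute b a → b ∈ zpowers a) :
    (p - 3) * Nat.card G ≤ (p - 1) * (SK G K).card := by
  haveI := Fintype.ofFinite G
  set S := SK G K with hS
  have h1 : ∀ g : G, (p - 3) * S.card ≤ (p - 1) * (S.filter (fun x => g * x ∈ K)).card := by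
    intro g
    obtain ⟨a, ha, b, hb, rfl⟩ := eq_KK c hK hp5 hne hall hrk g
    have h2 := bad_card c hK hp5 hall hrk ha
    have h3 := bad_card c hK hp5 hall hrk hb
    rw [← hS] at h2 h3
    have hsub : S ⊆ S.filter (fun x => b * x ∉ K) ∪ (S.filter (fun x => a * x ∉ K)).image (fun x => b⁻¹ * x) ∪
        S.filter (fun x => a * b * x ∈ K) := by
      intro x hx
      simp only [Finset.mem_union, Finset.mem_filter, Finset.mem_image]
      by_cases h4 : b * x ∈ K
      · by_cases h5 : a * b * x ∈ K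
        · right; exact ⟨hx, h5⟩
        · left; right
          exact ⟨b * x, ⟨mem_SK'.mpr h4, by rwa [← mul_assoc]⟩, by group⟩
      · left; left
        exact ⟨hx, h4⟩
    have h4 := Finset.card_le_card hsub
    have h5 := Finset.card_union_le (S.filter (fun x => b * x ∉ K) ∪
      (S.filter (fun x => a * x ∉ K)).image (fun x => b⁻¹ * x)) (S.filter (fun x => a * b * x ∈ K))
    have h6 := Finset.card_union_le (S.filter (fun x => b * x ∉ K))
      ((S.filter (fun x => a * x ∉ K)).image (fun x => b⁻¹ * x))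
    have h7 := Finset.card_image_le (s := S.filter (fun x => a * x ∉ K)) (f := fun x => b⁻¹ * x)
    set A := (S.filter (fun x => a * x ∉ K)).card
    set B := (S.filter (fun x => b * x ∉ K)).card
    set D := (S.filter (fun x => a * b * x ∈ K)).card
    have h10 : S.card ≤ B + A + D := by omega
    have h11 : (p - 1) * S.card ≤ (p - 1) * (B + A + D) := Nat.mul_le_mul_left _ h10
    have h12 : (p - 1) * (B + A + D) ≤ 2 * S.card + (p - 1) * D := by
      rw [mul_add, mul_add]; omega
    have h13 : (p - 1) * S.card = (p - 3) * S.card + 2 * S.card := by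
      rw [← add_mul]; congr 1; omega
    omega
  have h2 : ∑ g : G, (S.filter (fun x => g * x ∈ K)).card = S.card * S.card := by
    have e1 : ∀ g : G, (S.filter (fun x => g * x ∈ K)).card = ∑ x ∈ S, if g * x ∈ K then 1 else 0 := by
      intro g; rw [Finset.card_filter]
    simp_rw [e1]
    rw [Finset.sum_comm]
    have e2 : ∀ x ∈ S, (∑ g : G, if g * x ∈ K then 1 else 0) = S.card := by
      intro x _
      have e3 : (∑ g : G, if g * x ∈ K then 1 else 0) = ∑ g : G, if g ∈ K then 1 else 0 :=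
        Fintype.sum_equiv (Equiv.mulRight x) _ _ (fun g => rfl)
      rw [e3, ← Finset.card_filter, hS]
      congr 1
      ext y
      simp [mem_SK']
    rw [Finset.sum_congr rfl e2, Finset.sum_const, smul_eq_mul]
  have h3 : ∑ _g : G, (p - 3) * S.card ≤ ∑ g : G, (p - 1) * (S.filter (fun x => g * x ∈ K)).card :=
    Finset.sum_le_sum (fun g _ => h1 g)
  rw [← Finset.mul_sum (f := fun g : G => (S.filter (fun x => g * x ∈ K)).card), h2, Finset.sum_const, smul_eq_mul,
    Finset.card_univ, ← Nat.card_eq_fintype_card] at h3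
  obtain ⟨a, ha⟩ := hne
  have h9 : 0 < S.card := Finset.card_pos.mpr ⟨a, mem_SK'.mpr ha⟩
  have h10 : ((p - 3) * Nat.card G) * S.card ≤ ((p - 1) * S.card) * S.card := by
    calc ((p - 3) * Nat.card G) * S.card = Nat.card G * ((p - 3) * S.card) := by ring
      _ ≤ (p - 1) * (S.card * S.card) := h3
      _ = ((p - 1) * S.card) * S.card := by ring
  exact Nat.le_of_mul_le_mul_right h10 h9

open Classical in
theorem contra (c : Ctx G) (hK : KSet p K) (hp5 : 5 ≤ p) (hne : K.Nonempty)
    (hall : ∀ x : G, IsPGroup p (zpowers x) → x ≠ 1 → x ∈ K)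
    (hrk : ∀ a ∈ K, ∀ b ∈ K, Commute b a → b ∈ zpowers a) : False := by
  have hsimp := c.simple
  haveI := Fintype.ofFinite G
  obtain ⟨a, ha⟩ := hne
  -- Sylow subgroups have order p
  have hSy : ∀ P : Sylow p G, Nat.card P = p := by
    intro P
    have hpd : p ∣ Nat.card G := by rw [← hK.ord a ha]; exact _root_.orderOf_dvd_natCard a
    have hPne : (P : Subgroup G) ≠ ⊥ := P.ne_bot_of_dvd_card hpd
    obtain ⟨x, hx, hx1⟩ := (P : Subgroup G).bot_or_exists_ne_one.resolve_left hPne
    have hmem : ∀ y ∈ (P : Subgroup G), y ≠ 1 → y ∈ K := by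
      intro y hy hy1
      exact hall y (P.isPGroup'.to_le (by rwa [zpowers_le])) hy1
    have hxK := hmem x hx hx1
    have hle : (P : Subgroup G) ≤ zpowers x := by
      intro y hy
      by_cases hy1 : y = 1
      · rw [hy1]; exact one_mem _
      · have hyK := hmem y hy hy1
        exact hrk x hxK y hyK (hK.comm _ P.isPGroup' y hyK x hxK hy hx).1
    have heq : (P : Subgroup G) = zpowers x := le_antisymm hle (by rwa [zpowers_le])
    show Nat.card (P : Subgroup G) = p
    rw [heq, Nat.card_zpowers, hK.ord x hxK]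
  -- the number of elements of K
  have h1 : (SK G K).card ≤ (p - 1) * Nat.card (Sylow p G) := by
    haveI := Fintype.ofFinite (Sylow p G)
    have hex : ∀ x : G, ∃ P : Sylow p G, x ∈ K → x ∈ (P : Subgroup G) := by
      intro x
      by_cases hx : x ∈ K
      · obtain ⟨P, hP⟩ := (hK.isPGroup hx).exists_le_sylow
        exact ⟨P, fun _ => hP (mem_zpowers x)⟩
      · exact ⟨Classical.arbitrary _, fun h => absurd h hx⟩
    choose f hf using hex
    have h2 := Finset.card_le_mul_card_image_of_maps_to (s := SK G K) (t := Finset.univ) (f := f)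
      (fun x _ => Finset.mem_univ _) (p - 1) (by
        intro P _
        have h3 : ((SK G K).filter (fun x => f x = P)) ⊆
            (Finset.univ.filter (fun x => x ∈ (P : Subgroup G))).erase 1 := by
          intro x hx
          simp only [Finset.mem_filter, mem_SK'] at hx
          simp only [Finset.mem_erase, Finset.mem_filter, Finset.mem_univ, true_and]
          refine ⟨hK.ne_one hx.1, ?_⟩
          rw [← hx.2]; exact hf x hx.1
        refine (Finset.card_le_card h3).trans ?_
        rw [Finset.card_erase_of_mem (by simp [one_mem])]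
        have h4 : (Finset.univ.filter (fun x => x ∈ (P : Subgroup G))).card = p := by
          refine Eq.trans ?_ (hSy P)
          rw [Nat.card_eq_fintype_card, Fintype.card_subtype]
        rw [h4])
    rwa [Finset.card_univ, ← Nat.card_eq_fintype_card] at h2
  obtain ⟨P⟩ : Nonempty (Sylow p G) := inferInstance
  set N := normalizer ((P : Subgroup G) : Set G) with hN
  have h2 : Nat.card (Sylow p G) = N.index := Sylow.card_eq_index_normalizer P
  have h3 : Nat.card N * N.index = Nat.card G := Subgroup.card_mul_index N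
  have hPN : (P : Subgroup G) ≤ N := le_normalizer
  have h4 : 2 * p ≤ Nat.card N := by
    have h5 : p ∣ Nat.card N := by
      have := card_dvd_of_le hPN
      rwa [show Nat.card (P : Subgroup G) = p from hSy P] at this
    obtain ⟨m, hm⟩ := h5
    have hpos : 0 < Nat.card N := Nat.card_pos
    by_contra hlt
    push Not at hlt
    have hm1 : m = 1 := by
      rcases Nat.lt_or_ge m 2 with h | h
      · interval_cases m
        · omega
        · rfl
      · exfalso
        have : p * 2 ≤ p * m := Nat.mul_le_mul_left p h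
        omega
    have hNP : N = P := by
      symm
      apply Subgroup.eq_of_le_of_card_ge hPN
      rw [hm, hm1, mul_one]
      exact (hSy P).ge
    have hPcyc : IsMulCommutative (P : Subgroup G) := by
      haveI : IsCyclic (P : Subgroup G) := isCyclic_of_prime_card (hSy P)
      infer_instance
    have hNC : N ≤ centralizer ((P : Subgroup G) : Set G) := by
      rw [hNP]
      exact le_centralizer_iff_isMulCommutative.mpr hPcyc
    have hcomp := MonoidHom.ker_transferSylow_isComplement' P hNC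
    rcases (inferInstance : (MonoidHom.transferSylow P hNC).ker.Normal).eq_bot_or_eq_top with h | h
    · rw [h] at hcomp
      have hPtop : (P : Subgroup G) = ⊤ := isComplement'_bot_left.mp hcomp
      apply c.centralizer_ne_top (hK.ne_one ha)
      rw [eq_top_iff]
      intro g _
      rw [mem_centralizer_singleton_iff]
      have hg : g ∈ (P : Subgroup G) := by rw [hPtop]; trivial
      have ha' : a ∈ (P : Subgroup G) := by rw [hPtop]; trivial
      have := hPcyc.is_comm.comm ⟨g, hg⟩ ⟨a, ha'⟩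
      exact congrArg Subtype.val this
    · rw [h] at hcomp
      have hPbot : (P : Subgroup G) = ⊥ := isComplement'_top_left.mp hcomp
      have := hSy P
      have h6 : Nat.card (P : Subgroup G) = p := this
      rw [hPbot, Subgroup.card_bot] at h6
      omega
  have h5 := card_bound c hK hp5 ⟨a, ha⟩ hall hrk
  have h6 : 0 < Nat.card (Sylow p G) := Nat.card_pos
  set n := Nat.card (Sylow p G) with hn
  rw [← h3, ← h2] at h5
  -- (p-3) * (|N| * n) ≤ (p-1) * |K| ≤ (p-1)^2 n
  have h7 : (p - 3) * (2 * p * n) ≤ (p - 1) * ((p - 1) * n) := by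
    calc (p - 3) * (2 * p * n) ≤ (p - 3) * (Nat.card N * n) :=
          Nat.mul_le_mul_left _ (Nat.mul_le_mul_right _ h4)
      _ ≤ (p - 1) * (SK G K).card := h5
      _ ≤ (p - 1) * ((p - 1) * n) := Nat.mul_le_mul_left _ h1
  have h8 : ((p - 3) * (2 * p)) * n ≤ ((p - 1) * (p - 1)) * n := by
    calc ((p - 3) * (2 * p)) * n = (p - 3) * (2 * p * n) := by ring
      _ ≤ (p - 1) * ((p - 1) * n) := h7
      _ = ((p - 1) * (p - 1)) * n := by ring
  have h9 := Nat.le_of_mul_le_mul_right h8 h6
  obtain ⟨q, rfl⟩ : ∃ q, p = q + 5 := ⟨p - 5, by omega⟩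
  have e1 : q + 5 - 3 = q + 2 := by omega
  have e2 : q + 5 - 1 = q + 4 := by omega
  rw [e1, e2] at h9
  nlinarith

/-- no minimal situation with a strongly closed set. -/
theorem false_of_KSet (c : Ctx G) (hK : KSet p K) (hp5 : 5 ≤ p) (hne : K.Nonempty) : False := by
  have hall : ∀ x : G, IsPGroup p (zpowers x) → x ≠ 1 → x ∈ K := fun x => all_mem c hK hp5 hne
  exact contra c hK hp5 hne hall fun a ha b hb hba => rank_one c hK hp5 hall ha hb hba

end H29.TwoGen
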