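import Cfsg.Agent.Lib.H29.TwoGen6
import Cfsg.Agent.S0118
import Cfsg.Agent.S0144
import Cfsg.Agent.S0605

/-!
Thompson's theorem on groups all of whose 2-generated subgroups are solvable: the theorem.
-/

set_option autoImplicit false

open Cfsg Subgroup

namespace H29.TwoGen

universe u

section

variable {G : Type u} [Group G] [Finite G] {p : ℕ} [hp : Fact p.Prime]

theorem sl_not_solvable (hp5 : 5 ≤ p) : ¬ Group.IsSolvable (Matrix.SpecialLinearGroup (Fin 2) (ZMod p)) := by
  intro h5
  have h6 : Group.IsSolvable (Matrix.ProjectiveSpecialLinearGroup (Fin 2) (ZMod p)) :=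
    Group.isSolvable_of_surjective (QuotientGroup.mk'_surjective _)
  exact H98.DicksonSolv.psl_not_solvable (ZMod p) (by rw [Nat.card_zmod]; omega) h6

theorem free (c : Ctx G) (hp5 : 5 ≤ p) : ¬ ∃ (H K : Subgroup G) (_ : (K.subgroupOf H).Normal),
    Nonempty ((H ⧸ K.subgroupOf H) ≃* Matrix.SpecialLinearGroup (Fin 2) (ZMod p)) := by
  rintro ⟨H, K, hK, ⟨e⟩⟩
  have hsimp := c.simple
  by_cases hH : H = ⊤
  · subst hH
    set f : G →* Matrix.SpecialLinearGroup (Fin 2) (ZMod p) :=
      (e.toMonoidHom.comp (QuotientGroup.mk' _)).comp (Subgroup.topEquiv (G := G)).symm.toMonoidHom with hf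
    have hfs : Function.Surjective f := by
      rw [hf]
      exact (e.surjective.comp (QuotientGroup.mk'_surjective _)).comp (Subgroup.topEquiv (G := G)).symm.surjective
    rcases (inferInstance : f.ker.Normal).eq_bot_or_eq_top with h | h
    · have hinj : Function.Injective f := (MonoidHom.ker_eq_bot_iff f).mp h
      obtain ⟨z, hz⟩ := hfs (-1)
      have hz1 : z ≠ 1 := by
        rintro rfl
        rw [map_one] at hz
        have h1 : ((1 : Matrix.SpecialLinearGroup (Fin 2) (ZMod p)) : Matrix (Fin 2) (Fin 2) (ZMod p)) 0 0 =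
          ((-1 : Matrix.SpecialLinearGroup (Fin 2) (ZMod p)) : Matrix (Fin 2) (Fin 2) (ZMod p)) 0 0 := by
          exact congrArg (fun M : Matrix.SpecialLinearGroup (Fin 2) (ZMod p) => (M : Matrix (Fin 2) (Fin 2) (ZMod p)) 0 0) hz
        simp at h1
        have h2 : (2 : ZMod p) = 0 := by linear_combination h1
        have h3 : ((2 : ℕ) : ZMod p) = 0 := by exact_mod_cast h2
        rw [ZMod.natCast_eq_zero_iff] at h3
        have := Nat.le_of_dvd (by norm_num) h3
        omega
      apply c.centralizer_ne_top hz1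
      rw [eq_top_iff]
      intro g _
      rw [mem_centralizer_singleton_iff]
      apply hinj
      rw [map_mul, map_mul, hz]
      simp
    · apply sl_not_solvable hp5 (p := p)
      have hsub : ∀ x : Matrix.SpecialLinearGroup (Fin 2) (ZMod p), x = 1 := by
        intro x
        obtain ⟨g, rfl⟩ := hfs x
        have : g ∈ f.ker := by rw [h]; trivial
        exact this
      haveI : Subsingleton (Matrix.SpecialLinearGroup (Fin 2) (ZMod p)) :=
        ⟨fun x y => by rw [hsub x, hsub y]⟩
      infer_instance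
  · have hs := c.prop H hH
    apply sl_not_solvable hp5 (p := p)
    have h1 : Group.IsSolvable (H ⧸ K.subgroupOf H) :=
      Group.isSolvable_of_surjective (QuotientGroup.mk'_surjective _)
    exact Group.isSolvable_of_surjective (f := e.toMonoidHom) e.surjective

/-- the strongly closed set given by the ZJ-theorem. -/
theorem exists_KSet (c : Ctx G) (hp5 : 5 ≤ p) (hpd : p ∣ Nat.card G) : ∃ K : Set G, KSet p K ∧ K.Nonempty := by
  obtain ⟨P⟩ : Nonempty (Sylow p G) := inferInstance
  set Z := centerThompsonOf p (P : Subgroup G) with hZ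
  have hZP : Z ≤ (P : Subgroup G) := by
    rw [hZ, centerThompsonOf, thompsonSubgroupOf]
    exact inf_le_left.trans (map_subtype_le _)
  have hZc : ∀ x ∈ Z, ∀ y ∈ Z, Commute x y := by
    intro x hx y hy
    exact (mem_centralizer_iff.mp hy.2 x hx.1)
  have hstrong : ∀ z ∈ Z, ∀ g : G, g * z * g⁻¹ ∈ (P : Subgroup G) → g * z * g⁻¹ ∈ Z := by
    intro z hz g hg
    have h1 := Cfsg.Agent.S0118.result (G := G) (p := p) (by omega) (free c hp5) P {z}
      (by rw [Set.singleton_subset_iff]; exact hZP hz) g⁻¹ (by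
        rintro _ ⟨a, rfl, rfl⟩
        simp only [inv_inv]
        exact hg)
    obtain ⟨n, hn, h2⟩ := h1
    have h3 := h2 z rfl
    rw [inv_inv] at h3
    rw [← h3]
    have hn' := inv_mem hn
    have h4 := (mem_normalizer_iff.mp hn' z).mp hz
    rwa [inv_inv] at h4
  refine ⟨{x | x ≠ 1 ∧ x ^ p = 1 ∧ ∃ g : G, g * x * g⁻¹ ∈ Z}, ⟨?_, ?_, ?_, ?_⟩, ?_⟩
  · rintro a ⟨ha1, hap, -⟩
    exact orderOf_eq_prime hap ha1
  · rintro a ⟨ha1, hap, h, hh⟩ g
    refine ⟨fun h1 => ha1 (by simpa using h1), ?_, h * g⁻¹, ?_⟩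
    · rw [conj_pow, hap]; group
    · have : h * g⁻¹ * (g * a * g⁻¹) * (h * g⁻¹)⁻¹ = h * a * h⁻¹ := by group
      rwa [this]
  · rintro a ⟨ha1, hap, h, hh⟩ n hn
    refine ⟨hn, ?_, h, ?_⟩
    · rw [← pow_mul, mul_comm, pow_mul, hap, one_pow]
    · rw [← conj_pow]; exact pow_mem hh n
  · rintro P' hP' a ⟨ha1, hap, ga, hga⟩ b ⟨hb1, hbp, gb, hgb⟩ haP hbP
    obtain ⟨S, hS⟩ := hP'.exists_le_sylow
    obtain ⟨g, hg⟩ := MulAction.exists_smul_eq G S P
    have hmem : ∀ x ∈ P', g * x * g⁻¹ ∈ (P : Subgroup G) := by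
      intro x hx
      rw [← hg, Sylow.coe_subgroup_smul]
      have h3 := Subgroup.smul_mem_pointwise_smul x (MulAut.conj g) (S : Subgroup G) (hS hx)
      simpa [MulAut.smul_def, MulAut.conj_apply] using h3
    have ha' : g * a * g⁻¹ ∈ Z := by
      have h1 : g * a * g⁻¹ = (g * ga⁻¹) * (ga * a * ga⁻¹) * (g * ga⁻¹)⁻¹ := by group
      rw [h1]
      apply hstrong _ hga
      rw [← h1]
      exact hmem a haP
    have hb' : g * b * g⁻¹ ∈ Z := by
      have h1 : g * b * g⁻¹ = (g * gb⁻¹) * (gb * b * gb⁻¹) * (g * gb⁻¹)⁻¹ := by group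
      rw [h1]
      apply hstrong _ hgb
      rw [← h1]
      exact hmem b hbP
    have hcomm : Commute a b := by
      have h1 : (g * a * g⁻¹) * (g * b * g⁻¹) = (g * b * g⁻¹) * (g * a * g⁻¹) := hZc _ ha' _ hb'
      have h2 : g * (a * b) * g⁻¹ = g * (b * a) * g⁻¹ := by
        have e1 : g * (a * b) * g⁻¹ = (g * a * g⁻¹) * (g * b * g⁻¹) := by group
        have e2 : g * (b * a) * g⁻¹ = (g * b * g⁻¹) * (g * a * g⁻¹) := by group
        rw [e1, e2, h1]
      exact mul_left_cancel (mul_right_cancel h2)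
    refine ⟨hcomm, fun h => ⟨h, ?_, g, ?_⟩⟩
    · rw [hcomm.mul_pow, hap, hbp, one_mul]
    · have : g * (a * b) * g⁻¹ = (g * a * g⁻¹) * (g * b * g⁻¹) := by group
      rw [this]; exact mul_mem ha' hb'
  · -- nonempty
    have hPne : (P : Subgroup G) ≠ ⊥ := P.ne_bot_of_dvd_card hpd
    haveI : Nontrivial (P : Subgroup G) := (nontrivial_iff_ne_bot _).mpr hPne
    haveI := P.isPGroup'.center_nontrivial
    have hZp : IsPGroup p (center (P : Subgroup G)) := P.isPGroup'.to_subgroup _
    obtain ⟨k, hk⟩ := IsPGroup.iff_card.mp hZp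
    have hpz : p ∣ Nat.card (center (P : Subgroup G)) := by
      rcases k with _ | k
      · rw [pow_zero] at hk
        have := Finite.one_lt_card (α := center (P : Subgroup G))
        omega
      · rw [hk]; exact dvd_pow_self p (by omega)
    obtain ⟨z, hz⟩ := exists_prime_orderOf_dvd_card' p hpz
    have hzo : orderOf (z : (P : Subgroup G)) = p := by rw [Subgroup.orderOf_coe, hz]
    have hzC : (z : (P : Subgroup G)) ∈ centralizer (thompsonSubgroup p (P : Subgroup G) : Set (P : Subgroup G)) := by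
      rw [mem_centralizer_iff]
      intro y _
      exact (mem_center_iff.mp z.2 y)
    have hzJ := Cfsg.Agent.S0605.result (G := (P : Subgroup G)) (p := p) (z : (P : Subgroup G)) hzC hzo
    refine ⟨((z : (P : Subgroup G)) : G), ?_, ?_, 1, ?_⟩
    · intro h
      have h1 : orderOf ((z : (P : Subgroup G)) : G) = p := by rw [Subgroup.orderOf_coe, hzo]
      rw [h, orderOf_one] at h1
      omega
    · have h1 : orderOf ((z : (P : Subgroup G)) : G) = p := by rw [Subgroup.orderOf_coe, hzo]
      exact orderOf_dvd_iff_pow_eq_one.mp (dvd_of_eq h1)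
    · simp only [one_mul, inv_one, mul_one]
      rw [hZ, centerThompsonOf, thompsonSubgroupOf]
      refine ⟨⟨_, hzJ, rfl⟩, ?_⟩
      refine mem_centralizer_iff.mpr ?_
      rintro _ ⟨y, _, rfl⟩
      exact congrArg Subtype.val (mem_center_iff.mp z.2 y)

omit hp in
/-- a prime divisor at least `5`. -/
theorem exists_prime (c : Ctx G) : ∃ q : ℕ, q.Prime ∧ 5 ≤ q ∧ q ∣ Nat.card G := by
  have hsimp := c.simple
  by_contra hcon
  push Not at hcon
  obtain ⟨a, m, hm, hn⟩ := Nat.exists_eq_pow_mul_and_not_dvd (Nat.card_pos (α := G)).ne' 2 (by norm_num)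
  have hm0 : m ≠ 0 := by rintro rfl; simp at hm
  obtain ⟨b, k, hk, hmk⟩ := Nat.exists_eq_pow_mul_and_not_dvd hm0 3 (by norm_num)
  have hk1 : k = 1 := by
    by_contra hk1
    obtain ⟨q, hq, hqk⟩ := Nat.exists_prime_and_dvd hk1
    have h2 : q ≠ 2 := by
      rintro rfl
      apply hm; rw [hmk]; exact dvd_mul_of_dvd_right hqk _
    have h3 : q ≠ 3 := by rintro rfl; exact hk hqk
    have h4 : q ≠ 4 := by rintro rfl; norm_num at hq
    have h5 : 5 ≤ q := by have := hq.two_le; omega
    exact hcon q hq h5 (by rw [hn, hmk]; exact dvd_mul_of_dvd_right (dvd_mul_of_dvd_right hqk _) _)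
  have hcard : Nat.card G = 2 ^ a * 3 ^ b := by rw [hn, hmk, hk1, mul_one]
  have hs : Group.IsSolvable G := Cfsg.Agent.S0144.result 2 3 a b (by norm_num) (by norm_num) hcard
  have hcomm := IsSimpleGroup.comm_iff_isSolvable.mpr hs
  obtain ⟨x, hx⟩ := exists_ne (1 : G)
  apply c.centralizer_ne_top hx
  rw [eq_top_iff]
  intro g _
  exact mem_centralizer_singleton_iff.mpr (hcomm g x)

omit hp in
theorem ctx_false (c : Ctx G) : False := by
  obtain ⟨q, hq, hq5, hqd⟩ := exists_prime c
  haveI : Fact q.Prime := ⟨hq⟩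
  obtain ⟨K, hK, hne⟩ := exists_KSet c hq5 hqd
  exact false_of_KSet c hK hq5 hne

end

/-- Thompson's theorem. -/
theorem thompson_two_gen : ∀ (n : ℕ) (G : Type u) [Group G] [Finite G], Nat.card G = n →
    (∀ a b : G, Group.IsSolvable (closure ({a, b} : Set G))) → Group.IsSolvable G := by
  intro n
  induction n using Nat.strong_induction_on with
  | _ n ih =>
  intro G _ _ hcard h
  by_contra hns
  have hsub : ∀ H : Subgroup G, H ≠ ⊤ → Group.IsSolvable H := by
    intro H hH
    have hlt : Nat.card H < n := by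
      rw [← hcard]
      exact lt_of_le_of_ne (Subgroup.card_le_card_group H) (fun h => hH (Subgroup.eq_top_of_card_eq H h))
    refine ih _ hlt H rfl ?_
    intro a b
    have h1 := h a b
    have h2 : (closure ({a, b} : Set H)).map H.subtype = closure ({(a : G), (b : G)} : Set G) := by
      rw [MonoidHom.map_closure, Set.image_pair]; rfl
    have e : closure ({a, b} : Set H) ≃* closure ({(a : G), (b : G)} : Set G) :=
      (Subgroup.equivMapOfInjective _ H.subtype H.subtype_injective).trans (MulEquiv.subgroupCongr h2)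
    exact Group.isSolvable_of_surjective (f := e.symm.toMonoidHom) e.symm.surjective
  have hquot : ∀ N : Subgroup G, N.Normal → N ≠ ⊥ → N ≠ ⊤ → False := by
    intro N hN hbot htop
    have hlt : Nat.card (G ⧸ N) < n := by
      rw [← hcard, ← Subgroup.index, ← Subgroup.card_mul_index N]
      have h1 : 1 < Nat.card N := by
        have := Subgroup.one_lt_card_iff_ne_bot N
        exact this.mpr hbot
      have h2 : 0 < N.index := Nat.pos_of_ne_zero N.index_ne_zero_of_finite
      nlinarith
    have hs1 := hsub N htop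
    have hs2 : Group.IsSolvable (G ⧸ N) := by
      refine ih _ hlt (G ⧸ N) rfl ?_
      intro a b
      obtain ⟨x, rfl⟩ := QuotientGroup.mk'_surjective N a
      obtain ⟨y, rfl⟩ := QuotientGroup.mk'_surjective N b
      have h1 := h x y
      have h2 : (closure ({x, y} : Set G)).map (QuotientGroup.mk' N) =
          closure ({QuotientGroup.mk' N x, QuotientGroup.mk' N y} : Set (G ⧸ N)) := by
        rw [MonoidHom.map_closure, Set.image_pair]
      rw [← h2]
      exact Group.isSolvable_of_surjective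
        ((QuotientGroup.mk' N).subgroupMap_surjective (closure ({x, y} : Set G)))
    apply hns
    exact Group.isSolvable_of_ker_le_range N.subtype (QuotientGroup.mk' N) (by simp)
  have hnt : Nontrivial G := by
    by_contra hnt
    rw [not_nontrivial_iff_subsingleton] at hnt
    exact hns inferInstance
  have hsimp : IsSimpleGroup G := by
    refine { exists_pair_ne := hnt.exists_pair_ne, eq_bot_or_eq_top_of_normal := ?_ }
    intro N hN
    by_cases h1 : N = ⊥
    · exact Or.inl h1
    by_cases h2 : N = ⊤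
    · exact Or.inr h2
    exact (hquot N hN h1 h2).elim
  apply ctx_false (G := G) ⟨hsimp, hsub, ?_⟩
  intro a b htop
  apply hns
  have h1 := h a b
  rw [htop] at h1
  exact Group.isSolvable_of_surjective (f := (Subgroup.topEquiv (G := G)).toMonoidHom)
    (Subgroup.topEquiv (G := G)).surjective

end H29.TwoGen
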