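import Cfsg.Agent.Lib.H29.TwoGen7

/-!
If every solubilizer is a subgroup then the group is solvable.
-/

set_option autoImplicit false

open Subgroup

namespace H29.TwoGen

universe u

/-- the solubilizer condition. -/
def SolSub (G : Type u) [Group G] : Prop :=
  ∀ x : G, ∃ H : Subgroup G, (H : Set G) = {y : G | Group.IsSolvable ↥(Subgroup.closure ({x, y} : Set G))}

section

variable {G : Type u} [Group G] [Finite G]

omit [Finite G] in
theorem closure_le_solvable {H K : Subgroup G} (h : K ≤ H) (hH : Group.IsSolvable H) : Group.IsSolvable K :=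
  Group.isSolvable_of_isSolvable_injective (f := Subgroup.inclusion h) (Subgroup.inclusion_injective h)

/-- in a group all of whose proper subgroups are solvable and with no normal subgroups, the solubilizer condition
gives a pair generating the group. -/
theorem simple_case (hsimp : IsSimpleGroup G) (hprop : ∀ H : Subgroup G, H ≠ ⊤ → Group.IsSolvable H)
    (h : SolSub G) (hns : ¬ Group.IsSolvable G) : False := by
  classical
  have hnt : Nontrivial G := inferInstance
  choose S hS using h
  have hmem : ∀ x y : G, y ∈ S x ↔ Group.IsSolvable ↥(Subgroup.closure ({x, y} : Set G)) := by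
    intro x y
    rw [← SetLike.mem_coe, hS x]; rfl
  have hsymm : ∀ x y : G, y ∈ S x ↔ x ∈ S y := by
    intro x y
    rw [hmem, hmem, Set.pair_comm]
  have hself : ∀ x : G, x ∈ S x := by
    intro x
    rw [hmem, Set.pair_eq_singleton, ← zpowers_eq_closure]
    infer_instance
  have hconj : ∀ x y g : G, y ∈ S x → g * y * g⁻¹ ∈ S (g * x * g⁻¹) := by
    intro x y g hy
    rw [hmem] at hy ⊢
    have h1 : Subgroup.closure ({g * x * g⁻¹, g * y * g⁻¹} : Set G) =
        (Subgroup.closure ({x, y} : Set G)).map (MulAut.conj g).toMonoidHom := by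
      rw [MonoidHom.map_closure, Set.image_pair]; rfl
    rw [h1]
    exact Group.isSolvable_of_surjective
      ((MulAut.conj g).toMonoidHom.subgroupMap_surjective (Subgroup.closure ({x, y} : Set G)))
  -- if a solubilizer is everything for one nonidentity element then it is so for all
  have hall : ∀ x : G, x ≠ 1 → S x ≠ ⊤ := by
    intro x hx hxt
    apply hns
    refine thompson_two_gen _ G rfl ?_
    intro a b
    rw [← hmem]
    have h1 : normalClosure ({x} : Set G) ≤ S a := by
      rw [normalClosure, closure_le]
      intro z hz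
      obtain ⟨y, hy, hyz⟩ := Group.mem_conjugatesOfSet_iff.mp hz
      rw [Set.mem_singleton_iff] at hy
      subst hy
      obtain ⟨g, rfl⟩ := isConj_iff.mp hyz
      rw [SetLike.mem_coe, hsymm]
      have h2 : g⁻¹ * a * g⁻¹⁻¹ ∈ S y := by rw [hxt]; trivial
      have h3 := hconj _ _ g h2
      have h4 : g * (g⁻¹ * a * g⁻¹⁻¹) * g⁻¹ = a := by group
      rwa [h4] at h3
    have h2 : normalClosure ({x} : Set G) = ⊤ := by
      rcases (inferInstance : (normalClosure ({x} : Set G)).Normal).eq_bot_or_eq_top with h | h
      · exfalso
        apply hx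
        have : x ∈ normalClosure ({x} : Set G) := subset_normalClosure (Set.mem_singleton x)
        rw [h] at this
        exact mem_bot.mp this
      · exact h
    rw [h2] at h1
    exact h1 trivial
  have hle : ∀ x y : G, x ≠ 1 → y ∈ S x → S x ≤ S y := by
    intro x y hx hy z hz
    rw [hmem]
    refine closure_le_solvable (H := S x) ?_ (hprop _ (hall x hx))
    rw [closure_le]
    rintro w (rfl | rfl)
    · exact hy
    · exact hz
  have heq : ∀ x y : G, x ≠ 1 → y ≠ 1 → y ∈ S x → S x = S y := by
    intro x y hx hy hxy
    exact le_antisymm (hle x y hx hxy) (hle y x hy ((hsymm x y).mp hxy))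
  -- self-normalizing
  have hnorm : ∀ x : G, x ≠ 1 → normalizer (S x : Set G) ≤ S x := by
    intro x hx g hg
    rw [hmem]
    have hlt : normalizer (S x : Set G) ≠ ⊤ := by
      intro htop
      haveI : (S x).Normal := normalizer_eq_top_iff.mp htop
      rcases (inferInstance : (S x).Normal).eq_bot_or_eq_top with h | h
      · apply hx
        have h1 := hself x
        rw [h] at h1
        exact mem_bot.mp h1
      · exact hall x hx h
    refine closure_le_solvable (H := normalizer (S x : Set G)) ?_ (hprop _ hlt)
    rw [closure_le]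
    rintro w (rfl | rfl)
    · exact le_normalizer (hself w)
    · exact hg
  -- the sets
  set U : G → Set G := fun x => {z | z ≠ 1 ∧ ∃ h : G, h⁻¹ * z * h ∈ S x} with hU
  -- bijection
  have hcard : ∀ x : G, x ≠ 1 → Nat.card (U x) + (S x).index = Nat.card G := by
    intro x hx
    let f : (G ⧸ S x) × {m : S x // m ≠ 1} → U x := fun q =>
      ⟨q.1.out * ((q.2 : S x) : G) * q.1.out⁻¹, by
        refine ⟨?_, q.1.out, ?_⟩
        · intro h
          apply q.2.2
          have h1 : ((q.2 : S x) : G) = 1 := by
            have : ((q.2 : S x) : G) = q.1.out⁻¹ * (q.1.out * ((q.2 : S x) : G) * q.1.out⁻¹) * q.1.out := by group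
            rw [this, h]; group
          exact Subtype.ext h1
        · have : q.1.out⁻¹ * (q.1.out * ((q.2 : S x) : G) * q.1.out⁻¹) * q.1.out = ((q.2 : S x) : G) := by group
          rw [this]
          exact (q.2 : S x).2⟩
    have hf : Function.Bijective f := by
      constructor
      · rintro ⟨a, m, hm⟩ ⟨b, n, hn⟩ hab
        have h1 : a.out * (m : G) * a.out⁻¹ = b.out * (n : G) * b.out⁻¹ := congrArg Subtype.val hab
        have hmG : (m : G) ≠ 1 := fun h => hm (Subtype.ext h)
        have hnG : (n : G) ≠ 1 := fun h => hn (Subtype.ext h)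
        set c := b.out⁻¹ * a.out with hc
        have h2 : c * (m : G) * c⁻¹ = n := by
          have : c * (m : G) * c⁻¹ = b.out⁻¹ * (a.out * (m : G) * a.out⁻¹) * b.out := by rw [hc]; group
          rw [this, h1]; group
        have hSm : S x = S (m : G) := heq x m hx hmG m.2
        have hSn : S x = S (n : G) := heq x n hx hnG n.2
        have hcn : c ∈ S x := by
          apply hnorm x hx
          rw [mem_normalizer_iff]
          intro y
          constructor
          · intro hy
            have hy : y ∈ S x := hy
            rw [hSm] at hy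
            have h3 := hconj _ _ c hy
            rw [h2, ← hSn] at h3
            exact h3
          · intro hy
            have hy : c * y * c⁻¹ ∈ S x := hy
            rw [hSn] at hy
            have h3 := hconj _ _ c⁻¹ hy
            have h4 : c⁻¹ * (n : G) * c⁻¹⁻¹ = m := by rw [← h2]; group
            have h5 : c⁻¹ * (c * y * c⁻¹) * c⁻¹⁻¹ = y := by group
            rw [h4, h5, ← hSm] at h3
            exact h3
        have hab' : a = b := by
          have h3 : (QuotientGroup.mk b.out : G ⧸ S x) = QuotientGroup.mk a.out := by
            rw [QuotientGroup.eq]; exact hcn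
          rw [QuotientGroup.out_eq', QuotientGroup.out_eq'] at h3
          exact h3.symm
        subst hab'
        have h3 : (m : G) = n := by
          have h4 := mul_left_cancel (mul_right_cancel h1)
          exact h4
        have h5 : m = n := Subtype.ext h3
        subst h5
        rfl
      · rintro ⟨z, hz1, h, hh⟩
        set a : G ⧸ S x := QuotientGroup.mk h with ha
        have h1 : a.out⁻¹ * h ∈ S x := by
          rw [← QuotientGroup.eq, QuotientGroup.out_eq']
        set n := a.out⁻¹ * h with hn
        have h2 : a.out⁻¹ * z * a.out ∈ S x := by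
          have : a.out⁻¹ * z * a.out = n * (h⁻¹ * z * h) * n⁻¹ := by rw [hn]; group
          rw [this]
          exact (S x).mul_mem ((S x).mul_mem h1 hh) ((S x).inv_mem h1)
        refine ⟨(a, ⟨⟨a.out⁻¹ * z * a.out, h2⟩, ?_⟩), ?_⟩
        · intro h3
          apply hz1
          have h4 : a.out⁻¹ * z * a.out = 1 := congrArg Subtype.val h3
          have : z = a.out * (a.out⁻¹ * z * a.out) * a.out⁻¹ := by group
          rw [this, h4]; group
        · apply Subtype.ext
          show a.out * (a.out⁻¹ * z * a.out) * a.out⁻¹ = z
          group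
    have h1 : Nat.card (U x) = (S x).index * (Nat.card (S x) - 1) := by
      rw [← Nat.card_congr (Equiv.ofBijective f hf), Nat.card_prod]
      congr 1
      have h8 := Set.ncard_add_ncard_compl ({1} : Set (S x))
      rw [Set.ncard_singleton] at h8
      have h9 : Nat.card {m : S x // m ≠ 1} = (({1} : Set (S x))ᶜ).ncard := by
        rw [← Nat.card_coe_set_eq]; rfl
      rw [h9]; omega
    have h2 : 1 ≤ Nat.card (S x) := Nat.card_pos
    have h3 := (S x).card_mul_index
    obtain ⟨k, hk⟩ := Nat.exists_eq_add_of_le h2
    rw [h1, ← h3, hk]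
    have : 1 + k - 1 = k := by omega
    rw [this]; ring
  have hidx2 : ∀ x : G, x ≠ 1 → 2 * (S x).index ≤ Nat.card G := by
    intro x hx
    have h3 := (S x).card_mul_index
    have h4 : 1 < Nat.card (S x) := by
      have hb : S x ≠ ⊥ := by
        intro h
        apply hx
        have h1 := hself x
        rw [h] at h1
        exact mem_bot.mp h1
      haveI := (nontrivial_iff_ne_bot (S x)).mpr hb
      exact Finite.one_lt_card
    calc 2 * (S x).index ≤ Nat.card (S x) * (S x).index := Nat.mul_le_mul_right _ h4
      _ = Nat.card G := h3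
  obtain ⟨x, hx⟩ := exists_ne (1 : G)
  have hidx1 : 1 < (S x).index := by
    have h1 : (S x).index ≠ 1 := fun h => hall x hx (index_eq_one.mp h)
    have h2 : (S x).index ≠ 0 := index_ne_zero_of_finite
    omega
  -- an element outside
  have hex : ∃ y : G, y ≠ 1 ∧ y ∉ U x := by
    by_contra hcon
    push Not at hcon
    have h1 : ({1} : Set G)ᶜ ⊆ U x := fun y hy => hcon y hy
    have h2 : Nat.card (({1} : Set G)ᶜ : Set G) ≤ Nat.card (U x) :=
      Nat.card_mono (Set.toFinite _) h1
    have h3 : Nat.card (({1} : Set G)ᶜ : Set G) + 1 = Nat.card G := by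
      have := Set.ncard_add_ncard_compl ({1} : Set G)
      rw [Set.ncard_singleton] at this
      rw [Nat.card_coe_set_eq]; omega
    have := hcard x hx
    omega
  obtain ⟨y, hy1, hyU⟩ := hex
  have hdisj : Disjoint (U x) (U y) := by
    rw [Set.disjoint_left]
    rintro z ⟨hz1, h, hh⟩ ⟨-, k, hk⟩
    apply hyU
    refine ⟨hy1, k⁻¹ * h, ?_⟩
    -- S (h⁻¹ z h) = S x, S (k⁻¹ z k) = S y
    have hz1h : h⁻¹ * z * h ≠ 1 := by
      intro h0; apply hz1
      have : z = h * (h⁻¹ * z * h) * h⁻¹ := by group
      rw [this, h0]; group
    have hz1k : k⁻¹ * z * k ≠ 1 := by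
      intro h0; apply hz1
      have : z = k * (k⁻¹ * z * k) * k⁻¹ := by group
      rw [this, h0]; group
    have e1 := heq x _ hx hz1h hh
    have e2 := heq y _ hy1 hz1k hk
    have h3 : y ∈ S (k⁻¹ * z * k) := by rw [← e2]; exact hself y
    have h4 := hconj _ _ (h⁻¹ * k) h3
    rw [e1]
    have h5 : h⁻¹ * k * (k⁻¹ * z * k) * (h⁻¹ * k)⁻¹ = h⁻¹ * z * h := by group
    have h6 : (k⁻¹ * h)⁻¹ * y * (k⁻¹ * h) = h⁻¹ * k * y * (h⁻¹ * k)⁻¹ := by group
    rw [h6, ← h5]
    exact h4
  have hcov : (U x ∪ U y) ⊆ ({1} : Set G)ᶜ := by
    rintro z (hz | hz)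
    · exact hz.1
    · exact hz.1
  have h1 : (U x ∪ U y).ncard ≤ (({1} : Set G)ᶜ).ncard := Set.ncard_le_ncard hcov (Set.toFinite _)
  have h2 : (U x ∪ U y).ncard = (U x).ncard + (U y).ncard := Set.ncard_union_eq hdisj (Set.toFinite _) (Set.toFinite _)
  have h3 : (({1} : Set G)ᶜ).ncard + 1 = Nat.card G := by
    have := Set.ncard_add_ncard_compl ({1} : Set G)
    rw [Set.ncard_singleton] at this
    omega
  have h4 := hcard x hx
  have h5 := hcard y hy1
  have h6 := hidx2 x hx
  have h7 := hidx2 y hy1
  rw [Nat.card_coe_set_eq] at h4 h5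
  omega

end

theorem solsub_solvable : ∀ (n : ℕ) (G : Type u) [Group G] [Finite G], Nat.card G = n → SolSub G →
    Group.IsSolvable G := by
  intro n
  induction n using Nat.strong_induction_on with
  | _ n ih =>
  intro G _ _ hcard h
  by_contra hns
  have hsub : ∀ H : Subgroup G, H ≠ ⊤ → Group.IsSolvable H := by
    intro H hH
    have hlt : Nat.card H < n := by
      rw [← hcard]
      exact lt_of_le_of_ne (Subgroup.card_le_card_group H) (fun h => hH (Subgroup.eq_top_of_card_eq H h))
    refine ih _ hlt H rfl ?_
    intro a
    obtain ⟨S, hS⟩ := h (a : G)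
    refine ⟨S.subgroupOf H, ?_⟩
    ext b
    rw [SetLike.mem_coe, mem_subgroupOf, ← SetLike.mem_coe, hS]
    have h2 : (closure ({a, b} : Set H)).map H.subtype = closure ({(a : G), (b : G)} : Set G) := by
      rw [MonoidHom.map_closure, Set.image_pair]; rfl
    have e : closure ({a, b} : Set H) ≃* closure ({(a : G), (b : G)} : Set G) :=
      (Subgroup.equivMapOfInjective _ H.subtype H.subtype_injective).trans (MulEquiv.subgroupCongr h2)
    constructor
    · intro (hb : Group.IsSolvable _)
      exact Group.isSolvable_of_surjective (f := e.symm.toMonoidHom) e.symm.surjective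
    · intro (hb : Group.IsSolvable _)
      exact Group.isSolvable_of_surjective (f := e.toMonoidHom) e.surjective
  have hquot : ∀ N : Subgroup G, N.Normal → N ≠ ⊥ → N ≠ ⊤ → False := by
    intro N hN hbot htop
    have hlt : Nat.card (G ⧸ N) < n := by
      rw [← hcard, ← Subgroup.index, ← Subgroup.card_mul_index N]
      have h1 : 1 < Nat.card N := by
        have := Subgroup.one_lt_card_iff_ne_bot N
        exact this.mpr hbot
      have h2 : 0 < N.index := Nat.pos_of_ne_zero N.index_ne_zero_of_finite
      nlinarith
    have hs1 := hsub N htop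
    have hs2 : Group.IsSolvable (G ⧸ N) := by
      refine ih _ hlt (G ⧸ N) rfl ?_
      intro a
      obtain ⟨x, rfl⟩ := QuotientGroup.mk'_surjective N a
      obtain ⟨S, hS⟩ := h x
      refine ⟨S.map (QuotientGroup.mk' N), ?_⟩
      ext b
      obtain ⟨y, rfl⟩ := QuotientGroup.mk'_surjective N b
      have h2 : (closure ({x, y} : Set G)).map (QuotientGroup.mk' N) =
          closure ({QuotientGroup.mk' N x, QuotientGroup.mk' N y} : Set (G ⧸ N)) := by
        rw [MonoidHom.map_closure, Set.image_pair]
      constructor
      · rintro ⟨z, hz, hzy⟩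
        have hz' : Group.IsSolvable (closure ({x, z} : Set G)) := by
          rw [hS] at hz; exact hz
        have h3 : (closure ({x, z} : Set G)).map (QuotientGroup.mk' N) =
            closure ({QuotientGroup.mk' N x, QuotientGroup.mk' N y} : Set (G ⧸ N)) := by
          rw [MonoidHom.map_closure, Set.image_pair, hzy]
        show Group.IsSolvable _
        rw [← h3]
        exact Group.isSolvable_of_surjective
          ((QuotientGroup.mk' N).subgroupMap_surjective (closure ({x, z} : Set G)))
      · intro (hb : Group.IsSolvable _)
        refine ⟨y, ?_, rfl⟩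
        rw [hS]
        show Group.IsSolvable (closure ({x, y} : Set G))
        rw [← h2] at hb
        set f := (QuotientGroup.mk' N).subgroupMap (closure ({x, y} : Set G)) with hf
        have hker : Group.IsSolvable f.ker := by
          let j : f.ker →* N := {
            toFun := fun z => ⟨((z : closure ({x, y} : Set G)) : G), by
              have h3 : f (z : closure ({x, y} : Set G)) = 1 := z.2
              have h4 : QuotientGroup.mk' N ((z : closure ({x, y} : Set G)) : G) = 1 := congrArg Subtype.val h3
              exact (QuotientGroup.eq_one_iff _).mp h4⟩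
            map_one' := rfl
            map_mul' := fun _ _ => rfl }
          have hj : Function.Injective j := by
            intro z w hzw
            apply Subtype.ext
            apply Subtype.ext
            have h5 : ((j z : N) : G) = ((j w : N) : G) := by rw [hzw]
            exact h5
          exact Group.isSolvable_of_isSolvable_injective hj
        exact Group.isSolvable_of_ker_le_range f.ker.subtype f (by simp)
    apply hns
    exact Group.isSolvable_of_ker_le_range N.subtype (QuotientGroup.mk' N) (by simp)
  have hnt : Nontrivial G := by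
    by_contra hnt
    rw [not_nontrivial_iff_subsingleton] at hnt
    exact hns inferInstance
  have hsimp : IsSimpleGroup G := by
    refine { exists_pair_ne := hnt.exists_pair_ne, eq_bot_or_eq_top_of_normal := ?_ }
    intro N hN
    by_cases h1 : N = ⊥
    · exact Or.inl h1
    by_cases h2 : N = ⊤
    · exact Or.inr h2
    exact (hquot N hN h1 h2).elim
  exact simple_case hsimp hsub h hns

end H29.TwoGen
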